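import Groth.Agent.Roots36.PosSys

set_option autoImplicit false
set_option linter.unusedSectionVars false
set_option linter.unusedSimpArgs false

open Set Function RootPairing
open scoped Classical

namespace Groth.Agent.Roots36

variable {ι R M N : Type*} [CommRing R] [AddCommGroup M] [Module R M] [AddCommGroup N] [Module R N]
  {P : RootPairing ι R M N} [CharZero R] [IsDomain R] [P.IsCrystallographic] [Fintype ι]

/-- The integer root form on a pair of roots. -/
noncomputable def bz (P : RootPairing ι R M N) [P.IsCrystallographic] (i j : ι) : ℤ :=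
  ∑ k, P.pairingIn ℤ i k * P.pairingIn ℤ j k

/-- The squared length of a root. -/
noncomputable def len (P : RootPairing ι R M N) [P.IsCrystallographic] (i : ι) : ℤ := bz P i i

lemma bz_comm (i j : ι) : bz P i j = bz P j i := by simp [bz, mul_comm]

lemma cast_bz (i j : ι) : (bz P i j : R) = P.RootForm (P.root i) (P.root j) := by
  simp [bz, rootForm_apply_apply, pairing_eq_cast]

lemma cast_len (i : ι) : (len P i : R) = P.RootForm (P.root i) (P.root i) := cast_bz i i

lemma len_pos' (i : ι) : 0 < len P i :=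
  Finset.sum_pos' (fun k _ => mul_self_nonneg _) ⟨i, Finset.mem_univ i, by simp⟩

lemma len_ne_zero (i : ι) : (len P i : R) ≠ 0 := by
  exact_mod_cast (len_pos' (P := P) i).ne'

lemma bz_smul (g : P.Aut) (i j : ι) : bz P (g • i) (g • j) = bz P i j := by
  refine (Fintype.sum_equiv (MulAction.toPerm g) _ _ fun k => ?_).symm
  simp [pairingIn_smul]

lemma len_smul_index (g : P.Aut) (i : ι) : len P (g • i) = len P i := bz_smul g i i

lemma rootForm_root_left (ξ : M) (i : ι) :
    2 * P.RootForm ξ (P.root i) = (len P i : R) * P.coroot' i ξ := by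
  have h := congrArg (P.toLinearMap ξ) (P.rootForm_self_smul_coroot i)
  rw [map_smul, map_nsmul, toLinearMap_apply_apply_Polarization, smul_eq_mul, nsmul_eq_mul] at h
  rw [show P.RootForm ξ (P.root i) = P.RootForm (P.root i) ξ from P.rootForm_symmetric.eq ξ (P.root i),
    cast_len]
  exact_mod_cast h.symm

lemma two_mul_bz (i j : ι) : 2 * bz P i j = len P j * P.pairingIn ℤ i j := by
  have h := rootForm_root_left (P := P) (P.root i) j
  rw [← cast_bz, root_coroot'_eq_pairing, pairing_eq_cast] at h
  exact_mod_cast h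

lemma len_mul_pairingIn (i j : ι) :
    len P j * P.pairingIn ℤ i j = len P i * P.pairingIn ℤ j i := by
  rw [← two_mul_bz, ← two_mul_bz, bz_comm]

lemma len_neg (i : ι) : len P (neg P i) = len P i := by
  rw [← reflection_self_smul, len_smul_index]

/-- The integer functional `B(ξ, ·)` evaluated on a root, for a vector in the span of the roots. -/
lemma len_mul_coroot'_eq_sum {Δ : Set ι} (hΔ : RootD.IsSimpleSys P Δ) (k : ι) (ξ : M) :
    (len P k : R) * P.coroot' k ξ =
      ∑ j, (coef hΔ k j : R) * ((len P j : R) * P.coroot' j ξ) := by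
  rw [← rootForm_root_left, root_eq_comb hΔ k, comb, map_sum, Finset.mul_sum]
  refine Finset.sum_congr rfl fun j _ => ?_
  rw [map_zsmul, zsmul_eq_mul, ← rootForm_root_left]; ring

lemma len_mul_pairingIn_eq_sum {Δ : Set ι} (hΔ : RootD.IsSimpleSys P Δ) (x k : ι) :
    len P k * P.pairingIn ℤ x k = ∑ j, coef hΔ k j * (len P j * P.pairingIn ℤ x j) := by
  have h := len_mul_coroot'_eq_sum hΔ k (P.root x)
  simp only [root_coroot'_eq_pairing, pairing_eq_cast] at h
  exact_mod_cast h

lemma len_smul_coroot_eq_sum {Δ : Set ι} (hΔ : RootD.IsSimpleSys P Δ) (k : ι) :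
    len P k • P.coroot k = ∑ j, (coef hΔ k j * len P j) • P.coroot j := by
  apply P.flip.toPerfPair.injective
  ext ξ
  change P.toLinearMap ξ _ = P.toLinearMap ξ _
  rw [map_zsmul, map_sum, zsmul_eq_mul]
  simp only [map_zsmul, zsmul_eq_mul, Int.cast_mul, mul_assoc]
  exact len_mul_coroot'_eq_sum hΔ k ξ

/-- Positivity of the form on integer combinations of simple roots. -/
lemma quad_pos {Δ : Set ι} (hΔ : RootD.IsSimpleSys P Δ) {c : ι → ℤ} (hc : ∀ j ∉ Δ, c j = 0)
    (hne : c ≠ 0) : 0 < ∑ a, ∑ b, c a * c b * bz P a b := by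
  have e : ∑ a, ∑ b, c a * c b * bz P a b = ∑ k, (∑ a, c a * P.pairingIn ℤ a k) ^ 2 := by
    simp only [bz, Finset.mul_sum, sq, Finset.sum_mul]
    calc
      ∑ a, ∑ b, ∑ k, c a * c b * (P.pairingIn ℤ a k * P.pairingIn ℤ b k)
        = ∑ a, ∑ k, ∑ b, c a * c b * (P.pairingIn ℤ a k * P.pairingIn ℤ b k) :=
          Finset.sum_congr rfl fun a _ => Finset.sum_comm
      _ = ∑ k, ∑ a, ∑ b, c a * c b * (P.pairingIn ℤ a k * P.pairingIn ℤ b k) := Finset.sum_comm
      _ = _ := by
          refine Finset.sum_congr rfl fun k _ => ?_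
          rw [Finset.sum_comm]
          exact Finset.sum_congr rfl fun a _ => Finset.sum_congr rfl fun b _ => by ring
  rw [e]
  refine lt_of_le_of_ne (Finset.sum_nonneg fun k _ => sq_nonneg _) (Ne.symm fun h0 => hne ?_)
  have h1 := (Finset.sum_eq_zero_iff_of_nonneg fun k _ => sq_nonneg _).mp h0
  have hx : comb P c = 0 := by
    refine eq_zero_of_coroot'_eq_zero (P := P) (rootSpan_int_le (P := P) ?_) fun k => ?_
    · exact Submodule.span_mono (Set.image_subset_range _ _) (comb_mem_span (S := Δ) hc)
    · have h2 := pow_eq_zero_iff (two_ne_zero) |>.mp (h1 k (Finset.mem_univ k))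
      have h3 : ((∑ a, c a * P.pairingIn ℤ a k : ℤ) : R) = 0 := by rw [h2]; simp
      rw [comb, map_sum]
      rw [← h3, Int.cast_sum]
      exact Finset.sum_congr rfl fun a _ => by
        rw [map_zsmul, root_coroot'_eq_pairing, zsmul_eq_mul, pairing_eq_cast, Int.cast_mul]
  exact comb_inj hΔ hc (fun _ _ => rfl) (hx.trans (comb_zero (P := P)).symm)

lemma finite_weylGroup {Δ : Set ι} (hΔ : RootD.IsSimpleSys P Δ) : Finite P.weylGroup := by
  refine Finite.of_injective (fun g : P.weylGroup => fun i : ι => (g : P.Aut) • i) fun g h e => ?_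
  apply Subtype.ext
  refine inv_mul_eq_one.mp (eq_one_of_fix_index hΔ (mul_mem (inv_mem g.2) h.2) fun i => ?_)
  rw [mul_smul, inv_smul_eq_iff]
  exact (congrFun e i).symm

/-- Indivisible positive roots have total pairing two with a simple coroot. -/
lemma sum_pairingIn_indiv_posOf {Δ : Set ι} (hΔ : RootD.IsSimpleSys P Δ) {i : ι} (hi : i ∈ Δ) :
    ∑ k ∈ Finset.univ.filter (fun k => k ∈ RootD.posOf P Δ ∧ RootD.IsIndiv P k),
      P.pairingIn ℤ k i = 2 ∧
    ∑ k ∈ Finset.univ.filter (fun k => k ∈ RootD.posOf P Δ ∧ RootD.IsIndiv P k),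
      P.pairingIn ℤ i k = 2 := by
  have hmem : i ∈ Finset.univ.filter (fun k => k ∈ RootD.posOf P Δ ∧ RootD.IsIndiv P k) := by
    simp [simple_mem_posOf hΔ hi, isIndiv_simple hΔ hi]
  have hfix : ∀ k, P.reflectionPerm i k = k → P.pairingIn ℤ k i = 0 := fun k he => by
    have h := congrArg P.root he
    rw [root_reflectionPerm_int, sub_eq_self] at h
    exact zsmul_root_inj P (b := 0) (h.trans (zero_smul ℤ _).symm)
  have hstab : ∀ k ∈ (Finset.univ.filter
      (fun k => k ∈ RootD.posOf P Δ ∧ RootD.IsIndiv P k)).erase i,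
      P.reflectionPerm i k ∈ (Finset.univ.filter
        (fun k => k ∈ RootD.posOf P Δ ∧ RootD.IsIndiv P k)).erase i := by
    intro k hk
    simp only [Finset.mem_erase, Finset.mem_filter, Finset.mem_univ, true_and] at hk ⊢
    obtain ⟨hki, hk, hkind⟩ := hk
    refine ⟨fun e => ?_, reflect_posOf hΔ hi hk (exists_coef_ne_of_not_prop hΔ hi hk hki hkind),
      isIndiv_smul (RootPairing.Equiv.reflection P i) hkind⟩
    have hkn : k = neg P i := by
      rw [← reflection_reflection_smul (P := P) i k, reflection_smul_index i k, e]; rfl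
    exact (neg_posOf_iff hΔ).mp (hkn ▸ hk) (simple_mem_posOf hΔ hi)
  have hflipA : ∀ k, P.pairingIn ℤ (P.reflectionPerm i k) i = -P.pairingIn ℤ k i := fun k => by
    rw [← pairingIn_smul (RootPairing.Equiv.reflection P i) (P.reflectionPerm i k) i,
      reflection_self_smul, ← reflection_smul_index, reflection_reflection_smul, pairingIn_neg_right]
  have hflipB : ∀ k, P.pairingIn ℤ i (P.reflectionPerm i k) = -P.pairingIn ℤ i k := fun k => by
    rw [← pairingIn_smul (RootPairing.Equiv.reflection P i) i (P.reflectionPerm i k),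
      reflection_self_smul, ← reflection_smul_index, reflection_reflection_smul, pairingIn_neg_left]
  refine ⟨?_, ?_⟩
  · rw [← Finset.add_sum_erase _ _ hmem, pairingIn_self, add_eq_left]
    refine Finset.sum_involution (fun k _ => P.reflectionPerm i k) (fun k _ => ?_)
      (fun k _ hne he => hne (hfix k he)) hstab (fun k _ => reflection_reflection_smul i k)
    rw [hflipA]; ring
  · rw [← Finset.add_sum_erase _ _ hmem, pairingIn_self, add_eq_left]
    refine Finset.sum_involution (fun k _ => P.reflectionPerm i k) (fun k _ => ?_)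
      (fun k _ hne he => hne (pairingIn_eq_zero_symm (hfix k he))) hstab
      (fun k _ => reflection_reflection_smul i k)
    rw [hflipB]; ring

/-- The sum of the indivisible positive roots pairs positively with every positive coroot. -/
lemma sum_indiv_posOf_pairing_pos {Δ : Set ι} (hΔ : RootD.IsSimpleSys P Δ) {k : ι}
    (hk : k ∈ RootD.posOf P Δ) :
    0 < ∑ x ∈ Finset.univ.filter (fun x => x ∈ RootD.posOf P Δ ∧ RootD.IsIndiv P x),
      P.pairingIn ℤ x k := by
  set S := Finset.univ.filter (fun x => x ∈ RootD.posOf P Δ ∧ RootD.IsIndiv P x)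
  have e : len P k * ∑ x ∈ S, P.pairingIn ℤ x k = ∑ j, coef hΔ k j * (len P j * 2) := by
    rw [Finset.mul_sum, Finset.sum_congr rfl fun x _ => len_mul_pairingIn_eq_sum hΔ x k,
      Finset.sum_comm]
    refine Finset.sum_congr rfl fun j _ => ?_
    rw [← Finset.mul_sum, ← Finset.mul_sum]
    by_cases hj : j ∈ Δ
    · rw [(sum_pairingIn_indiv_posOf hΔ hj).1]
    · simp [coef_eq_zero hΔ hj]
  have hpos : 0 < ∑ j, coef hΔ k j * (len P j * 2) := by
    obtain ⟨j, -, hj, -⟩ := exists_simple_pairing_pos hΔ hk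
    exact Finset.sum_pos' (fun a _ => mul_nonneg ((posOf_iff hΔ).mp hk a)
      (by have := len_pos' (P := P) a; lia))
      ⟨j, Finset.mem_univ j, mul_pos hj (by have := len_pos' (P := P) j; lia)⟩
  rw [← e] at hpos
  exact (mul_pos_iff_of_pos_left (len_pos' k)).mp hpos

end Groth.Agent.Roots36
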