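import Groth.Agent.Roots36.Simple
import Mathlib.LinearAlgebra.RootSystem.BaseExists

set_option autoImplicit false
set_option linter.unusedSectionVars false
set_option linter.unusedSimpArgs false

open Set Function RootPairing
open scoped Classical

namespace Groth.Agent.Roots36

variable {ι R M N : Type*} [CommRing R] [AddCommGroup M] [Module R M] [AddCommGroup N] [Module R N]
  {P : RootPairing ι R M N}

lemma natSpan_image_smul_iff (g : P.Aut) (S : Set ι) (x : M) :
    g • x ∈ RootD.natSpan P ((g • ·) '' S) ↔ x ∈ RootD.natSpan P S := by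
  have key : ∀ (g : P.Aut) (S : Set ι) (x : M), x ∈ RootD.natSpan P S →
      g • x ∈ RootD.natSpan P ((g • ·) '' S) := by
    intro g S x hx
    induction hx using AddSubmonoid.closure_induction with
    | mem y hy =>
      obtain ⟨i, hi, rfl⟩ := hy
      exact AddSubmonoid.subset_closure ⟨g • i, ⟨i, hi, rfl⟩, root_smul g i⟩
    | zero => rw [smul_zero]; exact zero_mem _
    | add a b _ _ ha hb => rw [smul_add]; exact add_mem ha hb
  refine ⟨fun h => ?_, key g S x⟩
  simpa [Set.image_image] using key g⁻¹ _ _ h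

lemma isSimpleSys_smul (g : P.Aut) {Δ : Set ι} (hΔ : RootD.IsSimpleSys P Δ) :
    RootD.IsSimpleSys P ((g • ·) '' Δ) where
  linInd := by
    apply LinearIndepOn.image_of_comp
    have h2 : LinearIndepOn R ((RootPairing.Equiv.weightHom P g).toLinearMap ∘ P.root) Δ :=
      LinearIndependent.map' hΔ.linInd (RootPairing.Equiv.weightHom P g).toLinearMap
        (LinearEquiv.ker _)
    have e : (P.root ∘ fun i => g • i) = (RootPairing.Equiv.weightHom P g).toLinearMap ∘ P.root := by
      funext i; exact root_smul g i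
    rw [e]; exact h2
  mem_or_neg_mem k := by
    have hk : P.root k = g • P.root (g⁻¹ • k) := by rw [root_smul, smul_inv_smul]
    rcases hΔ.mem_or_neg_mem (g⁻¹ • k) with h | h
    · left; rw [hk, natSpan_image_smul_iff]; exact h
    · right; rw [hk, ← smul_neg, natSpan_image_smul_iff]; exact h

lemma posOf_smul (g : P.Aut) (Δ : Set ι) :
    RootD.posOf P ((g • ·) '' Δ) = (g • ·) '' RootD.posOf P Δ := by
  ext k
  constructor
  · intro h
    refine ⟨g⁻¹ • k, ?_, smul_inv_smul g k⟩
    change P.root (g⁻¹ • k) ∈ RootD.natSpan P Δ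
    rw [← natSpan_image_smul_iff g, root_smul, smul_inv_smul]
    exact h
  · rintro ⟨l, hl, rfl⟩
    change P.root (g • l) ∈ RootD.natSpan P _
    rw [root_smul, natSpan_image_smul_iff]
    exact hl

lemma IsPosSys.isClosedSub {S : Set ι} (hS : RootD.IsPosSys P S) : RootD.IsClosedSub P S :=
  fun i j k hi hj h => hS.sat 1 one_pos (by
    rw [one_nsmul, h]
    exact add_mem (AddSubmonoid.subset_closure ⟨i, hi, rfl⟩) (AddSubmonoid.subset_closure ⟨j, hj, rfl⟩))

variable [CharZero R] [IsDomain R] [P.IsCrystallographic] [Fintype ι] {Δ : Set ι}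
  (hΔ : RootD.IsSimpleSys P Δ)
include hΔ

lemma exists_smul_posOf_subset {S : Set ι} (hcl : RootD.IsClosedSub P S)
    (hcov : ∀ i, i ∈ S ∨ neg P i ∈ S) :
    ∃ g ∈ P.weylGroup, RootD.posOf P ((g • ·) '' Δ) ⊆ S := by
  let good : P.Aut → Set ι := fun g =>
    {k | k ∈ RootD.posOf P ((g • ·) '' Δ) ∧ k ∈ S ∧ RootD.IsIndiv P k}
  let T : Set ℕ := {n | ∃ g ∈ P.weylGroup, (good g).ncard = n}
  have hTne : T.Nonempty := ⟨_, 1, one_mem _, rfl⟩
  have hTfin : T.Finite := (Set.finite_Iic (Nat.card ι)).subset fun n ⟨g, _, hn⟩ =>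
    hn ▸ Set.ncard_le_card (good g)
  obtain ⟨n, ⟨g, hg, hn⟩, hmax⟩ := Set.exists_max_image T id hTfin hTne
  refine ⟨g, hg, ?_⟩
  have hΔ' := isSimpleSys_smul g hΔ
  refine posOf_subset_of_closed hΔ' hcl fun i hi => ?_
  by_contra hiS
  have hni : neg P i ∈ S := (hcov i).resolve_left hiS
  let g' := RootPairing.Equiv.reflection P i * g
  have hg' : g' ∈ P.weylGroup := mul_mem (P.reflection_mem_weylGroup i) hg
  have himg : RootD.posOf P ((g' • ·) '' Δ) =
      (RootPairing.Equiv.reflection P i • ·) '' RootD.posOf P ((g • ·) '' Δ) := by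
    rw [← posOf_smul]
    congr 1
    rw [Set.image_image]
    exact Set.image_congr' fun a => mul_smul _ _ a
  have hii : i ∈ RootD.posOf P ((g • ·) '' Δ) := simple_mem_posOf hΔ' hi
  have h1 : insert (neg P i) (good g) ⊆ good g' := by
    rintro k (rfl | ⟨hk, hkS, hkind⟩)
    · refine ⟨?_, hni, isIndiv_smul (RootPairing.Equiv.reflection P i) (isIndiv_simple hΔ' hi)⟩
      rw [himg]; exact ⟨i, hii, rfl⟩
    · refine ⟨?_, hkS, hkind⟩
      rw [himg]
      refine ⟨P.reflectionPerm i k, ?_, reflection_reflection_smul i k⟩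
      exact reflect_posOf hΔ' hi hk
        (exists_coef_ne_of_not_prop hΔ' hi hk (fun e => hiS (e ▸ hkS)) hkind)
  have h2 : neg P i ∉ good g := fun h => (neg_posOf_iff hΔ').mp h.1 hii
  have h3 := Set.ncard_le_ncard h1 (Set.toFinite _)
  rw [Set.ncard_insert_of_notMem h2] at h3
  have h4 : (good g').ncard ≤ n := hmax _ ⟨g', hg', rfl⟩
  lia

/-- A closed set of roots meeting every opposite pair exactly once is the set of positive roots of
some simple system. -/
lemma exists_smul_posOf_eq {S : Set ι} (hcl : RootD.IsClosedSub P S)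
    (hcov : ∀ i, i ∈ S ∨ neg P i ∈ S) (hdis : ∀ i ∈ S, neg P i ∉ S) :
    ∃ g ∈ P.weylGroup, RootD.posOf P ((g • ·) '' Δ) = S := by
  obtain ⟨g, hg, hsub⟩ := exists_smul_posOf_subset hΔ hcl hcov
  refine ⟨g, hg, hsub.antisymm fun k hk => ?_⟩
  by_contra hk'
  exact hdis k hk (hsub ((neg_posOf_iff (isSimpleSys_smul g hΔ)).mpr hk'))

lemma exists_simple_posOf_eq {S : Set ι} (hcl : RootD.IsClosedSub P S)
    (hcov : ∀ i, i ∈ S ∨ neg P i ∈ S) (hdis : ∀ i ∈ S, neg P i ∉ S) :
    ∃ Δ', RootD.IsSimpleSys P Δ' ∧ RootD.posOf P Δ' = S :=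
  let ⟨g, _, h⟩ := exists_smul_posOf_eq hΔ hcl hcov hdis
  ⟨_, isSimpleSys_smul g hΔ, h⟩

lemma exists_smul_simple_eq {Δ' : Set ι} (hΔ' : RootD.IsSimpleSys P Δ') :
    ∃ g ∈ P.weylGroup, (g • ·) '' Δ = Δ' := by
  have hS := isPosSys_posOf hΔ'
  obtain ⟨g, hg, h⟩ := exists_smul_posOf_eq hΔ (isClosed_posOf hΔ') hS.cover
    fun i hi => hS.disjoint hi
  exact ⟨g, hg, simple_eq_of_posOf_eq (isSimpleSys_smul g hΔ) hΔ' h⟩

lemma eq_one_of_image_simple {g : P.Aut} (hg : g ∈ P.weylGroup) (h : (g • ·) '' Δ = Δ) : g = 1 :=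
  eq_one_of_smul_simple_posOf hΔ hg fun i hi => simple_mem_posOf hΔ (h ▸ ⟨i, hi, rfl⟩)

lemma eq_one_of_fix_index {g : P.Aut} (hg : g ∈ P.weylGroup) (h : ∀ i : ι, g • i = i) : g = 1 :=
  eq_one_of_smul_simple_posOf hΔ hg fun i hi => by rw [h i]; exact simple_mem_posOf hΔ hi

omit hΔ

section Base

/-- The support of a base is a system of simple roots. -/
lemma base_isSimpleSys (b : P.Base) : RootD.IsSimpleSys P (b.support : Set ι) :=
  ⟨b.linearIndepOn_root, b.root_mem_or_neg_mem⟩

lemma height_eq_ht (b : P.Base) (i : ι) : b.height i = ht (base_isSimpleSys b) i := by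
  have h : P.root i = ∑ j ∈ b.support, coef (base_isSimpleSys b) i j • P.root j := by
    rw [root_eq_comb (base_isSimpleSys b) i, comb]
    exact (Finset.sum_subset (Finset.subset_univ _) fun j _ hj => by
      rw [coef_eq_zero (base_isSimpleSys b) hj, zero_smul]).symm
  rw [RootPairing.Base.height_eq_sum h, ht]
  exact Finset.sum_subset (Finset.subset_univ _) fun j _ hj => coef_eq_zero (base_isSimpleSys b) hj

lemma isPos_iff_posOf (b : P.Base) (i : ι) :
    b.IsPos i ↔ i ∈ RootD.posOf P (b.support : Set ι) := by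
  rw [RootPairing.Base.isPos_iff, height_eq_ht]
  exact ⟨fun h => posOf_of_ht_nonneg _ h.le, ht_pos _⟩

end Base

end Groth.Agent.Roots36
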