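import Groth.Agent.Roots36.PosSys
import Mathlib.Algebra.Polynomial.Roots

set_option autoImplicit false
set_option linter.unusedSectionVars false
set_option linter.unusedSimpArgs false

open Set Function RootPairing
open scoped Classical

namespace Groth.Agent.Roots36

variable {ι R M N : Type*} [CommRing R] [LinearOrder R] [IsStrictOrderedRing R]
  [AddCommGroup M] [Module R M] [AddCommGroup N] [Module R N]
  (P : RootPairing ι R M N) [Fintype ι]

/-- A functional which is non-zero on all roots. -/
lemma exists_functional_ne_zero : ∃ f : M →ₗ[R] R, ∀ i, f (P.root i) ≠ 0 := by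
  let e : ι ≃ Fin (Fintype.card ι) := Fintype.equivFin ι
  let p : ι → Polynomial R := fun k => ∑ i, Polynomial.monomial (e i : ℕ) (P.pairing k i)
  have hp : ∀ k, p k ≠ 0 := by
    intro k h
    have h2 : (p k).coeff (e k) = 2 := by
      simp only [p, Polynomial.finsetSum_coeff, Polynomial.coeff_monomial]
      rw [Finset.sum_eq_single k]
      · simp
      · intro i _ hi
        rw [if_neg]
        exact fun he => hi (e.injective (Fin.ext he))
      · simp
    rw [h] at h2; simp at h2
  obtain ⟨t, ht⟩ : ∃ t : R, ∀ k, (p k).eval t ≠ 0 := by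
    by_contra h
    push Not at h
    have h0 : ∏ k, p k = 0 := Polynomial.funext fun t => by
      obtain ⟨k, hk⟩ := h t
      rw [Polynomial.eval_prod, Polynomial.eval_zero]
      exact Finset.prod_eq_zero (Finset.mem_univ k) hk
    obtain ⟨k, -, hk⟩ := Finset.prod_eq_zero_iff.mp h0
    exact hp k hk
  refine ⟨∑ i, t ^ (e i : ℕ) • P.coroot' i, fun k => ?_⟩
  have := ht k
  simp only [p, Polynomial.eval_finsetSum, Polynomial.eval_monomial] at this
  simpa [mul_comm] using this

variable [P.IsCrystallographic]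

/-- A finite crystallographic root pairing over ordered scalars has a system of simple roots. -/
theorem exists_isSimpleSys : ∃ Δ : Set ι, RootD.IsSimpleSys P Δ := by
  obtain ⟨f, hf⟩ := exists_functional_ne_zero P
  let _i := P.indexNeg
  refine ⟨IsAddIndecomposable.baseOf P.root (f : M →+ R),
    P.linearIndepOn_root_baseOf' f hf, fun i => ?_⟩
  exact IsAddIndecomposable.mem_or_neg_mem_closure_baseOf P.root (f : M →+ R) i (hf i) (by simp)

lemma exists_simple_of_closed {S : Set ι} (hcl : RootD.IsClosedSub P S)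
    (hcov : ∀ i, i ∈ S ∨ neg P i ∈ S) (hdis : ∀ i ∈ S, neg P i ∉ S) :
    ∃ Δ, RootD.IsSimpleSys P Δ ∧ RootD.posOf P Δ = S := by
  obtain ⟨Δ, hΔ⟩ := exists_isSimpleSys P
  exact exists_simple_posOf_eq hΔ hcl hcov hdis

lemma exists_simple_of_closed_cover {S : Set ι} (hcl : RootD.IsClosedSub P S)
    (hcov : ∀ i, i ∈ S ∨ neg P i ∈ S) :
    ∃ Δ, RootD.IsSimpleSys P Δ ∧ RootD.posOf P Δ ⊆ S := by
  obtain ⟨Δ, hΔ⟩ := exists_isSimpleSys P
  obtain ⟨g, _, h⟩ := exists_smul_posOf_subset hΔ hcl hcov
  exact ⟨_, isSimpleSys_smul g hΔ, h⟩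

end Groth.Agent.Roots36
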