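import Groth.Agent.Roots36.Cone
import Groth.Agent.Roots36.Exists

set_option autoImplicit false
set_option linter.unusedSectionVars false
set_option linter.unusedSimpArgs false

open Set Function RootPairing
open scoped Classical

namespace Groth.Agent.Roots36

variable {ι M N : Type*} [AddCommGroup M] [AddCommGroup N] {P : RootPairing ι ℤ M N} [Fintype ι]

lemma flip_pairingIn (i j : ι) : P.flip.pairingIn ℤ i j = P.pairingIn ℤ j i := by
  apply FaithfulSMul.algebraMap_injective ℤ ℤ
  simp only [RootPairing.algebraMap_pairingIn]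
  rfl

variable {Δ : Set ι} (hΔ : RootD.IsSimpleSys P Δ)
include hΔ

/-- The simple coroots are linearly independent. -/
lemma coroot_comb_eq_zero {c : ι → ℤ} (hc : ∀ j ∉ Δ, c j = 0) (h : comb P.flip c = 0) : c = 0 := by
  have h1 : ∀ k, ∑ j, c j * P.pairingIn ℤ k j = 0 := fun k => by
    have := congrArg (P.toLinearMap (P.root k)) h
    rw [comb, map_sum, map_zero] at this
    rw [← this]
    refine Finset.sum_congr rfl fun j _ => ?_
    rw [map_zsmul]
    change c j * P.pairingIn ℤ k j = c j • P.pairing k j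
    rw [pairing_eq_cast, Int.cast_id, smul_eq_mul]
  let c' : ι → ℤ := fun j => c j * ∏ x ∈ Finset.univ.erase j, len P x
  have hL : ∀ j, len P j * ∏ x ∈ Finset.univ.erase j, len P x = ∏ x, len P x := fun j =>
    Finset.mul_prod_erase _ _ (Finset.mem_univ j)
  have h2 : comb P c' = 0 := by
    refine eq_zero_of_coroot'_eq_zero (P := P)
      (Submodule.span_mono (Set.image_subset_range _ _)
        (comb_mem_span (S := Δ) fun j hj => by simp [c', hc j hj])) fun k => ?_
    rw [comb, map_sum]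
    apply mul_left_cancel₀ (len_pos' (P := P) k).ne'
    rw [mul_zero, Finset.mul_sum, ← mul_zero (∏ x, len P x), ← h1 k, Finset.mul_sum]
    refine Finset.sum_congr rfl fun j _ => ?_
    rw [map_zsmul, root_coroot'_eq_pairing, pairing_eq_cast, Int.cast_id, smul_eq_mul, ← hL j]
    simp only [c']
    linear_combination (c j * ∏ x ∈ Finset.univ.erase j, len P x) * len_mul_pairingIn (P := P) j k
  have h3 := comb_inj hΔ (c' := 0) (fun j hj => by simp [c', hc j hj]) (fun _ _ => rfl)
    (h2.trans comb_zero.symm)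
  funext j
  have := congrFun h3 j
  exact (mul_eq_zero.mp this).resolve_right
    (Finset.prod_ne_zero_iff.mpr fun x _ => (len_pos' x).ne')

omit hΔ in
lemma exists_half (i : ι) : ∃ r : ι, ∃ e : ℤ, RootD.IsIndiv P i → RootD.IsIndiv P.flip r ∧
    P.coroot i = e • P.coroot r ∧ (e = 1 ∧ r = i ∨ e = 2) := by
  rcases indiv_or_half (P := P.flip) i with h | ⟨h, hh, he⟩
  · exact ⟨i, 1, fun _ => ⟨h, (one_smul ℤ _).symm, Or.inl ⟨rfl, rfl⟩⟩⟩
  · exact ⟨h, 2, fun _ => ⟨hh, he, Or.inr rfl⟩⟩

/-- The indivisible coroot on the line of a simple coroot. -/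
noncomputable def halfIdx (P : RootPairing ι ℤ M N) (i : ι) : ι := (exists_half (P := P) i).choose

/-- The factor by which a simple coroot is a multiple of an indivisible one. -/
noncomputable def halfFac (P : RootPairing ι ℤ M N) (i : ι) : ℤ :=
  (exists_half (P := P) i).choose_spec.choose

lemma half_spec {i : ι} (hi : i ∈ Δ) : RootD.IsIndiv P.flip (halfIdx P i) ∧
    P.coroot i = halfFac P i • P.coroot (halfIdx P i) ∧
      (halfFac P i = 1 ∧ halfIdx P i = i ∨ halfFac P i = 2) :=
  (exists_half (P := P) i).choose_spec.choose_spec (isIndiv_simple hΔ hi)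

lemma halfFac_eq_one {i : ι} (hi : i ∈ Δ) (h : RootD.IsIndiv P.flip i) : halfFac P i = 1 := by
  rcases (half_spec hΔ hi).2.2 with ⟨e, -⟩ | e
  · exact e
  · refine absurd ?_ (h (halfIdx P i))
    have := (half_spec hΔ hi).2.1
    rw [e] at this
    exact this.symm

lemma halfIdx_injOn : Set.InjOn (halfIdx P) Δ := by
  intro i hi j hj h
  by_contra hne
  have e : comb P.flip (Pi.single i (halfFac P j) - Pi.single j (halfFac P i)) = 0 := by
    rw [comb_sub, comb_single, comb_single]
    change halfFac P j • P.coroot i - halfFac P i • P.coroot j = 0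
    rw [(half_spec hΔ hi).2.1, (half_spec hΔ hj).2.1, h, smul_comm, sub_self]
  have := congrFun (coroot_comb_eq_zero hΔ (fun x hx => by
    simp [show x ≠ i from fun e => hx (e ▸ hi), show x ≠ j from fun e => hx (e ▸ hj)]) e) i
  simp [hne] at this
  rcases (half_spec hΔ hj).2.2 with ⟨h', -⟩ | h' <;> lia

lemma halfIdx_image : halfIdx P '' Δ =
    {j : ι | ∃ i ∈ Δ, (j = i ∧ RootD.IsIndiv P.flip i) ∨ (2 : ℤ) • P.coroot j = P.coroot i} := by
  ext j
  constructor
  · rintro ⟨i, hi, rfl⟩
    obtain ⟨h1, h2, ⟨h3, h4⟩ | h3⟩ := half_spec hΔ hi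
    · exact ⟨i, hi, Or.inl ⟨h4, h4 ▸ h1⟩⟩
    · exact ⟨i, hi, Or.inr (by rw [h2, h3])⟩
  · rintro ⟨i, hi, ⟨rfl, h⟩ | h⟩
    · refine ⟨j, hi, ?_⟩
      rcases (half_spec hΔ hi).2.2 with ⟨-, h4⟩ | h3
      · exact h4
      · rw [halfFac_eq_one hΔ hi h] at h3; lia
    · refine ⟨i, hi, ?_⟩
      obtain ⟨h1, h2, ⟨h3, h4⟩ | h3⟩ := half_spec hΔ hi
      · exact absurd h (h4 ▸ h1 j)
      · rw [h3, ← h] at h2
        exact (P.coroot.injective (zsmul_cancel P.flip two_ne_zero h2)).symm

/-- The indivisible simple coroots form a system of simple coroots. -/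
lemma isSimpleSys_flip : RootD.IsSimpleSys P.flip (halfIdx P '' Δ) := by
  obtain ⟨Δ₀, h₀⟩ := exists_isSimpleSys P.flip
  refine isSimpleSys_of_cone h₀ ?_ ?_ fun k => ?_
  · rintro _ ⟨i, hi, rfl⟩; exact (half_spec hΔ hi).1
  · rw [linearIndepOn_iff']
    intro s g hs hsum j hj
    obtain ⟨i₀, hi₀, rfl⟩ := hs hj
    let c : ι → ℤ := fun i => if i ∈ Δ ∧ halfIdx P i ∈ s then
      g (halfIdx P i) * (if halfFac P i = 1 then 2 else 1) else 0
    have hc : ∀ i ∉ Δ, c i = 0 := fun i hi => by simp [c, hi]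
    have h0 : comb P.flip c = 0 := by
      have e1 : ∀ i ∈ Δ, (if halfFac P i = 1 then (2 : ℤ) else 1) * halfFac P i = 2 := fun i hi => by
        rcases (half_spec hΔ hi).2.2 with ⟨h, -⟩ | h <;> simp [h]
      have e2 : s = (Finset.univ.filter fun i => i ∈ Δ ∧ halfIdx P i ∈ s).image (halfIdx P) := by
        ext x
        simp only [Finset.mem_image, Finset.mem_filter, Finset.mem_univ, true_and]
        refine ⟨fun hx => ?_, fun ⟨i, ⟨_, h⟩, e⟩ => e ▸ h⟩
        obtain ⟨i, hi, rfl⟩ := hs hx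
        exact ⟨i, ⟨hi, hx⟩, rfl⟩
      rw [e2, Finset.sum_image (fun a ha b hb => halfIdx_injOn hΔ
        (Finset.mem_filter.mp ha).2.1 (Finset.mem_filter.mp hb).2.1)] at hsum
      rw [← smul_zero (2 : ℤ), ← hsum, Finset.smul_sum, comb, Finset.sum_filter]
      refine Finset.sum_congr rfl fun i _ => ?_
      simp only [c]
      split_ifs with h h'
      · change (g (halfIdx P i) * 2) • P.coroot i = (2 : ℤ) • g (halfIdx P i) • P.coroot (halfIdx P i)
        rw [(half_spec hΔ h.1).2.1, h', one_smul, mul_comm, mul_smul]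
      · change (g (halfIdx P i) * 1) • P.coroot i = (2 : ℤ) • g (halfIdx P i) • P.coroot (halfIdx P i)
        have := e1 i h.1
        rw [if_neg h', one_mul] at this
        rw [(half_spec hΔ h.1).2.1, this, mul_one, smul_comm]
      · exact zero_smul ℤ _
    have := congrFun (coroot_comb_eq_zero hΔ hc h0) i₀
    simp only [c, hi₀, hj, and_self, if_true, Pi.zero_apply] at this
    split_ifs at this <;> lia
  · suffices H : ∀ k ∈ RootD.posOf P Δ, (len P k).toNat • P.coroot k ∈
        RootD.natSpan P.flip (halfIdx P '' Δ) by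
      have hp := fun x => Int.lt_toNat.mpr (show ((0 : ℕ) : ℤ) < len P x from len_pos' x)
      rcases posOf_or_neg hΔ k with h | h
      · exact ⟨_, hp k, Or.inl (H k h)⟩
      · refine ⟨_, hp (neg P k), Or.inr ?_⟩
        have := H _ h
        rwa [show P.coroot (neg P k) = -P.coroot k from root_neg (P := P.flip) k] at this
    intro k hk
    rw [← natCast_zsmul, Int.toNat_of_nonneg (len_pos' k).le, len_smul_coroot_eq_sum hΔ k]
    refine AddSubmonoid.sum_mem _ fun j _ => ?_
    by_cases hj : j ∈ Δ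
    · have h0 : 0 ≤ coef hΔ k j * len P j * halfFac P j := by
        refine mul_nonneg (mul_nonneg ((posOf_iff hΔ).mp hk j) (len_pos' j).le) ?_
        rcases (half_spec hΔ hj).2.2 with ⟨h, -⟩ | h <;> simp [h]
      rw [(half_spec hΔ hj).2.1, smul_smul]
      obtain ⟨n, hn⟩ := Int.eq_ofNat_of_zero_le h0
      rw [hn, natCast_zsmul]
      exact AddSubmonoid.nsmul_mem _ (AddSubmonoid.subset_closure (Set.mem_image_of_mem P.flip.root (Set.mem_image_of_mem (halfIdx P) hj))) n
    · simp [coef_eq_zero hΔ hj]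

end Groth.Agent.Roots36
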