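import Groth.Agent.Roots36.Basic

set_option autoImplicit false
set_option linter.unusedSectionVars false
set_option linter.unusedSimpArgs false

open Set Function RootPairing
open scoped Classical

namespace Groth.Agent.Roots36

variable {ι R M N : Type*} [CommRing R] [AddCommGroup M] [Module R M] [AddCommGroup N] [Module R N]
  {P : RootPairing ι R M N}

/-- The product of the reflections of a word. -/
noncomputable def wprod (P : RootPairing ι R M N) (l : List ι) : P.Aut :=
  (l.map fun a => RootPairing.Equiv.reflection P a).prod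

@[simp] lemma wprod_nil : wprod P [] = 1 := rfl

lemma wprod_cons (a : ι) (l : List ι) :
    wprod P (a :: l) = RootPairing.Equiv.reflection P a * wprod P l := List.prod_cons ..

lemma wprod_append (l l' : List ι) : wprod P (l ++ l') = wprod P l * wprod P l' := by
  simp [wprod, List.prod_append]

lemma wprod_reverse (l : List ι) : wprod P l.reverse = (wprod P l)⁻¹ := by
  induction l with
  | nil => simp
  | cons a l ih =>
    rw [List.reverse_cons, wprod_append, ih, wprod_cons, wprod_cons, wprod_nil, mul_one,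
      mul_inv_rev, RootPairing.Equiv.reflection_inv]

/-- The subgroup generated by the reflections in a set of roots. -/
noncomputable abbrev subW (P : RootPairing ι R M N) (S : Set ι) : Subgroup P.Aut :=
  Subgroup.closure ((fun i : ι => RootPairing.Equiv.reflection P i) '' S)

lemma reflection_mem_subW {S : Set ι} {i : ι} (h : i ∈ S) :
    RootPairing.Equiv.reflection P i ∈ subW P S :=
  Subgroup.subset_closure ⟨i, h, rfl⟩

lemma subW_le_weylGroup (S : Set ι) : subW P S ≤ P.weylGroup :=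
  (Subgroup.closure_le _).mpr fun _ ⟨i, _, h⟩ => h ▸ P.reflection_mem_weylGroup i

lemma wprod_mem_subW {S : Set ι} {l : List ι} (h : ∀ a ∈ l, a ∈ S) : wprod P l ∈ subW P S := by
  induction l with
  | nil => exact one_mem _
  | cons a l ih =>
    rw [wprod_cons]
    exact mul_mem (reflection_mem_subW (h a (by simp))) (ih fun b hb => h b (by simp [hb]))

lemma exists_word_of_mem_subW {S : Set ι} {g : P.Aut} (hg : g ∈ subW P S) :
    ∃ l : List ι, (∀ a ∈ l, a ∈ S) ∧ wprod P l = g := by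
  induction hg using Subgroup.closure_induction with
  | mem x hx => obtain ⟨i, hi, rfl⟩ := hx; exact ⟨[i], by simpa using hi, by simp [wprod]⟩
  | one => exact ⟨[], by simp, rfl⟩
  | mul x y _ _ hx hy =>
    obtain ⟨l, hl, rfl⟩ := hx
    obtain ⟨l', hl', rfl⟩ := hy
    exact ⟨l ++ l', fun a ha => (List.mem_append.mp ha).elim (hl a) (hl' a), wprod_append l l'⟩
  | inv x _ hx =>
    obtain ⟨l, hl, rfl⟩ := hx
    exact ⟨l.reverse, fun a ha => hl a (List.mem_reverse.mp ha), wprod_reverse l⟩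

section Comb

variable [Fintype ι]

/-- An integer combination of the roots. -/
def comb (P : RootPairing ι R M N) (c : ι → ℤ) : M := ∑ j, c j • P.root j

lemma comb_add (c c' : ι → ℤ) : comb P (c + c') = comb P c + comb P c' := by
  simp [comb, add_smul, Finset.sum_add_distrib]

lemma comb_sub (c c' : ι → ℤ) : comb P (c - c') = comb P c - comb P c' := by
  simp [comb, sub_smul, Finset.sum_sub_distrib]

lemma comb_neg (c : ι → ℤ) : comb P (-c) = -comb P c := by simp [comb]

@[simp] lemma comb_zero : comb P (0 : ι → ℤ) = 0 := by simp [comb]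

lemma comb_smul (a : ℤ) (c : ι → ℤ) : comb P (a • c) = a • comb P c := by
  simp [comb, Finset.smul_sum, mul_smul]

lemma comb_single (i : ι) (a : ℤ) : comb P (Pi.single i a) = a • P.root i := by
  rw [comb, Finset.sum_eq_single i]
  · simp
  · intro j _ hj; simp [Pi.single_apply, hj]
  · simp

lemma comb_mem_span {S : Set ι} {c : ι → ℤ} (h : ∀ j ∉ S, c j = 0) :
    comb P c ∈ Submodule.span ℤ (P.root '' S) := by
  refine Submodule.sum_mem _ fun j _ => ?_
  by_cases hj : j ∈ S
  · exact Submodule.smul_mem _ _ (Submodule.subset_span ⟨j, hj, rfl⟩)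
  · simp [h j hj]

lemma exists_comb_of_mem_span {S : Set ι} {x : M} (h : x ∈ Submodule.span ℤ (P.root '' S)) :
    ∃ c : ι → ℤ, (∀ j ∉ S, c j = 0) ∧ x = comb P c := by
  induction h using Submodule.span_induction with
  | mem y hy =>
    obtain ⟨i, hi, rfl⟩ := hy
    exact ⟨Pi.single i 1, fun j hj => by simp [Pi.single_apply, show j ≠ i from fun e => hj (e ▸ hi)],
      by simp [comb_single]⟩
  | zero => exact ⟨0, by simp, by simp⟩
  | add x y _ _ hx hy =>
    obtain ⟨a, ha, rfl⟩ := hx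
    obtain ⟨b, hb, rfl⟩ := hy
    exact ⟨a + b, fun j hj => by simp [ha j hj, hb j hj], (comb_add a b).symm⟩
  | smul r x _ hx =>
    obtain ⟨a, ha, rfl⟩ := hx
    exact ⟨r • a, fun j hj => by simp [ha j hj], (comb_smul r a).symm⟩

lemma natSpan_iff {S : Set ι} {x : M} :
    x ∈ RootD.natSpan P S ↔ ∃ c : ι → ℤ, (∀ j, 0 ≤ c j) ∧ (∀ j ∉ S, c j = 0) ∧ x = comb P c := by
  constructor
  · intro h
    refine AddSubmonoid.closure_induction ?_ ?_ ?_ h
    · rintro y ⟨i, hi, rfl⟩
      refine ⟨Pi.single i 1, fun j => ?_, fun j hj => ?_, by simp [comb_single]⟩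
      · rw [Pi.single_apply]; split <;> simp
      · simp [Pi.single_apply, show j ≠ i from fun e => hj (e ▸ hi)]
    · exact ⟨0, by simp, by simp, by simp⟩
    · rintro x y - - ⟨a, ha, ha', rfl⟩ ⟨b, hb, hb', rfl⟩
      exact ⟨a + b, fun j => add_nonneg (ha j) (hb j), fun j hj => by simp [ha' j hj, hb' j hj],
        (comb_add a b).symm⟩
  · rintro ⟨c, hc, hc', rfl⟩
    refine AddSubmonoid.sum_mem _ fun j _ => ?_
    by_cases hj : j ∈ S
    · obtain ⟨n, hn⟩ := Int.eq_ofNat_of_zero_le (hc j)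
      rw [hn, natCast_zsmul]
      exact AddSubmonoid.nsmul_mem _ (AddSubmonoid.subset_closure (Set.mem_image_of_mem P.root hj)) n
    · simp [hc' j hj]

end Comb

variable [CharZero R] [IsDomain R] [P.IsCrystallographic] [Fintype ι] {Δ : Set ι}

lemma comb_inj (hΔ : RootD.IsSimpleSys P Δ) {c c' : ι → ℤ} (hc : ∀ j ∉ Δ, c j = 0)
    (hc' : ∀ j ∉ Δ, c' j = 0) (h : comb P c = comb P c') : c = c' := by
  have hli := linearIndepOn_iff'.mp hΔ.linInd
  funext j
  by_cases hj : j ∈ Δ
  · have hsum : ∑ k ∈ Finset.univ.filter (· ∈ Δ), ((c k - c' k : ℤ) : R) • P.root k = 0 := by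
      have : comb P (c - c') = 0 := by rw [comb_sub, h, sub_self]
      rw [← this, comb]
      refine Finset.sum_subset (Finset.subset_univ _) (fun k _ hk => ?_) |>.trans
        (Finset.sum_congr rfl fun k _ => by rw [Int.cast_smul_eq_zsmul]; rfl)
      simp only [Finset.mem_filter, Finset.mem_univ, true_and] at hk
      simp [hc k hk, hc' k hk]
    have := hli (Finset.univ.filter (· ∈ Δ)) (fun k => ((c k - c' k : ℤ) : R))
      (fun k hk => by simpa using hk) hsum j (by simp [hj])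
    simpa [sub_eq_zero] using this
  · rw [hc j hj, hc' j hj]

lemma exists_coef (hΔ : RootD.IsSimpleSys P Δ) (k : ι) :
    ∃ c : ι → ℤ, (∀ j ∉ Δ, c j = 0) ∧ ((∀ j, 0 ≤ c j) ∨ ∀ j, c j ≤ 0) ∧ P.root k = comb P c := by
  rcases hΔ.mem_or_neg_mem k with h | h <;> obtain ⟨c, hc, hc', he⟩ := natSpan_iff.mp h
  · exact ⟨c, hc', Or.inl hc, he⟩
  · exact ⟨-c, fun j hj => by simp [hc' j hj], Or.inr fun j => by simpa using hc j,
      by rw [comb_neg, ← he, neg_neg]⟩

/-- The coefficients of a root along a system of simple roots. -/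
noncomputable def coef (hΔ : RootD.IsSimpleSys P Δ) (k : ι) : ι → ℤ := (exists_coef hΔ k).choose

/-- The height of a root along a system of simple roots. -/
noncomputable def ht (hΔ : RootD.IsSimpleSys P Δ) (k : ι) : ℤ := ∑ j, coef hΔ k j

variable (hΔ : RootD.IsSimpleSys P Δ)
include hΔ

lemma coef_eq_zero {k j : ι} (hj : j ∉ Δ) : coef hΔ k j = 0 := (exists_coef hΔ k).choose_spec.1 j hj

lemma coef_sign (k : ι) : (∀ j, 0 ≤ coef hΔ k j) ∨ ∀ j, coef hΔ k j ≤ 0 :=
  (exists_coef hΔ k).choose_spec.2.1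

lemma root_eq_comb (k : ι) : P.root k = comb P (coef hΔ k) := (exists_coef hΔ k).choose_spec.2.2

lemma coef_eq {k : ι} {c : ι → ℤ} (hc : ∀ j ∉ Δ, c j = 0) (h : P.root k = comb P c) :
    coef hΔ k = c :=
  comb_inj hΔ (fun _ hj => coef_eq_zero hΔ hj) hc ((root_eq_comb hΔ k).symm.trans h)

lemma coef_ne_zero (k : ι) : coef hΔ k ≠ 0 := fun h => P.ne_zero k (by
  rw [root_eq_comb hΔ k, h, comb_zero])

lemma coef_simple {i : ι} (hi : i ∈ Δ) : coef hΔ i = Pi.single i 1 := by
  refine coef_eq hΔ (fun j hj => ?_) (by simp [comb_single])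
  simp [Pi.single_apply, show j ≠ i from fun e => hj (e ▸ hi)]

lemma coef_neg (k : ι) : coef hΔ (neg P k) = -coef hΔ k :=
  coef_eq hΔ (fun j hj => by simp [coef_eq_zero hΔ hj]) (by rw [comb_neg, ← root_eq_comb hΔ, root_neg])

lemma coef_add {i j k : ι} (h : P.root k = P.root i + P.root j) :
    coef hΔ k = coef hΔ i + coef hΔ j :=
  coef_eq hΔ (fun l hl => by simp [coef_eq_zero hΔ hl])
    (by rw [comb_add, ← root_eq_comb hΔ, ← root_eq_comb hΔ, h])

lemma coef_zsmul {i k : ι} {a : ℤ} (h : P.root k = a • P.root i) :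
    coef hΔ k = a • coef hΔ i :=
  coef_eq hΔ (fun l hl => by simp [coef_eq_zero hΔ hl]) (by rw [comb_smul, ← root_eq_comb hΔ, h])

lemma coef_reflect {i : ι} (hi : i ∈ Δ) (k : ι) :
    coef hΔ (P.reflectionPerm i k) = coef hΔ k - P.pairingIn ℤ k i • Pi.single i 1 := by
  refine coef_eq hΔ (fun j hj => ?_) ?_
  · simp [coef_eq_zero hΔ hj, Pi.single_apply, show j ≠ i from fun e => hj (e ▸ hi)]
  · rw [comb_sub, comb_smul, comb_single, one_smul, ← root_eq_comb hΔ, root_reflectionPerm_int]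

lemma posOf_iff {k : ι} : k ∈ RootD.posOf P Δ ↔ ∀ j, 0 ≤ coef hΔ k j := by
  refine ⟨fun h => ?_, fun h => natSpan_iff.mpr ⟨_, h, fun _ hj => coef_eq_zero hΔ hj,
    root_eq_comb hΔ k⟩⟩
  obtain ⟨c, hc, hc', he⟩ := natSpan_iff.mp h
  rw [coef_eq hΔ hc' he]; exact hc

lemma not_posOf_iff {k : ι} : k ∉ RootD.posOf P Δ ↔ ∀ j, coef hΔ k j ≤ 0 := by
  rw [posOf_iff hΔ]
  refine ⟨fun h => (coef_sign hΔ k).resolve_left h, fun h h' => coef_ne_zero hΔ k ?_⟩
  funext j; exact le_antisymm (h j) (h' j)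

lemma neg_posOf_iff {k : ι} : neg P k ∈ RootD.posOf P Δ ↔ k ∉ RootD.posOf P Δ := by
  rw [posOf_iff hΔ, not_posOf_iff hΔ, coef_neg hΔ]
  simp

lemma posOf_or_neg (k : ι) : k ∈ RootD.posOf P Δ ∨ neg P k ∈ RootD.posOf P Δ := by
  rw [neg_posOf_iff hΔ]; exact em _

lemma posOf_of_coef_pos {k j : ι} (h : 0 < coef hΔ k j) : k ∈ RootD.posOf P Δ := by
  by_contra h'
  have := (not_posOf_iff hΔ).mp h' j
  lia

lemma posOf_of_ht_nonneg {k : ι} (h : 0 ≤ ht hΔ k) : k ∈ RootD.posOf P Δ := by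
  by_contra h'
  have hle := (not_posOf_iff hΔ).mp h'
  apply coef_ne_zero hΔ k
  have h0 : ∑ j, coef hΔ k j = 0 := le_antisymm (Finset.sum_nonpos fun j _ => hle j) h
  funext j
  exact (Finset.sum_eq_zero_iff_of_nonpos fun j _ => hle j).mp h0 j (Finset.mem_univ j)

lemma ht_pos {k : ι} (h : k ∈ RootD.posOf P Δ) : 0 < ht hΔ k := by
  have h0 := (posOf_iff hΔ).mp h
  refine lt_of_le_of_ne (Finset.sum_nonneg fun j _ => h0 j) (Ne.symm fun e => coef_ne_zero hΔ k ?_)
  funext j
  exact (Finset.sum_eq_zero_iff_of_nonneg fun j _ => h0 j).mp e j (Finset.mem_univ j)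

lemma simple_mem_posOf {i : ι} (hi : i ∈ Δ) : i ∈ RootD.posOf P Δ :=
  AddSubmonoid.subset_closure ⟨i, hi, rfl⟩

lemma ht_simple {i : ι} (hi : i ∈ Δ) : ht hΔ i = 1 := by
  simp [ht, coef_simple hΔ hi]

lemma ht_add {i j k : ι} (h : P.root k = P.root i + P.root j) :
    ht hΔ k = ht hΔ i + ht hΔ j := by
  simp [ht, coef_add hΔ h, Finset.sum_add_distrib]

lemma ht_reflect {i : ι} (hi : i ∈ Δ) (k : ι) :
    ht hΔ (P.reflectionPerm i k) = ht hΔ k - P.pairingIn ℤ k i := by
  simp only [ht, coef_reflect hΔ hi, Pi.sub_apply, Pi.smul_apply, Finset.sum_sub_distrib,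
    ← Finset.smul_sum]
  simp

lemma isIndiv_simple {i : ι} (hi : i ∈ Δ) : RootD.IsIndiv P i := by
  intro j hj
  have h : P.root i = (2 : ℤ) • P.root j := by
    rw [← hj, ← Int.cast_smul_eq_zsmul R]; norm_num
  have := congr_fun (coef_zsmul hΔ h) i
  simp [coef_simple hΔ hi] at this
  lia

lemma eq_or_eq_two_of_coef_supported {k i : ι} (hi : i ∈ Δ) (hk : k ∈ RootD.posOf P Δ)
    (h : ∀ j, j ≠ i → coef hΔ k j = 0) : k = i ∨ P.root k = (2 : ℤ) • P.root i := by
  have hc : coef hΔ k = Pi.single i (coef hΔ k i) := by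
    funext j
    rcases eq_or_ne j i with rfl | hj
    · simp
    · simp [Pi.single_apply, hj, h j hj]
  have hroot : P.root k = coef hΔ k i • P.root i := by
    rw [root_eq_comb hΔ k, hc, comb_single]; simp
  have hdep : ¬ LinearIndependent R ![P.root i, P.root k] := by
    intro hli
    have := (LinearIndependent.pair_iff.mp hli) ((coef hΔ k i : ℤ) : R) (-1)
      (by rw [Int.cast_smul_eq_zsmul, ← hroot]; simp)
    simpa using this.2
  have hnn := (posOf_iff hΔ).mp hk i
  have key : ∀ a : ℤ, P.root k = a • P.root i → coef hΔ k i = a := fun a ha =>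
    zsmul_root_inj P (hroot.symm.trans ha)
  rcases proportional_cases hdep with H | H | H | H | H | H
  · exact Or.inl (P.root.injective H)
  · have := key (-1) (by rw [H]; simp); lia
  · exact Or.inr H
  · have := key (-2) H; lia
  · have := congr_fun (coef_zsmul hΔ H) i
    simp [coef_simple hΔ hi] at this; lia
  · have := congr_fun (coef_zsmul hΔ H) i
    simp [coef_simple hΔ hi] at this; lia

lemma exists_coef_ne_of_not_prop {k i : ι} (hi : i ∈ Δ) (hk : k ∈ RootD.posOf P Δ) (hki : k ≠ i)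
    (hind : RootD.IsIndiv P k) : ∃ j, j ≠ i ∧ coef hΔ k j ≠ 0 := by
  by_contra h
  push Not at h
  rcases eq_or_eq_two_of_coef_supported hΔ hi hk h with rfl | h'
  · exact hki rfl
  · exact hind i (by rw [h', ← Int.cast_smul_eq_zsmul R]; norm_num)

lemma reflect_posOf {k i : ι} (hi : i ∈ Δ) (hk : k ∈ RootD.posOf P Δ)
    (h : ∃ j, j ≠ i ∧ coef hΔ k j ≠ 0) : P.reflectionPerm i k ∈ RootD.posOf P Δ := by
  obtain ⟨j, hji, hj⟩ := h
  refine posOf_of_coef_pos hΔ (j := j) ?_
  have : 0 ≤ coef hΔ k j := (posOf_iff hΔ).mp hk j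
  simp [coef_reflect hΔ hi, Pi.single_apply, hji]
  lia

lemma pairingIn_eq_sum (k l : ι) :
    P.pairingIn ℤ k l = ∑ j, coef hΔ k j * P.pairingIn ℤ j l := by
  apply FaithfulSMul.algebraMap_injective ℤ R
  simp only [algebraMap_pairingIn, map_sum, map_mul, eq_intCast, ← pairing_eq_cast]
  rw [← root_coroot'_eq_pairing, root_eq_comb hΔ k, comb, map_sum]
  refine Finset.sum_congr rfl fun j _ => ?_
  rw [map_zsmul, root_coroot'_eq_pairing, zsmul_eq_mul]

lemma exists_simple_pairing_pos {k : ι} (hk : k ∈ RootD.posOf P Δ) :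
    ∃ i ∈ Δ, 0 < coef hΔ k i ∧ 0 < P.pairingIn ℤ k i := by
  have h2 : 0 < ∑ j, coef hΔ k j * P.pairingIn ℤ j k := by
    rw [← pairingIn_eq_sum hΔ]; simp
  obtain ⟨j, -, hj⟩ : ∃ j ∈ Finset.univ, 0 < coef hΔ k j * P.pairingIn ℤ j k := by
    by_contra h; push Not at h
    exact absurd h2 (not_lt.mpr (Finset.sum_nonpos h))
  have hnn := (posOf_iff hΔ).mp hk j
  rcases lt_or_eq_of_le hnn with hpos | h0
  · refine ⟨j, ?_, hpos, pairingIn_pos_symm ((mul_pos_iff_of_pos_left hpos).mp hj)⟩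
    by_contra hjΔ; rw [coef_eq_zero hΔ hjΔ] at hpos; lia
  · rw [← h0] at hj; simp at hj

lemma exists_pred {k : ι} (hk : k ∈ RootD.posOf P Δ) (hkΔ : k ∉ Δ) :
    ∃ i ∈ Δ, ∃ j ∈ RootD.posOf P Δ, P.root k = P.root j + P.root i ∧ 0 < P.pairingIn ℤ k i := by
  obtain ⟨i, hi, hci, hki⟩ := exists_simple_pairing_pos hΔ hk
  obtain ⟨j, hj⟩ := sub_root_mem hki (fun e => hkΔ (e ▸ hi))
  have hk' : P.root k = P.root j + P.root i := by rw [hj]; simp
  refine ⟨i, hi, j, (posOf_iff hΔ).mpr fun l => ?_, hk', hki⟩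
  have := congr_fun (coef_add hΔ hk') l
  have hl := (posOf_iff hΔ).mp hk l
  rw [Pi.add_apply, coef_simple hΔ hi, Pi.single_apply] at this
  split at this
  · subst l; lia
  · lia

lemma posOf_induction {p : ι → Prop} (h1 : ∀ i ∈ Δ, p i)
    (h2 : ∀ j ∈ RootD.posOf P Δ, ∀ i ∈ Δ, ∀ k ∈ RootD.posOf P Δ,
      P.root k = P.root j + P.root i → p j → p k)
    {k : ι} (hk : k ∈ RootD.posOf P Δ) : p k := by
  generalize hn : (ht hΔ k).toNat = n
  induction n using Nat.strongRecOn generalizing k with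
  | ind n ih =>
    by_cases hkΔ : k ∈ Δ
    · exact h1 k hkΔ
    · obtain ⟨i, hi, j, hj, he, -⟩ := exists_pred hΔ hk hkΔ
      refine h2 j hj i hi k hk he (ih _ ?_ hj rfl)
      have := ht_pos hΔ hj
      have := ht_add hΔ he
      have := ht_simple hΔ hi
      lia

/-- Every indivisible positive root is conjugate to a simple root. -/
lemma exists_subW_smul_of_posOf {k : ι} (hk : k ∈ RootD.posOf P Δ) (hind : RootD.IsIndiv P k) :
    ∃ g ∈ subW P Δ, ∃ i ∈ Δ, g • i = k := by
  generalize hn : (ht hΔ k).toNat = n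
  induction n using Nat.strongRecOn generalizing k with
  | ind n ih =>
    obtain ⟨i, hi, -, hki⟩ := exists_simple_pairing_pos hΔ hk
    by_cases hkΔ : k ∈ Δ
    · exact ⟨1, one_mem _, k, hkΔ, one_smul _ k⟩
    · have hk' := reflect_posOf hΔ hi hk
        (exists_coef_ne_of_not_prop hΔ hi hk (fun e => hkΔ (e ▸ hi)) hind)
      obtain ⟨g, hg, j, hj, he⟩ := ih (ht hΔ (P.reflectionPerm i k)).toNat (by
        have := ht_pos hΔ hk'
        have := ht_reflect hΔ hi k
        lia) hk' (isIndiv_smul (RootPairing.Equiv.reflection P i) hind) rfl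
      refine ⟨RootPairing.Equiv.reflection P i * g, mul_mem (reflection_mem_subW hi) hg, j, hj, ?_⟩
      rw [mul_smul, he, ← reflection_smul_index, reflection_reflection_smul]

lemma exists_subW_smul {k : ι} (hind : RootD.IsIndiv P k) :
    ∃ g ∈ subW P Δ, ∃ i ∈ Δ, g • i = k := by
  rcases posOf_or_neg hΔ k with hk | hk
  · exact exists_subW_smul_of_posOf hΔ hk hind
  · obtain ⟨g, hg, i, hi, he⟩ := exists_subW_smul_of_posOf hΔ hk
      (isIndiv_smul (RootPairing.Equiv.reflection P k) hind)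
    refine ⟨g * RootPairing.Equiv.reflection P i, mul_mem hg (reflection_mem_subW hi), i, hi, ?_⟩
    rw [mul_smul, reflection_self_smul, smul_neg_index, he]
    exact P.root.injective (by rw [root_neg, root_neg, neg_neg])

omit hΔ in
lemma indiv_or_half (k : ι) :
    RootD.IsIndiv P k ∨ ∃ h, RootD.IsIndiv P h ∧ P.root k = (2 : ℤ) • P.root h := by
  by_cases hk : RootD.IsIndiv P k
  · exact Or.inl hk
  · simp only [RootD.IsIndiv, not_forall, not_not] at hk
    obtain ⟨h, hh⟩ := hk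
    have hh' : P.root k = (2 : ℤ) • P.root h := by
      rw [← hh, ← Int.cast_smul_eq_zsmul R]; norm_num
    refine Or.inr ⟨h, fun l hl => ?_, hh'⟩
    have hl' : P.root k = (4 : ℤ) • P.root l := by
      rw [hh', ← hl, ← Int.cast_smul_eq_zsmul R, ← Int.cast_smul_eq_zsmul R, smul_smul]; norm_num
    have hdep : ¬ LinearIndependent R ![P.root l, P.root k] := by
      intro hli
      have := (LinearIndependent.pair_iff.mp hli) ((4 : ℤ) : R) (-1)
        (by rw [Int.cast_smul_eq_zsmul, ← hl']; simp)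
      simpa using this.2
    rcases proportional_cases hdep with H | H | H | H | H | H
    · have := zsmul_root_inj P (a := 4) (b := 1) (i := l) (by rw [← hl', H, one_smul]); lia
    · have := zsmul_root_inj P (a := 4) (b := -1) (i := l) (by rw [← hl', H]; simp); lia
    · have := zsmul_root_inj P (a := 4) (b := 2) (i := l) (by rw [← hl', H]); lia
    · have := zsmul_root_inj P (a := 4) (b := -2) (i := l) (by rw [← hl', H]); lia
    · have := zsmul_root_inj P (a := 1) (b := 8) (i := l) (by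
        conv_lhs => rw [one_smul, H, hl', smul_smul]
        norm_num)
      lia
    · have := zsmul_root_inj P (a := 1) (b := -8) (i := l) (by
        conv_lhs => rw [one_smul, H, hl', smul_smul]
        norm_num)
      lia

lemma reflection_mem_subW_simple (k : ι) : RootPairing.Equiv.reflection P k ∈ subW P Δ := by
  have key : ∀ h, RootD.IsIndiv P h → RootPairing.Equiv.reflection P h ∈ subW P Δ := fun h hh => by
    obtain ⟨g, hg, i, hi, rfl⟩ := exists_subW_smul hΔ hh
    rw [← conj_reflection]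
    exact mul_mem (mul_mem hg (reflection_mem_subW hi)) (inv_mem hg)
  rcases indiv_or_half (P := P) k with hk | ⟨h, hh, he⟩
  · exact key k hk
  · rw [reflection_eq_of_smul (i := h) (j := k) (t := ((2 : ℤ) : R))
      (by rw [he, Int.cast_smul_eq_zsmul])]
    exact key h hh

lemma subW_simple_eq : subW P Δ = P.weylGroup :=
  le_antisymm (subW_le_weylGroup Δ)
    ((Subgroup.closure_le _).mpr fun _ ⟨k, hk⟩ => hk ▸ reflection_mem_subW_simple hΔ k)

lemma exists_word {g : P.Aut} (hg : g ∈ P.weylGroup) :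
    ∃ l : List ι, (∀ a ∈ l, a ∈ Δ) ∧ wprod P l = g :=
  exists_word_of_mem_subW (subW_simple_eq hΔ ▸ hg)

/-- The exchange lemma. -/
lemma exchange {l : List ι} (hl : ∀ a ∈ l, a ∈ Δ) {i : ι} (hi : i ∈ Δ)
    (h : wprod P l • i ∉ RootD.posOf P Δ) :
    ∃ m, m < l.length ∧ wprod P l * RootPairing.Equiv.reflection P i = wprod P (l.eraseIdx m) := by
  induction l with
  | nil => exact absurd (simple_mem_posOf hΔ hi) (by simpa using h)
  | cons a t ih =>
    have hat : ∀ b ∈ t, b ∈ Δ := fun b hb => hl b (by simp [hb])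
    by_cases ht' : wprod P t • i ∈ RootD.posOf P Δ
    · have ha := hl a (by simp)
      have hsupp : ∀ j, j ≠ a → coef hΔ (wprod P t • i) j = 0 := by
        by_contra hh
        push Not at hh
        refine h ?_
        rw [wprod_cons, mul_smul, reflection_smul_index]
        exact reflect_posOf hΔ ha ht' hh
      have hind : RootD.IsIndiv P (wprod P t • i) := isIndiv_smul _ (isIndiv_simple hΔ hi)
      rcases eq_or_eq_two_of_coef_supported hΔ ha ht' hsupp with he | he
      · refine ⟨0, by simp, ?_⟩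
        rw [List.eraseIdx_cons_zero, wprod_cons, ← he, ← conj_reflection]
        rw [inv_mul_cancel_right, mul_assoc, reflection_sq, mul_one]
      · exact absurd (by rw [he, ← Int.cast_smul_eq_zsmul R]; norm_num) (hind a)
    · obtain ⟨m, hm, he⟩ := ih hat ht'
      refine ⟨m + 1, by simpa using hm, ?_⟩
      rw [List.eraseIdx_cons_succ, wprod_cons, wprod_cons, mul_assoc, he]

lemma reduced_last_not_posOf {l : List ι} {i : ι} (hl : ∀ a ∈ l, a ∈ Δ) (hi : i ∈ Δ)
    (hmin : ∀ l' : List ι, (∀ a ∈ l', a ∈ Δ) → wprod P l' = wprod P (l ++ [i]) →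
      (l ++ [i]).length ≤ l'.length) :
    wprod P (l ++ [i]) • i ∉ RootD.posOf P Δ := by
  intro hpos
  have hneg : wprod P l • i ∉ RootD.posOf P Δ := by
    rwa [wprod_append, mul_smul, wprod_cons, wprod_nil, mul_one, reflection_self_smul,
      smul_neg_index, neg_posOf_iff hΔ] at hpos
  obtain ⟨m, hm, he⟩ := exchange hΔ hl hi hneg
  have := hmin (l.eraseIdx m) (fun a ha => hl a (List.mem_of_mem_eraseIdx ha))
    (by rw [← he, wprod_append, wprod_cons, wprod_nil, mul_one])
  rw [List.length_eraseIdx, if_pos hm] at this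
  simp at this
  lia

lemma exists_min_word {g : P.Aut} (hg : g ∈ P.weylGroup) :
    ∃ l : List ι, (∀ a ∈ l, a ∈ Δ) ∧ wprod P l = g ∧
      ∀ l' : List ι, (∀ a ∈ l', a ∈ Δ) → wprod P l' = g → l.length ≤ l'.length := by
  have hex : ∃ n, ∃ l : List ι, (∀ a ∈ l, a ∈ Δ) ∧ wprod P l = g ∧ l.length = n :=
    let ⟨l, h1, h2⟩ := exists_word hΔ hg; ⟨_, l, h1, h2, rfl⟩
  obtain ⟨l, h1, h2, h3⟩ := Nat.find_spec hex
  exact ⟨l, h1, h2, fun l' h1' h2' => h3 ▸ Nat.find_min' hex ⟨l', h1', h2', rfl⟩⟩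

/-- An element of the Weyl group sending every simple root to a positive root is trivial. -/
lemma eq_one_of_smul_simple_posOf {g : P.Aut} (hg : g ∈ P.weylGroup)
    (h : ∀ i ∈ Δ, g • i ∈ RootD.posOf P Δ) : g = 1 := by
  obtain ⟨l, h1, h2, h3⟩ := exists_min_word hΔ hg
  rcases List.eq_nil_or_concat l with rfl | ⟨t, i, rfl⟩
  · simpa using h2.symm
  · rw [List.concat_eq_append] at h1 h2 h3
    exfalso
    refine reduced_last_not_posOf hΔ (fun a ha => h1 a (by simp [ha])) (h1 i (by simp))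
      (fun l' hl' he => h3 l' hl' (he.trans h2)) ?_
    rw [h2]; exact h i (h1 i (by simp))

lemma isPosSys_posOf : RootD.IsPosSys P (RootD.posOf P Δ) where
  disjoint i hi := fun h => (neg_posOf_iff hΔ).mp h hi
  cover i := posOf_or_neg hΔ i
  sat k n hn hk := by
    have hsub : RootD.natSpan P (RootD.posOf P Δ) ≤ RootD.natSpan P Δ :=
      AddSubmonoid.closure_le.mpr fun _ ⟨j, hj, e⟩ => e ▸ hj
    obtain ⟨c, hc, hc', he⟩ := natSpan_iff.mp (hsub hk)
    have hcc : ((n : ℤ) • coef hΔ k) = c := comb_inj hΔ (fun j hj => by simp [coef_eq_zero hΔ hj])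
      hc' (by rw [comb_smul, ← root_eq_comb hΔ, natCast_zsmul, he])
    refine (posOf_iff hΔ).mpr fun j => ?_
    have h1 : 0 ≤ (n : ℤ) * coef hΔ k j := by
      have := hc j; rw [← hcc] at this; simpa using this
    exact (mul_nonneg_iff_of_pos_left (by exact_mod_cast hn)).mp h1

lemma isClosed_posOf : RootD.IsClosedSub P (RootD.posOf P Δ) := fun i j k hi hj h => by
  change P.root k ∈ RootD.natSpan P Δ
  rw [h]; exact add_mem hi hj

lemma mem_simple_iff {k : ι} :
    k ∈ Δ ↔ k ∈ RootD.posOf P Δ ∧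
      ¬ ∃ i j, i ∈ RootD.posOf P Δ ∧ j ∈ RootD.posOf P Δ ∧ P.root k = P.root i + P.root j := by
  constructor
  · refine fun hk => ⟨simple_mem_posOf hΔ hk, fun ⟨i, j, hi, hj, h⟩ => ?_⟩
    have := ht_add hΔ h
    have := ht_pos hΔ hi
    have := ht_pos hΔ hj
    have := ht_simple hΔ hk
    lia
  · rintro ⟨hk, h⟩
    by_contra hkΔ
    obtain ⟨i, hi, j, hj, he, -⟩ := exists_pred hΔ hk hkΔ
    exact h ⟨j, i, hj, simple_mem_posOf hΔ hi, he⟩

omit hΔ in
lemma simple_eq_of_posOf_eq {Δ' : Set ι} (hΔ : RootD.IsSimpleSys P Δ)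
    (hΔ' : RootD.IsSimpleSys P Δ') (h : RootD.posOf P Δ = RootD.posOf P Δ') : Δ = Δ' := by
  ext k
  rw [mem_simple_iff hΔ, mem_simple_iff hΔ', h]

lemma posOf_subset_of_closed {S : Set ι} (hS : RootD.IsClosedSub P S) (h : Δ ⊆ S) :
    RootD.posOf P Δ ⊆ S :=
  fun _ hk => posOf_induction hΔ (fun _ hi => h hi) (fun _ _ _ hi _ _ e hj => hS hj (h hi) e) hk

end Groth.Agent.Roots36
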