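import Groth.Agent.Roots36.Form

set_option autoImplicit false
set_option linter.unusedSectionVars false
set_option linter.unusedSimpArgs false

open Set Function RootPairing
open scoped Classical

namespace Groth.Agent.Roots36

variable {ι R M N : Type*} [CommRing R] [AddCommGroup M] [Module R M] [AddCommGroup N] [Module R N]
  {P : RootPairing ι R M N}

lemma isOrthogonal_comm {i j : ι} : P.IsOrthogonal i j ↔ P.IsOrthogonal j i := and_comm

lemma neg_neg_index (i : ι) : neg P (neg P i) = i :=
  P.root.injective (by rw [root_neg, root_neg, neg_neg])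

variable [CharZero R] [IsDomain R] [P.IsCrystallographic] [Fintype ι]

lemma isOrthogonal_iff {i j : ι} : P.IsOrthogonal i j ↔ P.pairingIn ℤ i j = 0 := by
  simp only [RootPairing.IsOrthogonal, pairing_eq_cast, Int.cast_eq_zero]
  exact ⟨fun h => h.1, fun h => ⟨h, pairingIn_eq_zero_symm h⟩⟩

lemma pairingIn_comb (c : ι → ℤ) {k : ι} (h : P.root k = comb P c) (l : ι) :
    P.pairingIn ℤ k l = ∑ j, c j * P.pairingIn ℤ j l := by
  apply FaithfulSMul.algebraMap_injective ℤ R
  simp only [algebraMap_pairingIn, map_sum, map_mul, eq_intCast, ← pairing_eq_cast]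
  rw [← root_coroot'_eq_pairing, h, comb, map_sum]
  exact Finset.sum_congr rfl fun j _ => by rw [map_zsmul, root_coroot'_eq_pairing, zsmul_eq_mul]

/-- A root that is a non-negative combination of roots loses one of them and stays a root. -/
lemma exists_sub_of_comb {k : ι} {a : ℤ} (ha : 0 < a) {c : ι → ℤ} (hc : ∀ j, 0 ≤ c j)
    (h : a • P.root k = comb P c) :
    ∃ j, 0 < c j ∧ 0 < P.pairingIn ℤ j k ∧ (j = k ∨ ∃ l, P.root l = P.root k - P.root j) := by
  have hp : a * 2 = ∑ j, c j * P.pairingIn ℤ j k := by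
    have h2 : ((a * 2 : ℤ) : R) = ((∑ j, c j * P.pairingIn ℤ j k : ℤ) : R) := by
      have := congrArg (P.coroot' k) h
      rw [map_zsmul, root_coroot'_eq_pairing, pairing_same, comb, map_sum, zsmul_eq_mul] at this
      push_cast
      rw [this]
      exact Finset.sum_congr rfl fun j _ => by
        rw [map_zsmul, root_coroot'_eq_pairing, zsmul_eq_mul, pairing_eq_cast]
    exact_mod_cast h2
  obtain ⟨j, -, hj⟩ : ∃ j ∈ Finset.univ, 0 < c j * P.pairingIn ℤ j k := by
    by_contra hcon
    push Not at hcon
    have := Finset.sum_nonpos hcon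
    lia
  have hj1 : 0 < c j := by
    rcases (hc j).eq_or_lt with e | e
    · rw [← e] at hj; simp at hj
    · exact e
  refine ⟨j, hj1, (mul_pos_iff_of_pos_left hj1).mp hj, ?_⟩
  by_cases e : j = k
  · exact Or.inl e
  · exact Or.inr (sub_root_mem (pairingIn_pos_symm ((mul_pos_iff_of_pos_left hj1).mp hj))
      (Ne.symm e))

/-- A closed set contains every root in the monoid it generates. -/
lemma mem_of_closed_of_natSpan {S : Set ι} (hS : RootD.IsClosedSub P S) {k : ι}
    (hk : P.root k ∈ RootD.natSpan P S) : k ∈ S := by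
  obtain ⟨c, hc, hc', he⟩ := natSpan_iff.mp hk
  clear hk
  generalize hn : (∑ j, c j).toNat = n
  induction n using Nat.strongRecOn generalizing k c with
  | ind n ih =>
    obtain ⟨j, hj, -, hor⟩ := exists_sub_of_comb (P := P) (k := k) one_pos hc
      (by rw [one_smul]; exact he)
    have hjS : j ∈ S := by
      by_contra hjS
      rw [hc' j hjS] at hj
      lia
    rcases hor with rfl | ⟨l, hl⟩
    · exact hjS
    · have hlS : l ∈ S := by
        refine ih ((∑ x, (c - Pi.single j 1 : ι → ℤ) x).toNat) ?_ (c - Pi.single j 1) (fun x => ?_)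
          (fun x hx => ?_) ?_ rfl
        · rw [← hn]
          simp only [Pi.sub_apply, Finset.sum_sub_distrib, Finset.sum_pi_single', Finset.mem_univ,
            if_true]
          have := Finset.single_le_sum (fun x _ => hc x) (Finset.mem_univ j)
          lia
        · simp only [Pi.sub_apply, Pi.single_apply]
          have := hc x
          split
          · subst x; lia
          · lia
        · rw [Pi.sub_apply, hc' x hx,
            Pi.single_eq_of_ne (show x ≠ j from fun e => hx (e ▸ hjS))]; simp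
        · rw [comb_sub, comb_single, one_smul, hl, he]
      exact hS hlS hjS (by rw [hl]; simp)

/-- The negative roots in a closed set containing the positive roots. -/
lemma neg_mem_closed_iff {Δ : Set ι} (hΔ : RootD.IsSimpleSys P Δ) {S : Set ι}
    (hcl : RootD.IsClosedSub P S) (hsub : RootD.posOf P Δ ⊆ S) {k : ι}
    (hk : k ∈ RootD.posOf P Δ) :
    neg P k ∈ S ↔ ∀ j, coef hΔ k j ≠ 0 → neg P j ∈ S := by
  constructor
  · intro h
    refine posOf_induction hΔ (p := fun k => neg P k ∈ S → ∀ j, coef hΔ k j ≠ 0 → neg P j ∈ S)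
      ?_ ?_ hk h
    · intro i hi h j hj
      rw [coef_simple hΔ hi] at hj
      obtain rfl : j = i := by by_contra hne; exact hj (Pi.single_eq_of_ne hne 1)
      exact h
    · intro m hm i hi k hk he ih h j hj
      have hi' : neg P i ∈ S := hcl (hsub hm) h (by rw [root_neg, root_neg, he]; abel)
      have hm' : neg P m ∈ S := hcl (hsub (simple_mem_posOf hΔ hi)) h
        (by rw [root_neg, root_neg, he]; abel)
      rw [coef_add hΔ he, Pi.add_apply, coef_simple hΔ hi, Pi.single_apply] at hj
      by_cases hji : j = i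
      · rw [hji]; exact hi'
      · rw [if_neg hji, add_zero] at hj
        exact ih hm' j hj
  · intro h
    refine mem_of_closed_of_natSpan hcl ?_
    rw [root_neg, root_eq_comb hΔ k, comb, ← Finset.sum_neg_distrib]
    refine AddSubmonoid.sum_mem _ fun j _ => ?_
    by_cases hj : coef hΔ k j = 0
    · simp [hj]
    · obtain ⟨n, hn⟩ := Int.eq_ofNat_of_zero_le ((posOf_iff hΔ).mp hk j)
      rw [hn, natCast_zsmul, ← smul_neg, ← root_neg]
      exact AddSubmonoid.nsmul_mem _ (AddSubmonoid.subset_closure (Set.mem_image_of_mem P.root (h j hj))) n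

lemma closed_superset_eq {Δ : Set ι} (hΔ : RootD.IsSimpleSys P Δ) {S : Set ι}
    (hcl : RootD.IsClosedSub P S) (hsub : RootD.posOf P Δ ⊆ S) :
    S = RootD.posOf P Δ ∪
      {k | -P.root k ∈ RootD.natSpan P {i | i ∈ Δ ∧ neg P i ∈ S}} := by
  ext k
  constructor
  · intro hk
    by_cases hp : k ∈ RootD.posOf P Δ
    · exact Or.inl hp
    · have hn := (neg_posOf_iff hΔ).mpr hp
      have h := (neg_mem_closed_iff hΔ hcl hsub hn).mp (by rw [neg_neg_index]; exact hk)
      refine Or.inr ?_
      change -P.root k ∈ RootD.natSpan P {i | i ∈ Δ ∧ neg P i ∈ S}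
      rw [← root_neg, root_eq_comb hΔ (neg P k)]
      refine natSpan_iff.mpr ⟨_, (posOf_iff hΔ).mp hn, fun j hj => ?_, rfl⟩
      by_contra hne
      exact hj ⟨by by_contra hjΔ; exact hne (coef_eq_zero hΔ hjΔ), h j hne⟩
  · rintro (hk | hk)
    · exact hsub hk
    · obtain ⟨c, hc, hc', he⟩ := natSpan_iff.mp (show -P.root k ∈ RootD.natSpan P {i | i ∈ Δ ∧ neg P i ∈ S} from hk)
      have hce : coef hΔ (neg P k) = c :=
        coef_eq hΔ (fun j hj => hc' j fun h => hj h.1) (by rw [root_neg]; exact he)
      have hn : neg P k ∈ RootD.posOf P Δ := (posOf_iff hΔ).mpr fun j => hce ▸ hc j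
      rw [← neg_neg_index (P := P) k]
      refine (neg_mem_closed_iff hΔ hcl hsub hn).mpr fun j hj => ?_
      by_contra hjS
      exact hj (by rw [hce]; exact hc' j fun h => hjS h.2)

lemma inSpan_iff {Δ Δ' : Set ι} (hΔ : RootD.IsSimpleSys P Δ) (hsub : Δ' ⊆ Δ) {k : ι} :
    P.root k ∈ Submodule.span ℤ (P.root '' Δ') ↔ ∀ j ∉ Δ', coef hΔ k j = 0 := by
  refine ⟨fun h => ?_, fun h => ?_⟩
  · obtain ⟨c, hc, he⟩ := exists_comb_of_mem_span h
    rw [coef_eq hΔ (fun j hj => hc j fun h => hj (hsub h)) he]
    exact hc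
  · rw [root_eq_comb hΔ k]; exact comb_mem_span h

lemma nsmul_inSpan_iff {Δ Δ' : Set ι} (hΔ : RootD.IsSimpleSys P Δ) (hsub : Δ' ⊆ Δ) {k : ι}
    {n : ℕ} (hn : 0 < n) :
    n • P.root k ∈ Submodule.span ℤ (P.root '' Δ') ↔ ∀ j ∉ Δ', coef hΔ k j = 0 := by
  refine ⟨fun h j hj => ?_, fun h => ?_⟩
  · obtain ⟨c, hc, he⟩ := exists_comb_of_mem_span h
    have hcc : ((n : ℤ) • coef hΔ k) = c :=
      comb_inj hΔ (fun x hx => by simp [coef_eq_zero hΔ hx]) (fun x hx => hc x fun h => hx (hsub h))
        (by rw [comb_smul, ← root_eq_comb hΔ, natCast_zsmul, he])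
    have := congrFun hcc j
    rw [hc j hj] at this
    have hn' : (n : ℤ) ≠ 0 := by exact_mod_cast hn.ne'
    simp at this
    exact this.resolve_left (by simpa using hn.ne')
  · exact Submodule.smul_of_tower_mem _ n (by rw [inSpan_iff hΔ hsub]; exact h)

/-- Sums of indivisible positive roots, as a weight. -/
lemma exists_strict_dominant {Δ : Set ι} (hΔ : RootD.IsSimpleSys P Δ) :
    ∃ σ : M, ∀ k ∈ RootD.posOf P Δ, ∃ a : ℤ, 0 < a ∧ P.coroot' k σ = (a : R) := by
  refine ⟨∑ x ∈ Finset.univ.filter (fun x => x ∈ RootD.posOf P Δ ∧ RootD.IsIndiv P x), P.root x,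
    fun k hk => ⟨_, sum_indiv_posOf_pairing_pos hΔ hk, ?_⟩⟩
  rw [map_sum, Int.cast_sum]
  exact Finset.sum_congr rfl fun x _ => by rw [root_coroot'_eq_pairing, pairing_eq_cast]

section Component

/-- The linking relation between roots. -/
abbrev Linked (P : RootPairing ι R M N) (i j : ι) : Prop :=
  Relation.ReflTransGen (fun a b : ι => ¬ P.IsOrthogonal a b) i j

lemma linked_symm {i j : ι} (h : Linked P i j) : Linked P j i := by
  induction h with
  | refl => exact Relation.ReflTransGen.refl
  | tail _ hbc ih => exact Relation.ReflTransGen.head (fun h' => hbc (isOrthogonal_comm.mp h')) ih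

lemma linked_step {i j : ι} (h : P.pairingIn ℤ i j ≠ 0) : Linked P i j :=
  Relation.ReflTransGen.single fun h' => h (isOrthogonal_iff.mp h')

lemma linked_neg (i : ι) : Linked P i (neg P i) := linked_step (by rw [pairingIn_neg_right]; simp)

lemma linked_of_add {a b k : ι} (h : P.root k = P.root a + P.root b) :
    Linked P k a ∨ Linked P k b := by
  have h2 := pairingIn_comb (P := P) (Pi.single a 1 + Pi.single b 1) (k := k)
    (by rw [comb_add, comb_single, comb_single, one_smul, one_smul, h]) k
  simp only [pairingIn_self, Pi.add_apply, add_mul, Finset.sum_add_distrib, Pi.single_apply,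
    ite_mul, one_mul, zero_mul, Finset.sum_ite_eq', Finset.mem_univ, if_true] at h2
  by_cases ha : P.pairingIn ℤ a k = 0
  · exact Or.inr (linked_symm (linked_step (show P.pairingIn ℤ b k ≠ 0 by lia)))
  · exact Or.inl (linked_symm (linked_step ha))

lemma isClosed_compl_component (i : ι) :
    RootD.IsClosedSub P {j : ι | Linked P i j}ᶜ := by
  intro a b k ha hb h hk
  rcases linked_of_add h with e | e
  · exact ha (Relation.ReflTransGen.trans hk e)
  · exact hb (Relation.ReflTransGen.trans hk e)

lemma isClosed_component (i : ι) : RootD.IsClosedSub P {j : ι | Linked P i j} := by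
  intro a b k ha hb h
  rcases linked_of_add h with e | e
  · exact Relation.ReflTransGen.trans ha (linked_symm e)
  · exact Relation.ReflTransGen.trans hb (linked_symm e)

lemma partition_add_mem {S : Set ι} (hc : RootD.IsClosedSub P S) (hs : RootD.IsSymmSub P S)
    (hc' : RootD.IsClosedSub P Sᶜ) (hs' : RootD.IsSymmSub P Sᶜ) {i j k : ι}
    (h : P.root k = P.root i + P.root j) :
    (i ∈ S ∧ j ∈ S ∧ k ∈ S) ∨ (i ∉ S ∧ j ∉ S ∧ k ∉ S) := by
  have hj' : P.root j = P.root k + P.root (neg P i) := by rw [root_neg, h]; abel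
  have hi' : P.root i = P.root k + P.root (neg P j) := by rw [root_neg, h]; abel
  by_cases hi : i ∈ S <;> by_cases hj : j ∈ S <;> by_cases hk : k ∈ S
  · exact Or.inl ⟨hi, hj, hk⟩
  · exact absurd (hc hi hj h) hk
  · exact absurd (hc hk (hs hi) hj') hj
  · exact absurd hi (hc' hk (hs' hj) hi')
  · exact absurd (hc hk (hs hj) hi') hi
  · exact absurd hj (hc' hk (hs' hi) hj')
  · exact absurd hk (hc' hi hj h)
  · exact Or.inr ⟨hi, hj, hk⟩

lemma mem_of_partition {S : Set ι} (hc : RootD.IsClosedSub P S) (hs : RootD.IsSymmSub P S)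
    (hc' : RootD.IsClosedSub P Sᶜ) (hs' : RootD.IsSymmSub P Sᶜ) {i j : ι} (hi : i ∈ S)
    (hij : P.pairingIn ℤ i j ≠ 0) : j ∈ S := by
  rcases lt_or_gt_of_ne hij with h | h
  · by_cases e : P.root i = -P.root j
    · have : j = neg P i := P.root.injective (by rw [root_neg, e, neg_neg])
      exact this ▸ hs hi
    · obtain ⟨k, hk⟩ := add_root_mem h e
      rcases partition_add_mem hc hs hc' hs' hk with h' | h'
      · exact h'.2.1
      · exact absurd hi h'.1
  · by_cases e : i = j
    · exact e ▸ hi
    · obtain ⟨k, hk⟩ := sub_root_mem h e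
      rcases partition_add_mem hc hs hc' hs'
        (show P.root i = P.root k + P.root j by rw [hk]; simp) with h' | h'
      · exact h'.2.1
      · exact absurd hi h'.2.2

lemma linked_of_irreducible
    (hirr : ∀ R' : Set ι, RootD.IsClosedSub P R' → RootD.IsSymmSub P R' → RootD.IsClosedSub P R'ᶜ →
      RootD.IsSymmSub P R'ᶜ → R' = ∅ ∨ R' = Set.univ) (i j : ι) : Linked P i j := by
  have h := hirr {x | Linked P i x} (isClosed_component i)
    (fun x hx => Relation.ReflTransGen.trans hx (linked_neg x)) (isClosed_compl_component i)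
    (fun x hx hn => hx (Relation.ReflTransGen.trans hn (linked_symm (linked_neg x))))
  rcases h with h | h
  · exact absurd (show i ∈ {x | Linked P i x} from Relation.ReflTransGen.refl)
      (by rw [h]; exact id)
  · exact (Set.eq_univ_iff_forall.mp h) j

/-- In a connected root datum every root can be moved to meet any other root. -/
lemma exists_smul_pairing_ne {i j : ι} (h : Linked P i j) :
    ∃ g ∈ P.weylGroup, P.pairingIn ℤ (g • i) j ≠ 0 := by
  induction h with
  | refl => exact ⟨1, one_mem _, by rw [one_smul]; simp⟩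
  | @tail b c _ hbc ih =>
    obtain ⟨g, hg, hgb⟩ := ih
    have hbc' : P.pairingIn ℤ b c ≠ 0 := fun h => hbc (isOrthogonal_iff.mpr h)
    by_cases h0 : P.pairingIn ℤ (g • i) c = 0
    · refine ⟨RootPairing.Equiv.reflection P b * g, mul_mem (P.reflection_mem_weylGroup b) hg, ?_⟩
      rw [mul_smul]
      have he := pairingIn_comb (P := P)
        (Pi.single (g • i) 1 - P.pairingIn ℤ (g • i) b • Pi.single b 1)
        (k := RootPairing.Equiv.reflection P b • g • i)
        (by rw [reflection_smul_index, root_reflectionPerm_int, comb_sub, comb_smul, comb_single,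
          comb_single, one_smul, one_smul]) c
      rw [he]
      simp [Pi.single_apply, Finset.sum_sub_distrib, sub_mul, h0]
      exact ⟨hgb, hbc'⟩
    · exact ⟨g, hg, h0⟩

end Component

end Groth.Agent.Roots36
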