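import Groth.Agent.Roots36.Exists
import Groth.Agent.Roots36.Combi
import Mathlib.Algebra.Module.Submodule.Union
import Mathlib.LinearAlgebra.Dual.Lemmas

set_option autoImplicit false
set_option linter.unusedSectionVars false
set_option linter.unusedSimpArgs false

open Set Function RootPairing
open scoped Classical

namespace Groth.Agent.Roots36

variable {ι M N : Type*} [AddCommGroup M] [AddCommGroup N] {P : RootPairing ι ℤ M N} [Fintype ι]

/-- The vector of pairings with all coroots, with rational values. -/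
noncomputable def ratVec (P : RootPairing ι ℤ M N) : M →+ (ι → ℚ) where
  toFun m k := (P.coroot' k m : ℚ)
  map_zero' := by funext k; simp
  map_add' a b := by funext k; simp

lemma ratVec_root_injective {x : M} (hx : x ∈ Submodule.span ℤ (range P.root))
    (h : ratVec P x = 0) : x = 0 :=
  eq_zero_of_coroot'_eq_zero hx fun k => by
    have := congrFun h k
    simpa [ratVec] using this

lemma exists_int_of_mem_ratSpan {V : Type*} [AddCommGroup V] [Module ℚ V] (F : M →+ V) {A : Set M}
    {x : V} (hx : x ∈ Submodule.span ℚ (F '' A)) :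
    ∃ n : ℕ, 0 < n ∧ ∃ y ∈ Submodule.span ℤ A, n • x = F y := by
  induction hx using Submodule.span_induction with
  | mem v hv =>
    obtain ⟨a, ha, rfl⟩ := hv
    exact ⟨1, one_pos, a, Submodule.subset_span ha, one_nsmul _⟩
  | zero => exact ⟨1, one_pos, 0, zero_mem _, by simp⟩
  | add u v _ _ hu hv =>
    obtain ⟨n, hn, y, hy, hny⟩ := hu
    obtain ⟨m, hm, z, hz, hmz⟩ := hv
    refine ⟨n * m, Nat.mul_pos hn hm, m • y + n • z, add_mem (Submodule.smul_of_tower_mem _ m hy)
      (Submodule.smul_of_tower_mem _ n hz), ?_⟩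
    rw [map_add, map_nsmul, map_nsmul, ← hny, ← hmz, smul_smul, smul_smul, smul_add, mul_comm n m]
  | smul q u _ hu =>
    obtain ⟨n, hn, y, hy, hny⟩ := hu
    refine ⟨n * q.den, Nat.mul_pos hn q.pos, q.num • y, Submodule.smul_mem _ _ hy, ?_⟩
    rw [map_zsmul, ← hny, ← Nat.cast_smul_eq_nsmul ℚ, ← Nat.cast_smul_eq_nsmul ℚ,
      ← Int.cast_smul_eq_zsmul ℚ, smul_smul, smul_smul]
    congr 1
    push_cast
    rw [mul_assoc, Rat.den_mul_eq_num q]; ring

/-- A functional vanishing on a saturated set of roots and on no other root. -/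
lemma exists_functional_saturated (R' : Set ι)
    (hsat : ∀ k : ι, (∃ n : ℕ, 0 < n ∧ n • P.root k ∈ Submodule.span ℤ (P.root '' R')) → k ∈ R') :
    ∃ f : M →+ ℚ, ∀ k, f (P.root k) = 0 ↔ k ∈ R' := by
  set W := Submodule.span ℚ (ratVec P '' (P.root '' R'))
  have hne : ∀ k : {k // k ∉ R'}, W.mkQ (ratVec P (P.root k)) ≠ 0 := by
    rintro ⟨k, hk⟩ h
    rw [Submodule.mkQ_apply, Submodule.Quotient.mk_eq_zero] at h
    obtain ⟨n, hn, y, hy, he⟩ := exists_int_of_mem_ratSpan (ratVec P) h
    refine hk (hsat k ⟨n, hn, ?_⟩)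
    have h0 : n • P.root k - y = 0 := by
      refine ratVec_root_injective ?_ (by rw [map_sub, map_nsmul, he, sub_self])
      exact sub_mem (Submodule.smul_of_tower_mem _ n (Submodule.subset_span (mem_range_self k)))
        (Submodule.span_mono (Set.image_subset_range _ _) hy)
    rw [sub_eq_zero.mp h0]; exact hy
  obtain ⟨φ, hφ⟩ := Module.Dual.exists_forall_ne_zero_of_forall_exists
    (fun k : {k // k ∉ R'} => Module.Dual.eval ℚ _ (W.mkQ (ratVec P (P.root k))))
    (fun k => by
      have := hne k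
      rw [ne_eq, ← Module.forall_dual_apply_eq_zero_iff ℚ] at this
      push Not at this
      exact this)
  refine ⟨(φ.toAddMonoidHom.comp W.mkQ.toAddMonoidHom).comp (ratVec P), fun k => ⟨fun h => ?_, fun h => ?_⟩⟩
  · by_contra hk
    exact hφ ⟨k, hk⟩ h
  · have : W.mkQ (ratVec P (P.root k)) = 0 := by
      rw [Submodule.mkQ_apply, Submodule.Quotient.mk_eq_zero]
      exact Submodule.subset_span ⟨_, ⟨k, h, rfl⟩, rfl⟩
    change φ (W.mkQ (ratVec P (P.root k))) = 0
    rw [this, map_zero]

/-- A functional vanishing on exactly the roots of a rational subspace spanned by given roots. -/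
lemma exists_functional_span (A : Set ι) :
    ∃ f : M →+ ℚ, ∀ k, f (P.root k) = 0 ↔
      ∃ n : ℕ, 0 < n ∧ n • P.root k ∈ Submodule.span ℤ (P.root '' A) := by
  refine exists_functional_saturated {k | ∃ n : ℕ, 0 < n ∧ n • P.root k ∈ Submodule.span ℤ (P.root '' A)}
    fun k hk => ?_
  obtain ⟨n, hn, hy⟩ := hk
  suffices H : ∃ m : ℕ, 0 < m ∧ m • (n • P.root k) ∈ Submodule.span ℤ (P.root '' A) by
    obtain ⟨m, hm, h⟩ := H
    exact ⟨m * n, Nat.mul_pos hm hn, by rwa [mul_smul]⟩
  generalize n • P.root k = z at hy ⊢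
  induction hy using Submodule.span_induction with
  | mem y hy => obtain ⟨l, ⟨m, hm, hl⟩, rfl⟩ := hy; exact ⟨m, hm, hl⟩
  | zero => exact ⟨1, one_pos, by simp⟩
  | add x y _ _ hx hy =>
    obtain ⟨a, ha, hax⟩ := hx
    obtain ⟨b, hb, hby⟩ := hy
    refine ⟨a * b, Nat.mul_pos ha hb, ?_⟩
    rw [smul_add]
    refine add_mem ?_ ?_
    · rw [mul_comm, mul_smul]; exact Submodule.smul_of_tower_mem _ b hax
    · rw [mul_smul]; exact Submodule.smul_of_tower_mem _ a hby
  | smul r x _ hx =>
    obtain ⟨a, ha, hax⟩ := hx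
    exact ⟨a, ha, by rw [smul_comm]; exact Submodule.smul_mem _ r hax⟩

end Groth.Agent.Roots36
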