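import Groth.Agent.Roots36.PMorph
import Groth.Agent.Roots36.PosSys
import Mathlib.LinearAlgebra.RootSystem.Hom

set_option autoImplicit false
set_option linter.unusedSectionVars false
set_option linter.unusedSimpArgs false

open Set Function RootPairing
open scoped Classical

namespace Groth.Agent.Roots36

variable {ι M N ι' M' N' : Type*} [AddCommGroup M] [AddCommGroup N] [AddCommGroup M'] [AddCommGroup N']
  {P : RootPairing ι ℤ M N} {P' : RootPairing ι' ℤ M' N'} [Fintype ι] [Fintype ι']

/-- The basis of an adjoint datum given by the simple roots. -/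
noncomputable def simpleBasis (had : Submodule.span ℤ (range P.root) = ⊤) (b : P.Base) :
    Module.Basis b.support ℤ M :=
  Module.Basis.mk (v := fun i : b.support => P.root i) b.linearIndepOn_root (by
    rw [← had, ← b.span_int_root_support]
    refine Submodule.span_mono ?_
    rintro _ ⟨i, hi, rfl⟩
    exact ⟨⟨i, hi⟩, rfl⟩)

lemma exists_index_map [P.IsReduced] (b : P.Base) (b' : P'.Base) (u : b.support ≃ b'.support)
    (f : M ≃ₗ[ℤ] M') (hf : ∀ i : b.support, f (P.root i) = P'.root (u i))
    (hc : ∀ (i : b.support) (x : M), P'.coroot' (u i : ι') (f x) = P.coroot' (i : ι) x) (k : ι) :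
    ∃ k', f (P.root k) = P'.root k' ∧ ∀ x, P'.coroot' k' (f x) = P.coroot' k x := by
  have hΔ := base_isSimpleSys b
  obtain ⟨g, hg, j, hj, rfl⟩ := exists_subW_smul hΔ (isIndiv_of_isReduced_pmorph (P := P) k)
  obtain ⟨l, hl, rfl⟩ := exists_word_of_mem_subW hg
  have H : ∀ l : List ι, (∀ a ∈ l, a ∈ (b.support : Set ι)) →
      ∃ g' : P'.Aut, ∀ x, f (wprod P l • x) = g' • f x := by
    intro l hl
    induction l with
    | nil => exact ⟨1, fun x => by simp⟩
    | cons a l ih =>
      obtain ⟨g', hg'⟩ := ih fun c hc => hl c (by simp [hc])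
      refine ⟨RootPairing.Equiv.reflection P' (u ⟨a, hl a (by simp)⟩) * g', fun x => ?_⟩
      rw [wprod_cons, mul_smul, mul_smul, ← hg']
      simp only [RootPairing.Equiv.reflection_smul, reflection_apply, map_sub, map_smul]
      rw [← hc ⟨a, hl a (by simp)⟩, ← hf ⟨a, hl a (by simp)⟩]
  obtain ⟨g', hg'⟩ := H l hl
  refine ⟨g' • (u ⟨j, hj⟩ : ι'), by rw [root_smul, hg', hf ⟨j, hj⟩, root_smul], fun x => ?_⟩
  rw [← smul_inv_smul (wprod P l) x, hg', coroot'_smul, coroot'_smul]
  exact hc ⟨j, hj⟩ _

theorem existsUnique_equiv_of_cartan [P.IsReduced] [P'.IsReduced]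
    (had : Submodule.span ℤ (range P.root) = ⊤) (had' : Submodule.span ℤ (range P'.root) = ⊤)
    (b : P.Base) (b' : P'.Base) (u : b.support ≃ b'.support)
    (hu : ∀ i j : b.support, P.pairing (i : ι) (j : ι) = P'.pairing (u i : ι') (u j : ι')) :
    ∃! e : RootPairing.Equiv P P', ∀ i : b.support, e.indexEquiv (i : ι) = (u i : ι') := by
  let B := simpleBasis had b
  let B' := simpleBasis had' b'
  let f : M ≃ₗ[ℤ] M' := B.equiv B' u
  have hB : ∀ i : b.support, B i = P.root i := fun i => by simp [B, simpleBasis]
  have hB' : ∀ i : b'.support, B' i = P'.root i := fun i => by simp [B', simpleBasis]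
  have hf : ∀ i : b.support, f (P.root i) = P'.root (u i) := fun i => by
    rw [← hB, Module.Basis.equiv_apply, hB']
  have hc : ∀ (i : b.support) (x : M), P'.coroot' (u i : ι') (f x) = P.coroot' (i : ι) x := by
    intro i x
    refine LinearMap.congr_fun (f := (P'.coroot' (u i : ι')).comp f.toLinearMap) (B.ext fun j => ?_) x
    rw [LinearMap.comp_apply, LinearEquiv.coe_coe, hB, hf, root_coroot'_eq_pairing,
      root_coroot'_eq_pairing, hu]
  have hf' : ∀ i : b'.support, f.symm (P'.root i) = P.root (u.symm i) := fun i => by
    rw [LinearEquiv.symm_apply_eq, hf, u.apply_symm_apply]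
  have hc' : ∀ (i : b'.support) (x : M'),
      P.coroot' (u.symm i : ι) (f.symm x) = P'.coroot' (i : ι') x := fun i x => by
    rw [← hc, u.apply_symm_apply, f.apply_symm_apply]
  choose e he hec using exists_index_map b b' u f hf hc
  choose e' he' hec' using exists_index_map b' b u.symm f.symm hf' hc'
  let E : ι ≃ ι' :=
    { toFun := e
      invFun := e'
      left_inv := fun k => P.root.injective (by rw [← he', ← he, f.symm_apply_apply])
      right_inv := fun k => P'.root.injective (by rw [← he, ← he', f.apply_symm_apply]) }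
  let g : N' ≃ₗ[ℤ] N := P'.flip.toPerfPair.trans (f.dualMap.trans P.flip.toPerfPair.symm)
  have hg : ∀ (n : N') (x : M), P.toLinearMap x (g n) = P'.toLinearMap (f x) n := by
    intro n x
    have h := LinearEquiv.apply_symm_apply P.flip.toPerfPair (f.dualMap (P'.flip.toPerfPair n))
    exact LinearMap.congr_fun h x
  let eqv : RootPairing.Equiv P P' :=
    { weightMap := f
      coweightMap := g
      indexEquiv := E
      weight_coweight_transpose := LinearMap.ext fun n => LinearMap.ext fun x => (hg n x).symm
      root_weightMap := funext fun k => he k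
      coroot_coweightMap := funext fun k => by
        apply P.flip.toPerfPair.injective
        ext x
        change P.toLinearMap x (g (P'.coroot k)) = P.toLinearMap x (P.coroot (e' k))
        rw [hg]
        have := hec' k (f x)
        rw [f.symm_apply_apply] at this
        exact this.symm
      bijective_weightMap := f.bijective
      bijective_coweightMap := g.bijective }
  refine ⟨eqv, fun i => P'.root.injective (by
    change P'.root (e (i : ι)) = _
    rw [← he, hf]), fun e₂ h₂ => ?_⟩
  have hw : e₂.weightMap = f.toLinearMap := B.ext fun i => by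
    rw [hB, RootPairing.Hom.root_weightMap_apply, h₂, LinearEquiv.coe_coe, hf]
  apply RootPairing.Equiv.ext
  · exact hw
  · ext n
    apply P.flip.toPerfPair.injective
    ext x
    change P.toLinearMap x (e₂.coweightMap n) = P.toLinearMap x (g n)
    have := LinearMap.congr_fun (RootPairing.Hom.weight_coweight_transpose_apply P P' n e₂.toHom) x
    rw [hg, ← LinearEquiv.coe_coe, ← hw]
    exact this.symm
  · ext k
    apply P'.root.injective
    change P'.root (e₂.indexEquiv k) = P'.root (e k)
    rw [← RootPairing.Hom.root_weightMap_apply, hw, ← he]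
    rfl

end Groth.Agent.Roots36
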