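import Groth.Agent.Roots36.Cone
import Groth.Agent.Roots36.Exists
import Mathlib.LinearAlgebra.RootSystem.Reduced

set_option autoImplicit false
set_option linter.unusedSectionVars false
set_option linter.unusedSimpArgs false

open Set Function RootPairing
open scoped Classical

namespace Groth.Agent.Roots36

variable {ι M N : Type*} [AddCommGroup M] [AddCommGroup N] {P : RootPairing ι ℤ M N}

lemma isIndiv_of_isReduced_pmorph [Finite ι] [P.IsReduced] (i : ι) : RootD.IsIndiv P i := by
  intro j hj
  have hdep : ¬ LinearIndependent ℤ ![P.root j, P.root i] := fun h => by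
    have := (LinearIndependent.pair_iff.mp h 2 (-1) (by rw [hj]; simp)).2
    lia
  rcases RootPairing.IsReduced.eq_or_eq_neg (P := P) j i hdep with h | h
  · have := zsmul_root_inj P (a := 2) (b := 1) (i := j) (by rw [one_smul, hj, h]); lia
  · have := zsmul_root_inj P (a := 2) (b := -1) (i := j) (by rw [hj, h]; simp); lia

/-- A morphism scaling roots and coroots along a bijection of the root sets. -/
structure Scaling {ι' M' N' : Type*} [AddCommGroup M'] [AddCommGroup N']
    (P : RootPairing ι ℤ M N) (P' : RootPairing ι' ℤ M' N') where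
  f : M' →ₗ[ℤ] M
  g : N →ₗ[ℤ] N'
  u : ι ≃ ι'
  q : ι → ℤ
  qpos : ∀ i, 0 < q i
  transpose : ∀ (m' : M') (n : N), P.toLinearMap (f m') n = P'.toLinearMap m' (g n)
  root_map : ∀ i, f (P'.root (u i)) = q i • P.root i
  coroot_map : ∀ i, g (P.coroot i) = q i • P'.coroot (u i)

variable {ι' M' N' : Type*} [AddCommGroup M'] [AddCommGroup N']
  {P' : RootPairing ι' ℤ M' N'} (S : Scaling P P') [Fintype ι] [Fintype ι']

lemma Scaling.pairing_eq (i j : ι) :
    S.q i * P.pairingIn ℤ i j = S.q j * P'.pairingIn ℤ (S.u i) (S.u j) := by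
  have := S.transpose (P'.root (S.u i)) (P.coroot j)
  rw [S.root_map, S.coroot_map, map_smul, map_smul, LinearMap.smul_apply] at this
  simp only [smul_eq_mul] at this
  change S.q i * P.pairing i j = S.q j * P'.pairing (S.u i) (S.u j) at this
  simpa [pairing_eq_cast] using this

lemma Scaling.reflect [P.IsReduced] (i j : ι) :
    S.q (P.reflectionPerm i j) = S.q j ∧
      S.u (P.reflectionPerm i j) = P'.reflectionPerm (S.u i) (S.u j) := by
  set l := S.u.symm (P'.reflectionPerm (S.u i) (S.u j))
  have hl : S.u l = P'.reflectionPerm (S.u i) (S.u j) := S.u.apply_symm_apply _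
  have he : S.q l • P.root l = S.q j • P.root (P.reflectionPerm i j) := by
    rw [← S.root_map l, hl, root_reflectionPerm_int, map_sub, map_zsmul, S.root_map, S.root_map,
      root_reflectionPerm_int, smul_sub, smul_smul, smul_smul, mul_comm (P'.pairingIn ℤ _ _),
      S.pairing_eq j i]
  have hdep : ¬ LinearIndependent ℤ ![P.root l, P.root (P.reflectionPerm i j)] := fun h => by
    have := (LinearIndependent.pair_iff.mp h (S.q l) (-S.q j) (by rw [he]; simp)).1
    have := S.qpos l
    lia
  rcases RootPairing.IsReduced.eq_or_eq_neg (P := P) l _ hdep with h | h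
  · have hlr := P.root.injective h
    rw [← hlr] at he ⊢
    exact ⟨zsmul_root_inj P he, hl⟩
  · exfalso
    rw [h, smul_neg, ← neg_smul] at he
    have := zsmul_root_inj P he
    have := S.qpos l
    have := S.qpos j
    lia

lemma Scaling.smul_mem [P.IsReduced] {w : P.Aut} (hw : w ∈ P.weylGroup) :
    (∀ i, S.q (w • i) = S.q i) ∧
      ∃ w' ∈ P'.weylGroup, ∀ i, S.u (w • i) = w' • S.u i := by
  induction hw using Subgroup.closure_induction with
  | mem x hx =>
    obtain ⟨i, rfl⟩ := hx
    exact ⟨fun k => (S.reflect i k).1, _, P'.reflection_mem_weylGroup (S.u i),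
      fun k => (S.reflect i k).2⟩
  | one => exact ⟨fun i => by rw [one_smul], 1, one_mem _, fun i => by rw [one_smul, one_smul]⟩
  | mul x y _ _ hx hy =>
    obtain ⟨hx, x', hx', hxu⟩ := hx
    obtain ⟨hy, y', hy', hyu⟩ := hy
    exact ⟨fun i => by rw [mul_smul, hx, hy], x' * y', mul_mem hx' hy',
      fun i => by rw [mul_smul, hxu, hyu, mul_smul]⟩
  | inv x _ hx =>
    obtain ⟨hx, x', hx', hxu⟩ := hx
    refine ⟨fun i => by rw [← hx (x⁻¹ • i), smul_inv_smul], x'⁻¹, inv_mem hx', fun i => ?_⟩
    rw [eq_inv_smul_iff, ← hxu, smul_inv_smul]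

lemma Scaling.exists_preimage [P.IsReduced] {w' : P'.Aut} (hw : w' ∈ P'.weylGroup) :
    ∃ w ∈ P.weylGroup, ∀ i, S.u (w • i) = w' • S.u i := by
  induction hw using Subgroup.closure_induction with
  | mem x hx =>
    obtain ⟨i', rfl⟩ := hx
    refine ⟨_, P.reflection_mem_weylGroup (S.u.symm i'), fun k => ?_⟩
    rw [reflection_smul_index, (S.reflect _ k).2, S.u.apply_symm_apply]; rfl
  | one => exact ⟨1, one_mem _, fun i => by rw [one_smul, one_smul]⟩
  | mul x y _ _ hx hy =>
    obtain ⟨x', hx', hxu⟩ := hx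
    obtain ⟨y', hy', hyu⟩ := hy
    exact ⟨x' * y', mul_mem hx' hy', fun i => by rw [mul_smul, hxu, hyu, mul_smul]⟩
  | inv x _ hx =>
    obtain ⟨x', hx', hxu⟩ := hx
    refine ⟨x'⁻¹, inv_mem hx', fun i => ?_⟩
    rw [eq_inv_smul_iff, ← hxu, smul_inv_smul]

lemma Scaling.inj_on_span {x : M'} (hx : x ∈ Submodule.span ℤ (range P'.root)) (h : S.f x = 0) :
    x = 0 := by
  refine eq_zero_of_coroot'_eq_zero hx fun k => ?_
  obtain ⟨i, rfl⟩ := S.u.surjective k
  have := S.transpose x (P.coroot i)
  rw [h, map_zero, LinearMap.zero_apply, S.coroot_map, map_smul, smul_eq_mul] at this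
  exact (mul_eq_zero.mp this.symm).resolve_left (S.qpos i).ne'

lemma Scaling.map_comb (c : ι → ℤ) :
    S.f (comb P' fun k => c (S.u.symm k)) = comb P fun j => c j * S.q j := by
  rw [comb, ← S.u.sum_comp, map_sum, comb]
  exact Finset.sum_congr rfl fun j _ => by
    rw [map_zsmul, S.u.symm_apply_apply, S.root_map, smul_smul]

lemma Scaling.isSimpleSys_image [P'.IsReduced] {Δ : Set ι} (hΔ : RootD.IsSimpleSys P Δ) :
    RootD.IsSimpleSys P' (S.u '' Δ) := by
  obtain ⟨Δ₀, h₀⟩ := exists_isSimpleSys P'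
  set Q : ℤ := ∏ j, S.q j
  have hQ : 0 < Q := Finset.prod_pos fun j _ => S.qpos j
  have hQj : ∀ j, S.q j * ∏ x ∈ Finset.univ.erase j, S.q x = Q := fun j =>
    Finset.mul_prod_erase _ _ (Finset.mem_univ j)
  have hmem : ∀ k, k ∈ S.u '' Δ ↔ S.u.symm k ∈ Δ := fun k => by
    rw [Equiv.image_eq_preimage_symm]; rfl
  refine isSimpleSys_of_cone h₀ (fun i _ => isIndiv_of_isReduced_pmorph i) ?_ fun k => ?_
  · rw [linearIndepOn_iff']
    intro s c hs hsum j hj
    let d : ι → ℤ := fun i => if S.u i ∈ s then c (S.u i) * S.q i else 0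
    have hd : comb P d = 0 := by
      have h1 := congrArg S.f hsum
      rw [map_sum, map_zero] at h1
      rw [← h1, comb]
      have : s = (Finset.univ.filter fun i => S.u i ∈ s).map S.u.toEmbedding := by
        ext a
        simp only [Finset.mem_map_equiv, Finset.mem_filter, Finset.mem_univ, true_and,
          Equiv.apply_symm_apply]
      conv_rhs => rw [this, Finset.sum_map, Finset.sum_filter]
      refine Finset.sum_congr rfl fun i _ => ?_
      simp only [d, Equiv.coe_toEmbedding]
      split_ifs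
      · rw [map_zsmul, S.root_map, smul_smul]
      · exact zero_smul ℤ _
    have h2 := congrFun (comb_inj hΔ (c := d) (c' := 0) (fun i hi => if_neg fun h => hi (by
      obtain ⟨a, ha, e⟩ := hs h
      rwa [← S.u.injective e])) (fun _ _ => rfl) (hd.trans comb_zero.symm)) (S.u.symm j)
    simp only [d, Equiv.apply_symm_apply, hj, if_true, Pi.zero_apply] at h2
    exact (mul_eq_zero.mp h2).resolve_right (S.qpos _).ne'
  · obtain ⟨i, rfl⟩ := S.u.surjective k
    let d : ι → ℤ := fun j => coef hΔ i j * S.q i * ∏ x ∈ Finset.univ.erase j, S.q x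
    have hd : Q • P'.root (S.u i) = comb P' fun k => d (S.u.symm k) := by
      refine sub_eq_zero.mp (S.inj_on_span (sub_mem (Submodule.smul_mem _ _
        (Submodule.subset_span ⟨_, rfl⟩)) (Submodule.span_mono (Set.image_subset_range _ univ)
          (comb_mem_span fun j hj => absurd (mem_univ j) hj))) ?_)
      rw [map_sub, map_zsmul, S.root_map, S.map_comb, sub_eq_zero]
      have : (fun j => d j * S.q j) = (Q * S.q i) • coef hΔ i := funext fun j => by
        simp only [d, Pi.smul_apply, smul_eq_mul]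
        rw [← hQj j]; ring
      rw [this, comb_smul, ← root_eq_comb hΔ, smul_smul]
    have hd0 : ∀ j ∉ S.u '' Δ, d (S.u.symm j) = 0 := fun j hj => by
      simp [d, coef_eq_zero hΔ (fun h => hj ((hmem j).mpr h))]
    have hpr : ∀ j, 0 ≤ S.q i * ∏ x ∈ Finset.univ.erase j, S.q x := fun j =>
      mul_nonneg (S.qpos i).le (Finset.prod_nonneg fun x _ => (S.qpos x).le)
    refine ⟨Q.toNat, by lia, ?_⟩
    rw [← natCast_zsmul, ← natCast_zsmul, Int.toNat_of_nonneg hQ.le]
    rcases coef_sign hΔ i with hs | hs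
    · left
      rw [hd]
      exact comb_mem_natSpan (fun j => by
        simp only [d]; rw [mul_assoc]; exact mul_nonneg (hs _) (hpr _)) hd0
    · right
      rw [smul_neg, hd, ← comb_neg]
      exact comb_mem_natSpan (fun j => by
        simp only [Pi.neg_apply, d]; rw [mul_assoc, neg_nonneg]
        exact mul_nonpos_of_nonpos_of_nonneg (hs _) (hpr _))
        (fun j hj => by simp [hd0 j hj])

lemma Scaling.isSimpleSys_preimage [P.IsReduced] {Δ : Set ι}
    (h : RootD.IsSimpleSys P' (S.u '' Δ)) : RootD.IsSimpleSys P Δ := by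
  obtain ⟨Δ₀, h₀⟩ := exists_isSimpleSys P
  refine isSimpleSys_of_cone h₀ (fun i _ => isIndiv_of_isReduced_pmorph i) ?_ fun k => ?_
  · rw [linearIndepOn_iff']
    intro s c hs hsum j hj
    let d : ι' → ℤ := fun k => if S.u.symm k ∈ s then
      c (S.u.symm k) * ∏ x ∈ Finset.univ.erase (S.u.symm k), S.q x else 0
    have hd : comb P' d = 0 := by
      refine S.inj_on_span (Submodule.span_mono (Set.image_subset_range _ univ)
        (comb_mem_span fun j hj => absurd (mem_univ j) hj)) ?_
      have := S.map_comb (fun i => if i ∈ s then c i * ∏ x ∈ Finset.univ.erase i, S.q x else 0)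
      refine this.trans ?_
      have e : (∏ x, S.q x) • (∑ i ∈ s, c i • P.root i) = 0 := by rw [hsum, smul_zero]
      rw [← e, Finset.smul_sum, comb]
      rw [← Finset.sum_filter_add_sum_filter_not Finset.univ (· ∈ s)]
      rw [Finset.sum_eq_zero (s := Finset.univ.filter fun x => x ∉ s) (fun x hx => by
        simp [(Finset.mem_filter.mp hx).2]), add_zero, Finset.filter_univ_mem]
      refine Finset.sum_congr rfl fun x hx => ?_
      rw [if_pos hx, smul_smul, ← Finset.mul_prod_erase _ _ (Finset.mem_univ x)]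
      congr 1; ring
    have h2 := congrFun (comb_inj h (c := d) (c' := 0) (fun k hk => if_neg fun h => hk
      ⟨_, hs h, S.u.apply_symm_apply k⟩) (fun _ _ => rfl) (hd.trans comb_zero.symm)) (S.u j)
    simp only [d, Equiv.symm_apply_apply, hj, if_true, Pi.zero_apply] at h2
    exact (mul_eq_zero.mp h2).resolve_right (Finset.prod_ne_zero_iff.mpr fun x _ => (S.qpos x).ne')
  · have hd : S.q k • P.root k = comb P fun j => coef h (S.u k) (S.u j) * S.q j := by
      rw [← S.root_map, ← S.map_comb]
      conv_lhs => rw [root_eq_comb h (S.u k)]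
      congr 2
      funext a
      rw [S.u.apply_symm_apply]
    have hd0 : ∀ j ∉ Δ, coef h (S.u k) (S.u j) * S.q j = 0 := fun j hj => by
      rw [coef_eq_zero h (fun ⟨a, ha, e⟩ => hj (by rwa [← S.u.injective e])), zero_mul]
    refine ⟨(S.q k).toNat, by have := S.qpos k; lia, ?_⟩
    rw [← natCast_zsmul, ← natCast_zsmul, Int.toNat_of_nonneg (S.qpos k).le]
    rcases coef_sign h (S.u k) with hs | hs
    · left
      rw [hd]
      exact comb_mem_natSpan (fun j => mul_nonneg (hs _) (S.qpos j).le) hd0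
    · right
      rw [smul_neg, hd, ← comb_neg]
      exact comb_mem_natSpan (fun j => by
        simp only [Pi.neg_apply, neg_nonneg]
        exact mul_nonpos_of_nonpos_of_nonneg (hs _) (S.qpos j).le)
        (fun j hj => by simp [hd0 j hj])

lemma Scaling.posOf_image [P.IsReduced] [P'.IsReduced] {Δ : Set ι} (hΔ : RootD.IsSimpleSys P Δ) :
    RootD.posOf P' (S.u '' Δ) = S.u '' RootD.posOf P Δ := by
  have h' := S.isSimpleSys_image hΔ
  have key : ∀ i ∈ RootD.posOf P Δ, S.u i ∈ RootD.posOf P' (S.u '' Δ) := by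
    intro i hi
    refine posOf_induction hΔ (p := fun i => S.u i ∈ RootD.posOf P' (S.u '' Δ))
      (fun a ha => simple_mem_posOf h' ⟨a, ha, rfl⟩) (fun a ha b hb c hc he hp => ?_) hi
    refine (isPosSys_posOf h').sat (S.q c).toNat (by have := S.qpos c; lia) ?_
    have hQ : ∀ x, ∃ n : ℕ, (n : ℤ) = S.q x := fun x => ⟨(S.q x).toNat, Int.toNat_of_nonneg (S.qpos x).le⟩
    obtain ⟨na, hna⟩ := hQ a
    obtain ⟨nb, hnb⟩ := hQ b
    obtain ⟨nc, hnc⟩ := hQ c
    rw [← hnc, Int.toNat_natCast]
    have hz : (S.q a * S.q b) • P'.root (S.u c) =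
        (S.q b * S.q c) • P'.root (S.u a) + (S.q a * S.q c) • P'.root (S.u b) := by
      refine sub_eq_zero.mp (S.inj_on_span (sub_mem (Submodule.smul_mem _ _
        (Submodule.subset_span ⟨_, rfl⟩)) (add_mem (Submodule.smul_mem _ _
        (Submodule.subset_span ⟨_, rfl⟩)) (Submodule.smul_mem _ _
        (Submodule.subset_span ⟨_, rfl⟩)))) ?_)
      rw [map_sub, map_add, map_zsmul, map_zsmul, map_zsmul, S.root_map, S.root_map, S.root_map, he]
      module
    have hmem : (na * nb) • P'.root (S.u c) ∈ RootD.natSpan P' (RootD.posOf P' (S.u '' Δ)) := by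
      rw [← natCast_zsmul, Nat.cast_mul, hna, hnb, hz, ← hna, ← hnb, ← hnc, ← Nat.cast_mul,
        ← Nat.cast_mul, natCast_zsmul, natCast_zsmul]
      exact add_mem (AddSubmonoid.nsmul_mem _ (AddSubmonoid.subset_closure
          (Set.mem_image_of_mem P'.root hp)) _)
        (AddSubmonoid.nsmul_mem _ (AddSubmonoid.subset_closure
          (Set.mem_image_of_mem P'.root (simple_mem_posOf h' ⟨b, hb, rfl⟩))) _)
    have hcS : S.u c ∈ RootD.posOf P' (S.u '' Δ) := (isPosSys_posOf h').sat (na * nb)
      (Nat.mul_pos (by have := S.qpos a; lia) (by have := S.qpos b; lia)) hmem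
    exact AddSubmonoid.nsmul_mem _ (AddSubmonoid.subset_closure (Set.mem_image_of_mem P'.root hcS)) _
  refine Set.Subset.antisymm (fun k hk => ?_) (by rintro _ ⟨i, hi, rfl⟩; exact key i hi)
  obtain ⟨i, rfl⟩ := S.u.surjective k
  refine ⟨i, ?_, rfl⟩
  by_contra hn
  have := key _ ((neg_posOf_iff hΔ).mpr hn)
  rw [show S.u (neg P i) = neg P' (S.u i) from (S.reflect i i).2] at this
  exact (neg_posOf_iff h').mp this hk

end Groth.Agent.Roots36
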