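import Groth.Agent.Roots36.Dual
import Groth.Agent.Roots36.PMorph
import Mathlib.LinearAlgebra.FreeModule.PID
import Mathlib.LinearAlgebra.RootSystem.BaseExists
import Mathlib.LinearAlgebra.RootSystem.Reduced

set_option autoImplicit false
set_option linter.unusedSectionVars false

open Set Function RootPairing

namespace Groth.Agent.Roots36

variable {ι R M N : Type*} [CommRing R] [AddCommGroup M] [Module R M] [AddCommGroup N] [Module R N]
  (P : RootPairing ι R M N) [IsDomain R] [CharZero R] [Finite ι] [P.IsCrystallographic] [P.IsReduced]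

lemma relation_mem_ker :
    (range fun p : ι × ι => Finsupp.single (P.reflectionPerm p.1 p.2) (1 : ℤ) - Finsupp.single p.2 1 +
        P.pairingIn ℤ p.1 p.2 • Finsupp.single p.1 1) ⊆
      (LinearMap.ker (Finsupp.linearCombination ℤ (fun i : ι => (P.coroot i : N))) : Set (ι →₀ ℤ)) := by
  rintro _ ⟨⟨i, j⟩, rfl⟩
  simp only [SetLike.mem_coe, LinearMap.mem_ker, map_add, map_sub, map_zsmul,
    Finsupp.linearCombination_single, one_smul]
  rw [P.coroot_reflectionPerm, P.coreflection_apply]
  have : P.root' i (P.coroot j) = ((P.pairingIn ℤ i j : ℤ) : R) := pairing_eq_cast i j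
  rw [this, Int.cast_smul_eq_zsmul]
  abel

lemma exists_coroot_basis_data :
    ∃ Δ : Set ι, LinearIndepOn ℤ P.coroot Δ ∧ Δ.Finite ∧
      ∀ (k : ι) (p : ι → Prop), (∀ j ∈ Δ, p j) → (∀ i j, p i → p j → p (P.reflectionPerm j i)) → p k := by
  classical
  have := Fintype.ofFinite ι
  let M₀ := Submodule.span ℤ (range P.root)
  have : Module.IsTorsionFree ℤ M₀ := by
    have := isAddTorsionFree_M P
    infer_instance
  have : Module.Finite ℤ M₀ := Module.Finite.span_of_finite ℤ (finite_range P.root)
  have : Module.Free ℤ M₀ := Module.free_of_finite_type_torsion_free'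
  have hint : ∀ (x : M₀) (k : ι), ∃ z : ℤ, P.coroot' k (x : M) = (z : R) := by
    rintro ⟨x, hx⟩ k
    induction hx using Submodule.span_induction with
    | mem y hy =>
      obtain ⟨i, rfl⟩ := hy
      exact ⟨P.pairingIn ℤ i k, by rw [root_coroot'_eq_pairing, pairing_eq_cast]⟩
    | zero => exact ⟨0, by simp⟩
    | add a b _ _ ha hb =>
      obtain ⟨u, hu⟩ := ha
      obtain ⟨v, hv⟩ := hb
      exact ⟨u + v, by simp at hu hv ⊢; rw [hu, hv]⟩
    | smul r a _ ha =>
      obtain ⟨u, hu⟩ := ha
      exact ⟨r * u, by simp at hu ⊢; simp [hu]⟩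
  choose z hz using hint
  let c : ι → Module.Dual ℤ M₀ := fun k =>
    { toFun := fun x => z x k
      map_add' := fun a b => Int.cast_injective (α := R) (by
        rw [Int.cast_add, ← hz, ← hz, ← hz]; exact map_add _ _ _)
      map_smul' := fun r a => Int.cast_injective (α := R) (by
        simp only [RingHom.id_apply, smul_eq_mul, Int.cast_mul, ← hz, ← zsmul_eq_mul]
        exact map_zsmul _ _ _) }
  let r : ι → M₀ := fun i => ⟨P.root i, Submodule.subset_span (mem_range_self i)⟩
  have hc : ∀ i k, c k (r i) = P.pairingIn ℤ i k := fun i k => Int.cast_injective (α := R) (by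
    change (z (r i) k : R) = _
    rw [← hz, ← pairing_eq_cast]
    exact P.root_coroot'_eq_pairing k i)
  have hcr : ∀ i j, c (P.reflectionPerm i j) = c j - P.pairingIn ℤ i j • c i := fun i j => by
    ext x
    apply Int.cast_injective (α := R)
    change (z x (P.reflectionPerm i j) : R) = ((z x j - P.pairingIn ℤ i j * z x i : ℤ) : R)
    rw [Int.cast_sub, Int.cast_mul, ← hz, ← hz, ← hz, ← pairing_eq_cast]
    change P.toLinearMap x (P.coroot (P.reflectionPerm i j)) = _
    rw [P.coroot_reflectionPerm, P.coreflection_apply, map_sub, map_smul]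
    rfl
  let P₀ : RootPairing ι ℤ M₀ (Module.Dual ℤ M₀) :=
    { toLinearMap := Module.Dual.eval ℤ M₀
      root := ⟨r, fun a b e => P.root.injective (congrArg Subtype.val e)⟩
      coroot := ⟨c, fun a b e => by
        have h1 := LinearMap.congr_fun e (r a)
        have h2 := LinearMap.congr_fun e (r b)
        rw [hc, hc, pairingIn_self] at h1 h2
        have := isTorsionFree_M P
        exact (P.pairingIn_two_two_iff ℤ a b).mp ⟨h1.symm, h2⟩⟩
      root_coroot_two := fun i => by
        change c i (r i) = 2
        rw [hc, pairingIn_self]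
      reflectionPerm := P.reflectionPerm
      reflectionPerm_root := fun i j => by
        apply Subtype.ext
        change P.root j - (c i (r j)) • P.root i = P.root (P.reflectionPerm i j)
        rw [hc, root_reflectionPerm_int]
      reflectionPerm_coroot := fun i j => by
        change c j - (c j (r i)) • c i = c (P.reflectionPerm i j)
        rw [hc, hcr] }
  have hred : P₀.IsReduced := by
    refine ⟨fun a b h => ?_⟩
    have hdep : ¬ LinearIndependent R ![P.root a, P.root b] := by
      intro hli
      refine h (LinearIndependent.pair_iff.mpr fun s t hst => ?_)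
      have h1 : s • P.root a + t • P.root b = 0 := congrArg Subtype.val hst
      rw [← Int.cast_smul_eq_zsmul R, ← Int.cast_smul_eq_zsmul R] at h1
      simpa using LinearIndependent.pair_iff.mp hli _ _ h1
    rcases RootPairing.IsReduced.eq_or_eq_neg a b hdep with h' | h'
    · exact Or.inl (Subtype.ext h')
    · exact Or.inr (Subtype.ext h')
  obtain ⟨Δ, hΔ⟩ := exists_isSimpleSys P₀
  refine ⟨Δ, ?_, Set.toFinite _, fun k p h0 hstep => ?_⟩
  · rw [linearIndepOn_iff']
    intro s g hs hsum j hj
    let d : ι → ℤ := fun i => if i ∈ s then g i else 0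
    have hd : comb P₀.flip d = 0 := by
      ext x
      change (∑ i, d i • c i) x = 0
      apply Int.cast_injective (α := R)
      simp only [LinearMap.sum_apply, LinearMap.smul_apply, smul_eq_mul, Int.cast_sum, Int.cast_mul,
        Int.cast_zero]
      have h1 := congrArg (P.toLinearMap (x : M)) hsum
      rw [map_sum, map_zero] at h1
      refine Eq.trans ?_ h1
      rw [← Finset.sum_subset (Finset.subset_univ s) fun i _ hi => by simp [d, hi]]
      refine Finset.sum_congr rfl fun i hi => ?_
      rw [map_zsmul, zsmul_eq_mul]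
      change (d i : R) * (z x i : R) = _
      rw [← hz]
      simp [d, hi]
    have := congrFun (coroot_comb_eq_zero hΔ (fun i hi => if_neg fun h => hi (hs h)) hd) j
    simpa [d, hj] using this
  · obtain ⟨g, hg, i, hi, rfl⟩ := exists_subW_smul hΔ (isIndiv_of_isReduced_pmorph (P := P₀) k)
    obtain ⟨l, hl, rfl⟩ := exists_word_of_mem_subW hg
    induction l with
    | nil => rw [wprod_nil, one_smul]; exact h0 i hi
    | cons a l ih =>
      rw [wprod_cons, mul_smul, reflection_smul_index]
      have hl' : ∀ b ∈ l, b ∈ Δ := fun b hb => hl b (List.mem_cons_of_mem a hb)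
      exact hstep _ a (ih hl' (wprod_mem_subW hl')) (h0 a (hl a (by simp)))

end Groth.Agent.Roots36
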