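import Mathlib.LinearAlgebra.RootSystem.Base
import Mathlib.LinearAlgebra.RootSystem.WeylGroup
import Groth.Prelude.Def_W4sga3xxiRoot

set_option autoImplicit false

open Set Function RootPairing
open scoped Classical

namespace Groth.Agent.Roots36

variable {ι R M N : Type*} [CommRing R] [AddCommGroup M] [Module R M] [AddCommGroup N] [Module R N]
  {P : RootPairing ι R M N}

section Aut

variable (P)

/-- The opposite root. -/
abbrev neg (i : ι) : ι := P.reflectionPerm i i

@[simp] lemma root_neg (i : ι) : P.root (neg P i) = -P.root i := by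
  simp [neg, root_reflectionPerm]

variable {P}

lemma root_smul (g : P.Aut) (i : ι) : P.root (g • i) = g • P.root i :=
  RootPairing.Equiv.root_indexEquiv_eq_smul P i g

lemma smul_index_eq (g : P.Aut) (i : ι) : g • i = g.indexEquiv i := rfl

lemma reflection_smul_index (i j : ι) : RootPairing.Equiv.reflection P i • j = P.reflectionPerm i j := rfl

lemma weightMap_eq_smul (g : P.Aut) (m : M) : g.weightMap m = g • m := rfl

lemma coroot'_smul (g : P.Aut) (i : ι) (m : M) : P.coroot' (g • i) (g • m) = P.coroot' i m := by
  have h1 := RootPairing.Hom.weight_coweight_transpose_apply P P (P.coroot (g • i)) g.toHom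
  have h2 := RootPairing.Hom.coroot_coweightMap_apply P P (g • i) g.toHom
  have h3 := LinearMap.congr_fun h1 m
  have h4 : g.toHom.indexEquiv.symm (g • i) = i := g.toHom.indexEquiv.symm_apply_apply i
  rw [h4] at h2
  simp only [LinearMap.dualMap_apply] at h3
  rw [show g.toHom.coweightMap (P.coroot (g • i)) = P.coroot i from h2] at h3
  exact h3

lemma pairing_smul (g : P.Aut) (i j : ι) : P.pairing (g • i) (g • j) = P.pairing i j := by
  rw [← root_coroot'_eq_pairing, ← root_coroot'_eq_pairing, root_smul, coroot'_smul]

lemma smul_neg_index (g : P.Aut) (i : ι) : g • neg P i = neg P (g • i) := by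
  apply P.root.injective
  rw [root_smul, root_neg, root_neg, root_smul, smul_neg]

lemma smul_smulR (g : P.Aut) (r : R) (m : M) : g • (r • m) = r • (g • m) := smul_comm g r m

lemma aut_ext {g h : P.Aut} (H : ∀ m : M, g • m = h • m) : g = h :=
  RootPairing.Equiv.weightHom_injective P (LinearEquiv.ext H)

lemma conj_reflection (g : P.Aut) (i : ι) :
    g * RootPairing.Equiv.reflection P i * g⁻¹ = RootPairing.Equiv.reflection P (g • i) := by
  apply aut_ext
  intro m
  rw [mul_smul, mul_smul]
  simp only [RootPairing.Equiv.reflection_smul, reflection_apply]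
  rw [smul_sub, smul_smulR, smul_inv_smul, root_smul]
  congr 2
  conv_rhs => rw [← smul_inv_smul g m, coroot'_smul]

lemma reflection_sq (i : ι) :
    RootPairing.Equiv.reflection P i * RootPairing.Equiv.reflection P i = 1 := by
  rw [mul_eq_one_iff_inv_eq, RootPairing.Equiv.reflection_inv]

lemma reflection_reflection_smul (i j : ι) :
    RootPairing.Equiv.reflection P i • (RootPairing.Equiv.reflection P i • j) = j := by
  rw [← mul_smul, reflection_sq, one_smul]

lemma reflection_self_smul (i : ι) : RootPairing.Equiv.reflection P i • i = neg P i := rfl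

lemma weylGroup_smul_mem_rootSpan {g : P.Aut} (S : Type*) [CommRing S] [Algebra S R] [Module S M]
    [IsScalarTower S R M] {x : M} (hx : x ∈ Submodule.span S (range P.root)) :
    g • x ∈ Submodule.span S (range P.root) := by
  induction hx using Submodule.span_induction with
  | mem y hy => obtain ⟨i, rfl⟩ := hy; exact Submodule.subset_span ⟨g • i, root_smul g i⟩
  | zero => simp
  | add y z _ _ hy hz => rw [smul_add]; exact add_mem hy hz
  | smul a y _ hy =>
    have : g • (a • y) = a • (g • y) := by
      rw [← algebraMap_smul R a y, smul_smulR, algebraMap_smul]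
    rw [this]; exact Submodule.smul_mem _ _ hy

end Aut

section Indiv

lemma isIndiv_smul (g : P.Aut) {i : ι} (h : RootD.IsIndiv P i) : RootD.IsIndiv P (g • i) := by
  intro j hj
  apply h (g⁻¹ • j)
  rw [root_smul, ← smul_smulR, hj, root_smul, inv_smul_smul]

lemma isIndiv_smul_iff (g : P.Aut) {i : ι} : RootD.IsIndiv P (g • i) ↔ RootD.IsIndiv P i :=
  ⟨fun h => by simpa using isIndiv_smul g⁻¹ h, isIndiv_smul g⟩

end Indiv

section Domain

set_option linter.unusedSectionVars false
variable [CharZero R] [IsDomain R]

lemma isTorsionFree_M (P : RootPairing ι R M N) : Module.IsTorsionFree R M := by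
  have : Module.IsReflexive R M := .of_isPerfPair P.toLinearMap
  infer_instance

lemma isTorsionFree_N (P : RootPairing ι R M N) : Module.IsTorsionFree R N := by
  have : Module.IsReflexive R N := .of_isPerfPair P.flip.toLinearMap
  infer_instance

lemma isAddTorsionFree_M (P : RootPairing ι R M N) : IsAddTorsionFree M := by
  have := isTorsionFree_M P
  exact .of_isTorsionFree R M

lemma isAddTorsionFree_N (P : RootPairing ι R M N) : IsAddTorsionFree N := by
  have := isTorsionFree_N P
  exact .of_isTorsionFree R N

lemma cast_smul_cancel (P : RootPairing ι R M N) {a : R} (ha : a ≠ 0) {x y : M}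
    (h : a • x = a • y) : x = y := by
  have := isTorsionFree_M P
  exact smul_right_injective M ha h

lemma zsmul_cancel (P : RootPairing ι R M N) {a : ℤ} (ha : a ≠ 0) {x y : M}
    (h : a • x = a • y) : x = y := by
  apply cast_smul_cancel P (a := (a : R)) (by exact_mod_cast ha)
  rwa [Int.cast_smul_eq_zsmul, Int.cast_smul_eq_zsmul]

lemma nsmul_cancel (P : RootPairing ι R M N) {a : ℕ} (ha : a ≠ 0) {x y : M}
    (h : a • x = a • y) : x = y := by
  apply cast_smul_cancel P (a := (a : R)) (by exact_mod_cast ha)
  rwa [Nat.cast_smul_eq_nsmul, Nat.cast_smul_eq_nsmul]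

lemma zsmul_root_inj (P : RootPairing ι R M N) {a b : ℤ} {i : ι}
    (h : a • P.root i = b • P.root i) : a = b := by
  by_contra hne
  have : (a - b) • P.root i = (a - b) • (0 : M) := by rw [sub_smul, h, sub_self, smul_zero]
  exact P.ne_zero i (zsmul_cancel P (sub_ne_zero.mpr hne) this)

variable [P.IsCrystallographic]

lemma pairing_eq_cast (i j : ι) : P.pairing i j = ((P.pairingIn ℤ i j : ℤ) : R) := by
  rw [← P.algebraMap_pairingIn ℤ, eq_intCast]

lemma root_reflectionPerm_int (i j : ι) :
    P.root (P.reflectionPerm j i) = P.root i - P.pairingIn ℤ i j • P.root j := by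
  rw [root_reflectionPerm, reflection_apply_root, pairing_eq_cast, Int.cast_smul_eq_zsmul]

lemma pairingIn_smul (g : P.Aut) (i j : ι) :
    P.pairingIn ℤ (g • i) (g • j) = P.pairingIn ℤ i j := by
  apply FaithfulSMul.algebraMap_injective ℤ R
  simp only [algebraMap_pairingIn, pairing_smul]

@[simp] lemma pairingIn_self (i : ι) : P.pairingIn ℤ i i = 2 := P.pairingIn_same ℤ i

lemma pairingIn_neg_left (i j : ι) : P.pairingIn ℤ (neg P i) j = -P.pairingIn ℤ i j :=
  P.pairingIn_reflectionPerm_self_left ..

lemma pairingIn_neg_right (i j : ι) : P.pairingIn ℤ i (neg P j) = -P.pairingIn ℤ i j :=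
  P.pairingIn_reflectionPerm_self_right ..

variable [Finite ι]

lemma pairingIn_pos_symm {i j : ι} (h : 0 < P.pairingIn ℤ i j) : 0 < P.pairingIn ℤ j i :=
  (P.zero_lt_pairingIn_iff' ℤ).mp h

lemma pairingIn_neg_symm {i j : ι} (h : P.pairingIn ℤ i j < 0) : P.pairingIn ℤ j i < 0 :=
  (P.pairingIn_lt_zero_iff ℤ).mp h

lemma pairingIn_eq_zero_symm {i j : ι} (h : P.pairingIn ℤ i j = 0) : P.pairingIn ℤ j i = 0 := by
  rcases lt_trichotomy (P.pairingIn ℤ j i) 0 with h' | h' | h'
  · have := pairingIn_neg_symm h'; lia
  · exact h'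
  · have := pairingIn_pos_symm h'; lia

/-- The six ways in which two roots can be proportional. -/
lemma proportional_cases {i j : ι} (h : ¬ LinearIndependent R ![P.root i, P.root j]) :
    P.root j = P.root i ∨ P.root j = -P.root i ∨ P.root j = (2 : ℤ) • P.root i ∨
      P.root j = (-2 : ℤ) • P.root i ∨ P.root i = (2 : ℤ) • P.root j ∨
      P.root i = (-2 : ℤ) • P.root j := by
  have := isTorsionFree_M P
  have := isTorsionFree_N P
  have h4 : P.pairingIn ℤ i j * P.pairingIn ℤ j i = 4 :=
    (P.coxeterWeightIn_eq_four_iff_not_linearIndependent ℤ).mpr h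
  have hmem := P.pairingIn_pairingIn_mem_set_of_isCrystallographic i j
  have two : ∀ x : M, (2 : R) • x = (2 : ℤ) • x := fun x => by
    rw [← Int.cast_smul_eq_zsmul R]; norm_num
  have mtwo : ∀ x : M, (-2 : R) • x = (-2 : ℤ) • x := fun x => by
    rw [← Int.cast_smul_eq_zsmul R]; norm_num
  simp only [mem_insert_iff, mem_singleton_iff, Prod.mk.injEq] at hmem
  rcases hmem with H | H | H | H | H | H | H | H | H | H | H | H | H | H | H | H | H <;>
    first
    | (exfalso; rw [H.1, H.2] at h4; norm_num at h4; done)
    | (right; right; left; rw [← two]; exact (P.pairingIn_one_four_iff ℤ i j).mp H)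
    | (right; right; right; right; left; rw [← two]
       exact (P.pairingIn_one_four_iff ℤ j i).mp ⟨H.2, H.1⟩)
    | (right; right; right; left; rw [← mtwo]; exact (P.pairingIn_neg_one_neg_four_iff ℤ i j).mp H)
    | (right; right; right; right; right; rw [← mtwo]
       exact (P.pairingIn_neg_one_neg_four_iff ℤ j i).mp ⟨H.2, H.1⟩)
    | (left; rw [(P.pairingIn_two_two_iff ℤ i j).mp H])
    | (right; left; rw [(P.pairingIn_neg_two_neg_two_iff ℤ i j).mp H]; simp)

lemma sub_root_mem {i j : ι} (h : 0 < P.pairingIn ℤ i j) (h' : i ≠ j) :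
    ∃ k, P.root k = P.root i - P.root j :=
  P.root_sub_root_mem_of_pairingIn_pos h h'

lemma add_root_mem {i j : ι} (h : P.pairingIn ℤ i j < 0) (h' : P.root i ≠ -P.root j) :
    ∃ k, P.root k = P.root i + P.root j :=
  P.root_add_root_mem_of_pairingIn_neg h h'

lemma eq_zero_of_coroot'_eq_zero {x : M} (hx : x ∈ Submodule.span R (range P.root))
    (h : ∀ i, P.coroot' i x = 0) : x = 0 := by
  have : Fintype ι := Fintype.ofFinite ι
  by_contra hne
  obtain ⟨i, hi⟩ := P.exists_coroot_ne R (x := ⟨x, hx⟩) (fun e => hne (congrArg Subtype.val e))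
  apply hi
  apply FaithfulSMul.algebraMap_injective R R
  rw [algebraMap_coroot'In_apply, map_zero]
  exact h i

lemma rootSpan_int_le {x : M} (hx : x ∈ Submodule.span ℤ (range P.root)) :
    x ∈ Submodule.span R (range P.root) :=
  Submodule.span_le_restrictScalars ℤ R _ hx

/-- The reflection in a root equals the reflection in any proportional root. -/
lemma reflection_eq_of_smul {i j : ι} {t : R} (ht : P.root j = t • P.root i) :
    RootPairing.Equiv.reflection P j = RootPairing.Equiv.reflection P i := by
  have := isAddTorsionFree_M P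
  have := isAddTorsionFree_N P
  have hc : P.coroot i = t • P.coroot j := P.coroot_eq_smul_coroot_iff.mpr ht
  apply aut_ext
  intro m
  simp only [RootPairing.Equiv.reflection_smul, reflection_apply, coroot']
  rw [hc, map_smul, LinearMap.smul_apply, ht, smul_smul, smul_eq_mul, mul_comm]

end Domain

end Groth.Agent.Roots36
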