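import Mathlib.Analysis.Convex.Combination
import Mathlib.LinearAlgebra.BilinearForm.Properties

set_option autoImplicit false
set_option linter.unusedSectionVars false

open scoped Classical

namespace Groth.Agent.Roots36

variable {R V : Type*} [Field R] [LinearOrder R] [IsStrictOrderedRing R] [AddCommGroup V]
  [Module R V] (B : LinearMap.BilinForm R V)

lemma le_apply_of_mem_convexHull (L : V →ₗ[R] R) {A : Set V} {c : R} (h : ∀ v ∈ A, c ≤ L v)
    {x : V} (hx : x ∈ convexHull R A) : c ≤ L x :=
  convexHull_min (fun v hv => h v hv) (convex_halfSpace_ge L.isLinear c) hx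

lemma apply_eq_of_mem_convexHull (L : V →ₗ[R] R) {A : Set V} {c : R} (h : ∀ v ∈ A, L v = c)
    {x : V} (hx : x ∈ convexHull R A) : L x = c :=
  convexHull_min (fun v hv => h v hv) (convex_hyperplane L.isLinear c) hx

variable {B} (hs : ∀ y z, B y z = B z y) (hp : ∀ y, y ≠ 0 → 0 < B y y)
include hs hp

lemma self_nonneg (y : V) : 0 ≤ B y y := by
  rcases eq_or_ne y 0 with rfl | h
  · simp
  · exact (hp y h).le

lemma exists_orth_proj (s : Finset V) (v : V) :
    ∃ w ∈ Submodule.span R (s : Set V), ∀ u ∈ Submodule.span R (s : Set V), B (v - w) u = 0 := by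
  induction s using Finset.induction_on generalizing v with
  | empty =>
    refine ⟨0, Submodule.zero_mem _, fun u hu => ?_⟩
    simp only [Finset.coe_empty, Submodule.span_empty, Submodule.mem_bot] at hu
    simp [hu]
  | insert a s _ ih =>
    obtain ⟨w₀, hw₀, hwo⟩ := ih v
    obtain ⟨wa, hwa, hao⟩ := ih a
    obtain ⟨a', haeq⟩ : ∃ a', a' = a - wa := ⟨_, rfl⟩
    rw [← haeq] at hao
    set t : R := B (v - w₀) a' / B a' a'
    have hle : Submodule.span R (s : Set V) ≤ Submodule.span R ((insert a s : Finset V) : Set V) :=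
      Submodule.span_mono (by simp)
    have ha' : a' ∈ Submodule.span R ((insert a s : Finset V) : Set V) :=
      haeq ▸ sub_mem (Submodule.subset_span (by simp)) (hle hwa)
    refine ⟨w₀ + t • a', add_mem (hle hw₀) (Submodule.smul_mem _ _ ha'), fun u hu => ?_⟩
    rw [Finset.coe_insert, Submodule.mem_span_insert] at hu
    obtain ⟨r, z, hz, rfl⟩ := hu
    have h1 : ∀ z ∈ Submodule.span R (s : Set V), B (v - (w₀ + t • a')) z = 0 := fun z hz => by
      rw [← sub_sub, map_sub, LinearMap.sub_apply, hwo z hz, map_smul, LinearMap.smul_apply,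
        hao z hz]
      simp
    have h2 : B (v - (w₀ + t • a')) a' = 0 := by
      rw [← sub_sub, map_sub, LinearMap.sub_apply, map_smul, LinearMap.smul_apply, smul_eq_mul]
      rcases eq_or_ne a' 0 with h | h
      · simp [h]
      · simp only [t, div_mul_cancel₀ _ (hp a' h).ne', sub_self]
    have ha : B (v - (w₀ + t • a')) a = 0 := by
      have : a = a' + wa := by simp [haeq]
      rw [this, map_add, h2, h1 wa hwa, add_zero]
    rw [map_add, map_smul, ha, h1 z hz, smul_zero, add_zero]

/-- A positive definite form attains a minimum on the convex hull of a finite set. -/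
lemma exists_min_convexHull {s : Finset V} (hne : s.Nonempty) :
    ∃ y ∈ convexHull R (s : Set V), ∀ x ∈ convexHull R (s : Set V), B y y ≤ B x x := by
  induction s using Finset.strongInduction with
  | H s ih =>
    obtain ⟨v₀, hv₀⟩ := hne
    obtain ⟨w, hw, hwo⟩ := exists_orth_proj hs hp (s.image fun v => v - v₀) (-v₀)
    set W := Submodule.span R ((s.image fun v => v - v₀ : Finset V) : Set V)
    set p := v₀ + w
    have hpo : ∀ u ∈ W, B p u = 0 := fun u hu => by
      have := hwo u hu
      have e : -v₀ - w = -p := by simp only [p]; abel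
      rw [e, map_neg, LinearMap.neg_apply, neg_eq_zero] at this
      exact this
    have hWv : ∀ v ∈ s, v - v₀ ∈ W := fun v hv =>
      Submodule.subset_span (Finset.mem_image_of_mem _ hv)
    have hdecomp : ∀ x ∈ convexHull R (s : Set V), x - p ∈ W := fun x hx => by
      obtain ⟨c, -, hc1, rfl⟩ := Finset.mem_convexHull'.mp hx
      have e : ∑ y ∈ s, c y • y - p = ∑ y ∈ s, c y • (y - v₀) - w := by
        simp only [smul_sub, Finset.sum_sub_distrib, ← Finset.sum_smul, hc1, one_smul, p]; abel
      rw [e]
      exact sub_mem (Submodule.sum_mem _ fun y hy => Submodule.smul_mem _ _ (hWv y hy)) hw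
    have hdec : ∀ z : V, ∀ x ∈ convexHull R (s : Set V), z = x - p → ∀ a : R,
        B (p + a • z) (p + a • z) = B p p + a ^ 2 * B z z := by
      intro z x hx hz a
      have h0 := hpo z (hz ▸ hdecomp x hx)
      simp [map_add, hs z p, h0]; ring
    obtain ⟨μ, hμ1, hμp⟩ : ∃ μ : V → R, ∑ y ∈ s, μ y = 1 ∧ ∑ y ∈ s, μ y • y = p := by
      obtain ⟨e, he⟩ : ∃ e : V → R, ∑ y ∈ s, e y • (y - v₀) = w := by
        have hw' : w ∈ Submodule.span R ((fun v => v - v₀) '' (s : Set V)) := by
          rwa [← Finset.coe_image]
        obtain ⟨l, hl, hlw⟩ := (Finsupp.mem_span_image_iff_linearCombination R).mp hw'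
        refine ⟨l, ?_⟩
        rw [← hlw, Finsupp.linearCombination_apply, Finsupp.sum_of_support_subset l ?_
          (fun y r => r • (y - v₀)) (fun _ _ => zero_smul R _)]
        exact fun y hy => Finsupp.mem_supported R l |>.mp hl hy
      refine ⟨fun y => e y + if y = v₀ then 1 - ∑ z ∈ s, e z else 0, ?_, ?_⟩
      · rw [Finset.sum_add_distrib, Finset.sum_ite_eq', if_pos hv₀]; ring
      · simp only [add_smul, Finset.sum_add_distrib, ite_smul, zero_smul, Finset.sum_ite_eq',
          if_pos hv₀, p]
        rw [← he]
        simp only [smul_sub, Finset.sum_sub_distrib, sub_smul, ← Finset.sum_smul, one_smul]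
        abel
    by_cases hpos : ∀ y ∈ s, 0 ≤ μ y
    · refine ⟨p, Finset.mem_convexHull'.mpr ⟨μ, hpos, hμ1, hμp⟩, fun x hx => ?_⟩
      have := hdec (x - p) x hx rfl 1
      rw [one_smul, add_sub_cancel, one_pow, one_mul] at this
      rw [this]
      exact le_add_of_nonneg_right (self_nonneg hs hp _)
    · push Not at hpos
      obtain ⟨v₁, hv₁, hμv₁⟩ := hpos
      have herase : ∀ v ∈ s, (s.erase v).Nonempty := fun v hv => by
        by_contra hc
        rw [Finset.not_nonempty_iff_eq_empty] at hc
        have hsv : s = {v} := by rw [← Finset.insert_erase hv, hc]; rfl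
        rw [hsv, Finset.sum_singleton] at hμ1
        rw [hsv, Finset.mem_singleton] at hv₁
        rw [hv₁, hμ1] at hμv₁
        linarith
      choose Y hY hYmin using fun v : s =>
        ih (s.erase v) (Finset.erase_ssubset v.2) (herase v v.2)
      obtain ⟨v₂, -, hv₂⟩ := Finset.exists_min_image (Finset.univ : Finset s)
        (fun v => B (Y v) (Y v)) ⟨⟨v₁, hv₁⟩, Finset.mem_univ _⟩
      refine ⟨Y v₂, convexHull_mono (by simp) (hY v₂), fun x hx => ?_⟩
      obtain ⟨c, hc0, hc1, hcx⟩ := Finset.mem_convexHull'.mp hx
      obtain ⟨v, hv, hvmin⟩ := Finset.exists_min_image (s.filter fun y => μ y < 0)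
        (fun y => c y / (c y - μ y)) ⟨v₁, by simp [hv₁, hμv₁]⟩
      rw [Finset.mem_filter] at hv
      set t := c v / (c v - μ v)
      have hden : 0 < c v - μ v := by linarith [hc0 v hv.1, hv.2]
      have ht0 : 0 ≤ t := div_nonneg (hc0 v hv.1) hden.le
      have ht1 : t ≤ 1 := (div_le_one hden).mpr (by linarith [hv.2])
      have hzmem : (1 - t) • x + t • p ∈ convexHull R ((s.erase v : Finset V) : Set V) := by
        refine Finset.mem_convexHull'.mpr ⟨fun y => (1 - t) * c y + t * μ y, fun y hy => ?_, ?_, ?_⟩
        · have hys := Finset.mem_of_mem_erase hy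
          have hcy := hc0 y hys
          by_cases hy' : μ y < 0
          · have := hvmin y (by simp [hys, hy'])
            rw [le_div_iff₀ (by linarith)] at this
            nlinarith
          · push Not at hy'
            exact add_nonneg (mul_nonneg (by linarith) hcy) (mul_nonneg ht0 hy')
        · beta_reduce
          rw [Finset.sum_erase]
          · rw [Finset.sum_add_distrib, ← Finset.mul_sum, ← Finset.mul_sum, hc1, hμ1]; ring
          · simp only [t]; field_simp; ring
        · beta_reduce
          rw [Finset.sum_erase]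
          · simp only [add_smul, mul_smul, Finset.sum_add_distrib, ← Finset.smul_sum, hcx, hμp]
          · have : (1 - t) * c v + t * μ v = 0 := by simp only [t]; field_simp; ring
            rw [this, zero_smul]
      have hle := hYmin ⟨v, hv.1⟩ _ hzmem
      have hBz : B ((1 - t) • x + t • p) ((1 - t) • x + t • p) ≤ B x x := by
        have e : (1 - t) • x + t • p = p + (1 - t) • (x - p) := by
          simp only [smul_sub, sub_smul, one_smul]; abel
        rw [e, hdec (x - p) x hx rfl (1 - t)]
        have h2 := hdec (x - p) x hx rfl 1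
        rw [one_smul, add_sub_cancel, one_pow, one_mul] at h2
        rw [h2]
        have := self_nonneg hs hp (x - p)
        nlinarith [mul_nonneg ht0 (show 0 ≤ 2 - t by linarith)]
      exact (hv₂ ⟨v, hv.1⟩ (Finset.mem_univ _)).trans (hle.trans hBz)

/-- The minimality condition in variational form. -/
lemma min_inner_le {A : Set V} {y : V} (hy : y ∈ convexHull R A)
    (hmin : ∀ x ∈ convexHull R A, B y y ≤ B x x) {x : V} (hx : x ∈ convexHull R A) :
    B y y ≤ B y x := by
  by_contra hc
  push Not at hc
  set g := B y y - B y x with hg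
  have hgpos : 0 < g := by linarith
  set D := B (x - y) (x - y)
  have hD : 0 ≤ D := self_nonneg hs hp _
  set a : R := g / (g + D)
  have hden : 0 < g + D := by linarith
  have ha0 : 0 < a := div_pos hgpos hden
  have ha1 : a ≤ 1 := (div_le_one hden).mpr (by linarith)
  have hmem : y + a • (x - y) ∈ convexHull R A :=
    (convex_convexHull R A).add_smul_sub_mem hy hx ⟨ha0.le, ha1⟩
  have hm := hmin _ hmem
  have hexp : B (y + a • (x - y)) (y + a • (x - y)) = B y y - 2 * a * g + a ^ 2 * D := by
    simp [map_add, map_sub, g, D, hs x y]; ring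
  have key : a * D < 2 * g := by
    have : a * D ≤ g := by
      simp only [a, div_mul_eq_mul_div, div_le_iff₀ hden]
      nlinarith
    linarith
  nlinarith

end Groth.Agent.Roots36
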