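import Groth.Agent.Roots36.Sums
import Groth.Agent.Roots36.Convex

set_option autoImplicit false
set_option linter.unusedSectionVars false
set_option linter.unusedSimpArgs false

open Set Function RootPairing Module
open scoped Classical Pointwise

namespace Groth.Agent.Roots36.Ch

universe u v w x

variable {ι : Type u} {R : Type v} {M : Type w} {N : Type x}
  [Field R] [LinearOrder R] [IsStrictOrderedRing R]
  [AddCommGroup M] [Module R M] [AddCommGroup N] [Module R N] [Fintype ι]
  {P : RootPairing ι R M N} [P.IsRootSystem] [P.IsCrystallographic] [P.IsReduced]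

instance finite_base : Finite P.Base :=
  Finite.of_injective (fun b => b.support) fun _ _ h => base_ext h

variable {d : P.Base → N} (hd : RootCh.IsCCS d)
include hd

/-- Crossing a wall increases the pairing of d with a vector of the chamber of the start. -/
lemma pairing_le {b b' : P.Base} {m : M} (hm : m ∈ RootCh.closedChamber b) :
    P.toLinearMap m (d b) ≤ P.toLinearMap m (d b') := by
  generalize hn : (Finset.univ.filter fun k => k ∈ RootD.posOf P (b.support : Set ι) ∧
    k ∉ RootD.posOf P (b'.support : Set ι)).card = n
  induction n using Nat.strongRecOn generalizing b' with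
  | ind n ih =>
    have hb := base_isSimpleSys b
    have hb' := base_isSimpleSys b'
    by_cases hsub : (b'.support : Set ι) ⊆ RootD.posOf P (b.support : Set ι)
    · have h1 := posOf_subset_of_closed hb' (isClosed_posOf hb) hsub
      have h2 : b' = b := base_ext_posOf <| h1.antisymm fun k hk => by
        by_contra hk'
        exact (neg_posOf_iff hb).mp (h1 ((neg_posOf_iff hb').mpr hk')) hk
      rw [h2]
    · obtain ⟨i, hi, hib⟩ := Set.not_subset.mp hsub
      let s := RootPairing.Equiv.reflection P i
      let b'' := baseOfSimple (isSimpleSys_smul s hb')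
      have hb'' : (b''.support : Set ι) = (s • ·) '' (b'.support : Set ι) := support_baseOfSimple _
      have hii := simple_mem_posOf hb' hi
      have hpos'' : ∀ k, k ∈ RootD.posOf P (b''.support : Set ι) ↔
          k = neg P i ∨ (k ∈ RootD.posOf P (b'.support : Set ι) ∧ k ≠ i) := by
        intro k
        rw [hb'', posOf_smul]
        constructor
        · rintro ⟨l, hl, rfl⟩
          by_cases hli : l = i
          · left; rw [hli]; rfl
          · right
            refine ⟨reflect_posOf hb' hi hl
              (exists_coef_ne_of_not_prop hb' hi hl hli (isIndiv_of_isReduced l)), fun e => ?_⟩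
            have : l = neg P i := by
              rw [← reflection_reflection_smul (P := P) i l]
              change RootPairing.Equiv.reflection P i • (s • l) = _
              rw [show s • l = i from e]; rfl
            exact (neg_posOf_iff hb').mp (this ▸ hl) hii
        · rintro (rfl | ⟨hk, hki⟩)
          · exact ⟨i, hii, rfl⟩
          · exact ⟨P.reflectionPerm i k, reflect_posOf hb' hi hk
              (exists_coef_ne_of_not_prop hb' hi hk hki (isIndiv_of_isReduced k)),
              reflection_reflection_smul i k⟩
      have hni : neg P i ∉ RootD.posOf P (b'.support : Set ι) := fun h =>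
        (neg_posOf_iff hb').mp h hii
      have hnib : neg P i ∈ RootD.posOf P (b.support : Set ι) := (neg_posOf_iff hb).mpr hib
      -- the walls
      have hne_i : ∀ j : b'.support, (j : ι) ≠ i →
          RootCh.fundWeight b' j ∈ RootCh.baseCorners b'' := by
        intro j hj
        refine ⟨⟨b', j, rfl⟩, fun k hk => ?_⟩
        rcases (hpos'' k).mp (simple_mem_posOf (base_isSimpleSys b'') hk) with rfl | ⟨hk', -⟩
        · rw [coroot'_neg_index, coroot'_fundWeight b' j ⟨i, hi⟩, if_neg (Ne.symm hj), neg_zero]
        · exact coroot'_nonneg (fundWeight_mem_closedChamber b' j) hk'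
      have hcard : (RootCh.baseCorners b'' ∩ RootCh.baseCorners b').ncard + 1 = b''.support.card := by
        have e : RootCh.baseCorners b'' ∩ RootCh.baseCorners b' =
            ((Finset.univ.erase (⟨i, hi⟩ : b'.support)).image (RootCh.fundWeight b') : Set M) := by
          ext w
          rw [Finset.coe_image, baseCorners_eq b']
          constructor
          · rintro ⟨h1, ⟨j, rfl⟩⟩
            refine ⟨j, ?_, rfl⟩
            simp only [Finset.coe_erase, Finset.coe_univ, Set.mem_sdiff, Set.mem_univ, true_and,
              Set.mem_singleton_iff]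
            intro e
            have h2 := coroot'_nonneg h1.2 ((hpos'' (neg P i)).mpr (Or.inl rfl))
            rw [e, coroot'_neg_index, RootCh.coroot'_fundWeight_self b' ⟨i, hi⟩] at h2
            linarith
          · rintro ⟨j, hj, rfl⟩
            simp only [Finset.coe_erase, Finset.coe_univ, Set.mem_sdiff, Set.mem_univ, true_and,
              Set.mem_singleton_iff] at hj
            exact ⟨hne_i j fun e => hj (Subtype.ext e), j, rfl⟩
        rw [e, Set.ncard_coe_finset, Finset.card_image_of_injective _ (fundWeight_injective b'),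
          Finset.card_erase_of_mem (Finset.mem_univ _), Finset.card_univ, Fintype.card_coe]
        have hc : b''.support.card = b'.support.card := by
          rw [← Set.ncard_coe_finset b''.support, hb'',
            Set.ncard_image_of_injective _ (MulAction.injective s), Set.ncard_coe_finset]
        rw [hc]
        have : 0 < b'.support.card := Finset.card_pos.mpr ⟨i, hi⟩
        lia
      have huniq : ∀ j : ι, (b''.IsPos j ∧ ¬ b'.IsPos j) ↔ j = neg P i := by
        intro j
        rw [isPos_iff_posOf, isPos_iff_posOf, hpos'' j]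
        constructor
        · rintro ⟨h | h, h'⟩
          · exact h
          · exact absurd h.1 h'
        · rintro rfl; exact ⟨Or.inl rfl, hni⟩
      have hwall := hd.wall_le b'' b' (neg P i) hcard huniq
      -- the difference is a multiple of the coroot
      set z := d b' - d b''
      set t := P.toLinearMap (RootCh.fundWeight b' ⟨i, hi⟩) z
      have hz : z = t • P.coroot i := by
        conv_lhs => rw [eq_sum_coroot b' z]
        rw [Finset.sum_eq_single ⟨i, hi⟩]
        · intro j _ hj
          have hj' : (j : ι) ≠ i := fun e => hj (Subtype.ext e)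
          have := hd.corner_eq b'' b' (RootCh.fundWeight b' j) (hne_i j hj')
            (by rw [baseCorners_eq]; exact ⟨j, rfl⟩)
          rw [map_sub, this, sub_self, zero_smul]
        · simp
      have ht : t ≤ 0 := by
        have h1 : P.root' (neg P i) z = -(2 * t) := by
          rw [hz, map_smul, smul_eq_mul]
          change t * P.pairing (neg P i) i = _
          rw [pairing_reflectionPerm_self_left, pairing_same]; ring
        have h2 : 0 ≤ P.root' (neg P i) z := by
          rw [map_sub]; linarith
        linarith
      have hmz : 0 ≤ P.toLinearMap m z := by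
        rw [hz, map_smul, smul_eq_mul]
        have h1 := coroot'_nonneg hm hnib
        rw [coroot'_neg_index, neg_nonneg] at h1
        exact mul_nonneg_of_nonpos_of_nonpos ht h1
      have hih : P.toLinearMap m (d b) ≤ P.toLinearMap m (d b'') := by
        refine ih _ ?_ rfl
        rw [← hn]
        apply Finset.card_lt_card
        rw [Finset.ssubset_iff_of_subset]
        · refine ⟨neg P i, by simp [hnib, hni], ?_⟩
          simp [hpos'' (neg P i)]
        · intro k hk
          simp only [Finset.mem_filter, Finset.mem_univ, true_and, hpos'' k, not_or, not_and,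
            not_not] at hk ⊢
          refine ⟨hk.1, fun h => ?_⟩
          exact hib (hk.2.2 h ▸ hk.1)
      rw [map_sub] at hmz
      linarith

lemma le_of_mem_solid {b : P.Base} {m : M} (hm : m ∈ RootCh.closedChamber b) {y : N}
    (hy : y ∈ RootCh.solid d) : P.toLinearMap m (d b) ≤ P.toLinearMap m y :=
  le_apply_of_mem_convexHull (P.toLinearMap m) (by rintro _ ⟨c, rfl⟩; exact pairing_le hd hm) hy

lemma mem_hyper_iff {b : P.Base} {w : M} (hw : w ∈ RootCh.baseCorners b) (y : N) :
    y ∈ RootCh.hyper d w ↔ P.toLinearMap w y = P.toLinearMap w (d b) :=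
  ⟨fun h => h b hw, fun h c hc => h.trans (hd.corner_eq b c w hw hc)⟩

lemma pairing_eq_of_mem_span_corners {F : RootCh.Facet P} {b : P.Base} (hb : b ∈ F.cham) {m : M}
    (hm : m ∈ Submodule.span R F.corners) {y : N} (hy : ∀ w ∈ F.corners, y ∈ RootCh.hyper d w) :
    P.toLinearMap m y = P.toLinearMap m (d b) := by
  induction hm using Submodule.span_induction with
  | mem w hw => exact hy w hw b (corners_subset_baseCorners hb hw)
  | zero => simp
  | add u v _ _ hu hv => simp only [map_add, LinearMap.add_apply, hu, hv]
  | smul a u _ hu => simp only [map_smul, LinearMap.smul_apply, hu]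

lemma d_mem_hyper {F : RootCh.Facet P} {b : P.Base} (hb : b ∈ F.cham) :
    ∀ w ∈ F.corners, d b ∈ RootCh.hyper d w :=
  fun _ hw c hc => hd.corner_eq b c _ (corners_subset_baseCorners hb hw) hc

lemma dualSolid_mem_hyper {F : RootCh.Facet P} {y : N} (hy : y ∈ RootCh.dualSolid d F) {w : M}
    (hw : w ∈ F.corners) : y ∈ RootCh.hyper d w := fun c hc =>
  apply_eq_of_mem_convexHull (P.toLinearMap w)
    (by rintro _ ⟨b, hb, rfl⟩; exact d_mem_hyper hd hb w hw c hc) hy

omit hd in
lemma dualSolid_subset_solid (F : RootCh.Facet P) : RootCh.dualSolid d F ⊆ RootCh.solid d :=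
  convexHull_mono (Set.image_subset_range _ _)

/-- Separation of a point from a polytope by a functional. -/
lemma exists_sep {A : Finset N} (hA : A.Nonempty) {y : N}
    (h : y ∉ convexHull R (A : Set N)) : ∃ m : M, ∀ v ∈ A, P.toLinearMap m y < P.toLinearMap m v := by
  have hs : ∀ u v : N, P.CorootForm u v = P.CorootForm v u := fun u v => form_comm (P := P.flip) u v
  have hp : ∀ u : N, u ≠ 0 → 0 < P.CorootForm u u := fun u hu => form_pos (P := P.flip) hu
  obtain ⟨p, hp1, hp2⟩ := exists_min_convexHull hs hp (hA.image fun v => -y + v)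
  have hne : p ≠ 0 := by
    rintro rfl
    refine h ?_
    have e : ((A.image fun v => -y + v : Finset N) : Set N) = (-y) +ᵥ (A : Set N) := by
      rw [Finset.coe_image]; rfl
    rw [e, convexHull_vadd] at hp1
    obtain ⟨v, hv, hv0⟩ := hp1
    rwa [show v = y by simpa [vadd_eq_add, neg_add_eq_zero, eq_comm] using hv0] at hv
  refine ⟨P.toPerfPair.symm (P.CorootForm p), fun v hv => ?_⟩
  rw [LinearMap.apply_symm_toPerfPair_self]
  have h1 := min_inner_le hs hp hp1 hp2
    (subset_convexHull R _ (Finset.mem_coe.mpr (Finset.mem_image_of_mem (fun v => -y + v) hv)))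
  have := hp p hne
  rw [map_add, map_neg] at h1
  linarith

lemma dualSolid_eq (F : RootCh.Facet P) :
    RootCh.dualSolid d F = (⋂ m ∈ F.corners, RootCh.hyper d m) ∩
      ⋂ m ∈ F.corners', RootCh.halfClosed d m := by
  ext y
  simp only [Set.mem_inter_iff, Set.mem_iInter₂]
  constructor
  · exact fun hy => ⟨fun w hw => dualSolid_mem_hyper hd hy hw, fun w _ c hc =>
      le_of_mem_solid hd hc.2 (dualSolid_subset_solid F hy)⟩
  · rintro ⟨hh, hc⟩
    by_contra hy
    have hfin : (d '' F.cham).Finite := Set.toFinite _
    obtain ⟨m, hm⟩ := exists_sep hd (A := hfin.toFinset)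
      (by simpa using cham_nonempty F) (y := y) (by rw [Set.Finite.coe_toFinset]; exact hy)
    set ξ := rep F
    set T : R := 1 + ∑ k, |P.coroot' k m / P.coroot' k ξ|
    obtain ⟨b, hb⟩ := exists_closedChamber (P := P) (m + T • ξ)
    have hbF : b ∈ F.cham := mem_cham_iff.mpr fun i hi => by
      by_contra hneg
      push Not at hneg
      have h1 := hb i hi
      rw [map_add, map_smul, smul_eq_mul] at h1
      have hle : |P.coroot' i m / P.coroot' i ξ| ≤ ∑ k, |P.coroot' k m / P.coroot' k ξ| :=
        Finset.single_le_sum (f := fun k => |P.coroot' k m / P.coroot' k ξ|)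
          (fun k _ => abs_nonneg _) (Finset.mem_univ i)
      have h2 := le_abs_self (P.coroot' i m / P.coroot' i ξ)
      have h3 : P.coroot' i m / P.coroot' i ξ * P.coroot' i ξ = P.coroot' i m :=
        div_mul_cancel₀ _ hneg.ne
      have h4 := neg_abs_le (P.coroot' i m / P.coroot' i ξ)
      nlinarith
    have h1 : P.toLinearMap (m + T • ξ) (d b) ≤ P.toLinearMap (m + T • ξ) y := by
      rw [eq_sum_fundWeight b (m + T • ξ), map_sum, LinearMap.sum_apply, LinearMap.sum_apply]
      refine Finset.sum_le_sum fun i _ => ?_
      rw [map_smul, LinearMap.smul_apply, LinearMap.smul_apply, smul_eq_mul, smul_eq_mul]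
      refine mul_le_mul_of_nonneg_left ?_ (hb i i.2)
      have hw : RootCh.fundWeight b i ∈ RootCh.baseCorners b := by
        rw [baseCorners_eq]; exact ⟨i, rfl⟩
      exact hc _ (Set.mem_biUnion hbF hw) b hw
    have h2 : P.toLinearMap ξ y = P.toLinearMap ξ (d b) :=
      pairing_eq_of_mem_span_corners hd hbF (carrier_subset_span_corners F (rep_mem_carrier F)) hh
    have h3 := hm (d b) (hfin.mem_toFinset.mpr ⟨b, hbF, rfl⟩)
    simp only [map_add, map_smul, LinearMap.add_apply, LinearMap.smul_apply, h2] at h1
    linarith

lemma deg_eq_pairing (F : RootCh.Facet P) (b : P.Base) :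
    F.deg d b = P.toLinearMap (sigma F) (d b) := by
  rw [RootCh.Facet.deg, sigma_eq, map_sum, LinearMap.sum_apply]

lemma sigma_mem_span (F : RootCh.Facet P) : sigma F ∈ Submodule.span R F.corners :=
  carrier_subset_span_corners F (sigma_mem_carrier F)

lemma deg_eq {F : RootCh.Facet P} {b : P.Base} (hb : b ∈ F.cham) {y : N}
    (hy : ∀ w ∈ F.corners, y ∈ RootCh.hyper d w) : F.deg d b = P.toLinearMap (sigma F) y := by
  rw [deg_eq_pairing hd]
  exact (pairing_eq_of_mem_span_corners hd hb (sigma_mem_span hd F) hy).symm

omit hd in
lemma origin_sgn (i : ι) : (RootCh.Facet.origin P).sgn i = 0 := by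
  simp [RootCh.Facet.origin, RootCh.Facet.ofVec, RootCh.sgnVec]

omit hd in
lemma cham_origin : (RootCh.Facet.origin P).cham = Set.univ := by
  refine Set.eq_univ_of_forall fun b ξ hξ i _ => ?_
  have h0 := congrFun (show RootCh.sgnVec P ξ = _ from hξ) i
  rw [origin_sgn, sgnVec_eq_zero_iff] at h0
  rw [h0]

lemma semistable_of_corner_nonpos
    (h : ∀ b : P.Base, ∀ m ∈ RootCh.baseCorners b, P.toLinearMap m (d b) ≤ 0) :
    RootCh.IsSemistable d := by
  have e : RootCh.solid d = RootCh.dualSolid d (RootCh.Facet.origin P) := by
    rw [RootCh.solid, RootCh.dualSolid, cham_origin, Set.image_univ]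
  unfold RootCh.IsSemistable
  rw [e, dualSolid_eq hd]
  simp only [Set.mem_inter_iff, Set.mem_iInter₂]
  refine ⟨fun w hw => ?_, fun w _ c hc => by rw [map_zero]; exact h c w hc⟩
  obtain ⟨b, hb⟩ := cham_nonempty (RootCh.Facet.origin P)
  rw [corners_eq hb] at hw
  obtain ⟨j, hj, rfl⟩ := hw
  exact absurd (origin_sgn _) hj

lemma corner_nonpos_of_semistable (h : RootCh.IsSemistable d) (b : P.Base) {m : M}
    (hm : m ∈ RootCh.closedChamber b) : P.toLinearMap m (d b) ≤ 0 := by
  have := le_of_mem_solid hd hm h
  rwa [map_zero] at this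

lemma deg_nonpos_of_semistable (h : RootCh.IsSemistable d) {F : RootCh.Facet P} {b : P.Base}
    (hb : b ∈ F.cham) : F.deg d b ≤ 0 := by
  rw [deg_eq_pairing hd]
  exact corner_nonpos_of_semistable hd h b (hb (sigma_mem_carrier F))

lemma semistable_of_deg_nonpos
    (h : ∀ (F : RootCh.Facet P) (b : P.Base), F.dim = 1 → b ∈ F.cham → F.deg d b ≤ 0) :
    RootCh.IsSemistable d := by
  refine semistable_of_corner_nonpos hd fun b m hm => ?_
  rw [baseCorners_eq] at hm
  obtain ⟨i, rfl⟩ := hm
  set F := facetOf b ({i} : Set b.support)
  have hb : b ∈ F.cham := facetOf_mem_cham b _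
  have hc : F.corners = {RootCh.fundWeight b i} := by rw [facetOf_corners, Set.image_singleton]
  have hdim : F.dim = 1 := by
    rw [RootCh.Facet.dim, span_carrier_eq, hc, finrank_span_singleton (fundWeight_ne_zero b i)]
  have hs := sigma_mem_span hd F
  rw [hc, Submodule.mem_span_singleton] at hs
  obtain ⟨c, hcs⟩ := hs
  have hcar := (mem_carrier_iff hb).mp (sigma_mem_carrier F) i i.2
  rw [facetOf_sgn b _ i, if_pos (Set.mem_singleton i), RootCh.sgnVec, ← hcs, map_smul,
    RootCh.coroot'_fundWeight_self, smul_eq_mul, mul_one, sign_eq_one_iff] at hcar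
  have := h F b hdim hb
  rw [deg_eq_pairing hd, ← hcs, map_smul, LinearMap.smul_apply, smul_eq_mul] at this
  by_contra hpos
  push Not at hpos
  nlinarith

end Groth.Agent.Roots36.Ch
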