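import Groth.Agent.Roots36.Exists
import Groth.Prelude.Def_RootCh
import Mathlib.Data.Sign.Basic

set_option autoImplicit false
set_option linter.unusedSectionVars false
set_option linter.unusedSimpArgs false

open Set Function RootPairing Module
open scoped Classical

namespace Groth.Agent.Roots36.Ch

universe u v w x

variable {ι : Type u} {R : Type v} {M : Type w} {N : Type x}
  [Field R] [LinearOrder R] [IsStrictOrderedRing R]
  [AddCommGroup M] [Module R M] [AddCommGroup N] [Module R N] [Fintype ι]
  {P : RootPairing ι R M N} [P.IsRootSystem]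

section Form

lemma form_comm (x y : M) : P.RootForm x y = P.RootForm y x := P.rootForm_symmetric.eq x y

lemma form_pos {x : M} (h : x ≠ 0) : 0 < P.RootForm x x :=
  P.rootForm_pos_of_ne_zero (by simp) h

lemma len_pos (i : ι) : 0 < P.RootForm (P.root i) (P.root i) := form_pos (P.ne_zero i)

lemma form_root (ξ : M) (i : ι) :
    2 * P.RootForm ξ (P.root i) = P.RootForm (P.root i) (P.root i) * P.coroot' i ξ := by
  have h := congrArg (P.toLinearMap ξ) (P.rootForm_self_smul_coroot i)
  rw [map_smul, map_nsmul, toLinearMap_apply_apply_Polarization, smul_eq_mul, nsmul_eq_mul] at h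
  rw [form_comm ξ]
  exact_mod_cast h.symm

lemma sign_form_root (ξ : M) (i : ι) :
    SignType.sign (P.RootForm ξ (P.root i)) = RootCh.sgnVec P ξ i := by
  have h2 : P.RootForm ξ (P.root i) =
      (P.RootForm (P.root i) (P.root i) / 2) * P.coroot' i ξ := by
    have := form_root (P := P) ξ i; linarith
  rw [h2, sign_mul, sign_pos (half_pos (len_pos (P := P) i)), one_mul]
  rfl

lemma coroot'_neg_index (i : ι) (ξ : M) :
    P.coroot' (neg P i) ξ = -P.coroot' i ξ := by
  have : P.coroot (neg P i) = -P.coroot i := root_neg P.flip i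
  simp [coroot', this]

lemma len_smul (g : P.Aut) (i : ι) :
    P.RootForm (P.root (g • i)) (P.root (g • i)) = P.RootForm (P.root i) (P.root i) := by
  rw [rootForm_apply_apply, rootForm_apply_apply]
  refine (Fintype.sum_equiv (MulAction.toPerm g) _ _ fun k => ?_).symm
  simp only [MulAction.toPerm_apply, root_coroot'_eq_pairing, pairing_smul]

end Form

section Weights

/-- The set of simple coordinates determines a weight. -/
lemma ext_simple_coroot (b : P.Base) {ξ η : M}
    (h : ∀ i ∈ b.support, P.coroot' i ξ = P.coroot' i η) : ξ = η := by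
  apply P.toPerfPair.injective
  apply b.toCoweightBasis.ext
  intro i
  rw [RootPairing.Base.toCoweightBasis_apply]
  exact h i i.2

lemma ext_simple_root (b : P.Base) {y z : N}
    (h : ∀ i ∈ b.support, P.root' i y = P.root' i z) : y = z := by
  apply P.flip.toPerfPair.injective
  apply b.toWeightBasis.ext
  intro i
  rw [RootPairing.Base.toWeightBasis_apply]
  exact h i i.2

lemma coroot'_fundWeight (b : P.Base) (i j : b.support) :
    P.coroot' j (RootCh.fundWeight b i) = if (j : ι) = i then 1 else 0 := by
  split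
  · next h => rw [h]; exact RootCh.coroot'_fundWeight_self b i
  · next h => exact RootCh.coroot'_fundWeight_of_ne b i j fun e => h (e ▸ rfl)

lemma root'_fundCoweight (b : P.Base) (i j : b.support) :
    P.root' j (RootCh.fundCoweight b i) = if (j : ι) = i then 1 else 0 := by
  split
  · next h => rw [h]; exact RootCh.root'_fundCoweight_self b i
  · next h => exact RootCh.root'_fundCoweight_of_ne b i j fun e => h (e ▸ rfl)

lemma coroot'_sum_fundWeight (b : P.Base) (c : b.support → R) (j : b.support) :
    P.coroot' j (∑ i, c i • RootCh.fundWeight b i) = c j := by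
  rw [map_sum, Finset.sum_eq_single j]
  · rw [map_smul, coroot'_fundWeight]; simp
  · intro i _ hi
    rw [map_smul, coroot'_fundWeight, if_neg fun e => hi (Subtype.ext e).symm]; simp
  · simp

lemma root'_sum_fundCoweight (b : P.Base) (c : b.support → R) (j : b.support) :
    P.root' j (∑ i, c i • RootCh.fundCoweight b i) = c j := by
  rw [map_sum, Finset.sum_eq_single j]
  · rw [map_smul, root'_fundCoweight]; simp
  · intro i _ hi
    rw [map_smul, root'_fundCoweight, if_neg fun e => hi (Subtype.ext e).symm]; simp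
  · simp

lemma eq_sum_fundWeight (b : P.Base) (ξ : M) :
    ξ = ∑ i : b.support, P.coroot' i ξ • RootCh.fundWeight b i :=
  ext_simple_coroot b fun j hj =>
    (coroot'_sum_fundWeight b (fun i => P.coroot' i ξ) ⟨j, hj⟩).symm

lemma eq_sum_fundCoweight (b : P.Base) (y : N) :
    y = ∑ i : b.support, P.root' i y • RootCh.fundCoweight b i :=
  ext_simple_root b fun j hj =>
    (root'_sum_fundCoweight b (fun i => P.root' i y) ⟨j, hj⟩).symm

lemma eq_sum_coroot (b : P.Base) (y : N) :
    y = ∑ i : b.support, P.toLinearMap (RootCh.fundWeight b i) y • P.coroot i := by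
  conv_lhs => rw [← b.toCoweightBasis.sum_repr y]
  refine Finset.sum_congr rfl fun i _ => ?_
  rw [RootPairing.Base.toCoweightBasis_apply, RootCh.fundWeight]
  rw [LinearMap.apply_symm_toPerfPair_self]
  rfl

lemma fundWeight_injective (b : P.Base) : Injective (RootCh.fundWeight b) := by
  intro i j h
  have := RootCh.coroot'_fundWeight_self b i
  rw [h, coroot'_fundWeight] at this
  by_contra hne
  rw [if_neg fun e => hne (Subtype.ext e)] at this
  exact zero_ne_one this

lemma fundWeight_ne_zero (b : P.Base) (i : b.support) : RootCh.fundWeight b i ≠ 0 := fun h => by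
  have := RootCh.coroot'_fundWeight_self b i
  rw [h, map_zero] at this
  exact zero_ne_one this

lemma linearIndependent_fundWeight (b : P.Base) :
    LinearIndependent R (RootCh.fundWeight b) := by
  rw [Fintype.linearIndependent_iff]
  intro c hc j
  rw [← coroot'_sum_fundWeight b c j, hc, map_zero]

lemma fundWeight_mem_closedChamber (b : P.Base) (i : b.support) :
    RootCh.fundWeight b i ∈ RootCh.closedChamber b := fun j hj => by
  rw [coroot'_fundWeight b i ⟨j, hj⟩]; split <;> simp

lemma fundCoweight_eq (b : P.Base) (i : b.support) :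
    RootCh.fundCoweight b i =
      (2 / P.RootForm (P.root i) (P.root i)) • P.Polarization (RootCh.fundWeight b i) := by
  refine ext_simple_root b fun j hj => ?_
  rw [root'_fundCoweight b i ⟨j, hj⟩, map_smul, smul_eq_mul]
  change _ = _ * P.toLinearMap (P.root j) (P.Polarization (RootCh.fundWeight b i))
  rw [toLinearMap_apply_apply_Polarization]
  have h2 := form_root (P := P) (RootCh.fundWeight b i) j
  rw [coroot'_fundWeight b i ⟨j, hj⟩] at h2
  simp only at h2 ⊢
  by_cases hji : j = i
  · subst hji
    rw [if_pos rfl] at h2 ⊢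
    have := (len_pos (P := P) (i : ι)).ne'
    field_simp
    linarith
  · rw [if_neg hji] at h2 ⊢
    have h0 : P.RootForm (RootCh.fundWeight b i) (P.root j) = 0 := by linarith
    rw [h0, mul_zero]

end Weights

section Crys

variable [P.IsCrystallographic]

/-- A base of the root system from a system of simple roots. -/
noncomputable def baseOfSimple [P.IsReduced] {Δ : Set ι} (hΔ : RootD.IsSimpleSys P Δ) : P.Base :=
  RootPairing.Base.mk' P Δ hΔ.linInd hΔ.mem_or_neg_mem

lemma support_baseOfSimple [P.IsReduced] {Δ : Set ι} (hΔ : RootD.IsSimpleSys P Δ) :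
    ((baseOfSimple hΔ).support : Set ι) = Δ :=
  Set.Finite.coe_toFinset _

lemma base_ext {b b' : P.Base} (h : b.support = b'.support) : b = b' := by
  cases b; cases b'; simp only at h; subst h; rfl

lemma base_ext_posOf {b b' : P.Base}
    (h : RootD.posOf P (b.support : Set ι) = RootD.posOf P (b'.support : Set ι)) : b = b' :=
  base_ext <| Finset.coe_injective <|
    simple_eq_of_posOf_eq (base_isSimpleSys b) (base_isSimpleSys b') h

lemma exists_base_of_closed [P.IsReduced] {S : Set ι} (hcl : RootD.IsClosedSub P S)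
    (hcov : ∀ i, i ∈ S ∨ neg P i ∈ S) (hdis : ∀ i ∈ S, neg P i ∉ S) :
    ∃ b : P.Base, RootD.posOf P (b.support : Set ι) = S := by
  obtain ⟨Δ, hΔ, h⟩ := exists_simple_of_closed P hcl hcov hdis
  exact ⟨baseOfSimple hΔ, by rw [support_baseOfSimple, h]⟩

lemma exists_smul_base (b b' : P.Base) :
    ∃ g ∈ P.weylGroup, (g • ·) '' (b.support : Set ι) = (b'.support : Set ι) :=
  exists_smul_simple_eq (base_isSimpleSys b) (base_isSimpleSys b')

/-- Pairings with positive coroots of a vector of the closed chamber. -/
lemma form_posOf_nonneg {b : P.Base} {ξ : M} (hξ : ξ ∈ RootCh.closedChamber b) {k : ι}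
    (hk : k ∈ RootD.posOf P (b.support : Set ι)) :
    0 ≤ P.coroot' k ξ ∧
      (P.coroot' k ξ = 0 ↔ ∀ j, coef (base_isSimpleSys b) k j ≠ 0 → P.coroot' j ξ = 0) := by
  have hb := base_isSimpleSys b
  have hexp : P.RootForm ξ (P.root k) =
      ∑ j, (coef hb k j : R) * P.RootForm ξ (P.root j) := by
    rw [root_eq_comb hb k, comb, map_sum]
    exact Finset.sum_congr rfl fun j _ => by rw [map_zsmul, zsmul_eq_mul]
  have hterm : ∀ j, 0 ≤ (coef hb k j : R) * P.RootForm ξ (P.root j) := fun j => by
    by_cases hj : j ∈ b.support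
    · refine mul_nonneg (by exact_mod_cast (posOf_iff hb).mp hk j) ?_
      have := form_root (P := P) ξ j
      have := mul_nonneg (len_pos (P := P) j).le (hξ j hj)
      linarith
    · rw [coef_eq_zero hb (show j ∉ (b.support : Set ι) from hj)]; simp
  have hk2 := form_root (P := P) ξ k
  have hl := len_pos (P := P) k
  have hsum := Finset.sum_nonneg fun j (_ : j ∈ Finset.univ) => hterm j
  rw [← hexp] at hsum
  constructor
  · nlinarith
  · constructor
    · intro h0 j hj
      rw [h0, mul_zero] at hk2
      have h1 : P.RootForm ξ (P.root k) = 0 := by linarith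
      rw [hexp] at h1
      have := (Finset.sum_eq_zero_iff_of_nonneg fun j _ => hterm j).mp h1 j (Finset.mem_univ j)
      rw [mul_eq_zero, Int.cast_eq_zero] at this
      have h2 := this.resolve_left hj
      have h3 := form_root (P := P) ξ j
      rw [h2, mul_zero] at h3
      exact (mul_eq_zero.mp h3.symm).resolve_left (len_pos (P := P) j).ne'
    · intro h
      have h1 : P.RootForm ξ (P.root k) = 0 := by
        rw [hexp]
        refine Finset.sum_eq_zero fun j _ => ?_
        by_cases hj : coef hb k j = 0
        · simp [hj]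
        · have h3 := form_root (P := P) ξ j
          rw [h j hj, mul_zero] at h3
          rw [show P.RootForm ξ (P.root j) = 0 by linarith, mul_zero]
      rw [h1, mul_zero] at hk2
      exact (mul_eq_zero.mp hk2.symm).resolve_left hl.ne'

lemma coroot'_nonneg {b : P.Base} {ξ : M} (hξ : ξ ∈ RootCh.closedChamber b) {k : ι}
    (hk : k ∈ RootD.posOf P (b.support : Set ι)) : 0 ≤ P.coroot' k ξ :=
  (form_posOf_nonneg hξ hk).1

lemma exists_closedChamber [P.IsReduced] (ξ : M) :
    ∃ b : P.Base, ξ ∈ RootCh.closedChamber b := by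
  obtain ⟨f, hf⟩ := exists_functional_ne_zero P
  let S : Set ι := {i | 0 < P.RootForm ξ (P.root i) ∨
    (P.RootForm ξ (P.root i) = 0 ∧ 0 < f (P.root i))}
  have hcl : RootD.IsClosedSub P S := by
    intro i j k hi hj h
    change _ ∨ _
    rw [h, map_add, map_add]
    rcases hi with hi | ⟨hi, hi'⟩ <;> rcases hj with hj | ⟨hj, hj'⟩
    · left; linarith
    · left; linarith
    · left; linarith
    · right; exact ⟨by linarith, by linarith⟩
  have hcov : ∀ i, i ∈ S ∨ neg P i ∈ S := fun i => by
    simp only [S, Set.mem_ofPred_eq, root_neg, map_neg]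
    rcases lt_trichotomy (P.RootForm ξ (P.root i)) 0 with h | h | h
    · right; left; linarith
    · rcases lt_or_gt_of_ne (hf i) with h' | h'
      · right; right; exact ⟨by linarith, by linarith⟩
      · left; right; exact ⟨h, h'⟩
    · left; left; exact h
  have hdis : ∀ i ∈ S, neg P i ∉ S := fun i hi => by
    simp only [S, Set.mem_ofPred_eq, root_neg, map_neg] at hi ⊢
    rintro (h | ⟨h, h'⟩) <;> rcases hi with hi | ⟨hi, hi'⟩ <;> linarith
  obtain ⟨b, hb⟩ := exists_base_of_closed hcl hcov hdis
  refine ⟨b, fun i hi => ?_⟩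
  have hiS : i ∈ S := hb ▸ simple_mem_posOf (base_isSimpleSys b) hi
  have h0 : 0 ≤ P.RootForm ξ (P.root i) := by
    rcases hiS with h | ⟨h, _⟩ <;> linarith
  have := form_root (P := P) ξ i
  have := len_pos (P := P) i
  nlinarith

/-- Two conjugate dominant vectors are equal. -/
lemma smul_eq_of_dominant {b : P.Base} {g : P.Aut} (hg : g ∈ P.weylGroup) {ξ : M}
    (hξ : ξ ∈ RootCh.closedChamber b) (hgξ : g • ξ ∈ RootCh.closedChamber b) : g • ξ = ξ := by
  have hb := base_isSimpleSys b
  suffices H : ∀ n, ∀ g : P.Aut, g ∈ P.weylGroup →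
      (∃ l : List ι, (∀ a ∈ l, a ∈ (b.support : Set ι)) ∧ wprod P l = g ∧ l.length ≤ n) →
      g • ξ ∈ RootCh.closedChamber b → g • ξ = ξ by
    obtain ⟨l, h1, h2⟩ := exists_word hb hg
    exact H l.length g hg ⟨l, h1, h2, le_rfl⟩ hgξ
  intro n
  induction n with
  | zero =>
    rintro g - ⟨l, -, rfl, hl⟩ -
    rw [List.length_eq_zero_iff.mp (Nat.le_zero.mp hl), wprod_nil, one_smul]
  | succ n ih =>
    rintro g hg ⟨l₀, h₀, hw₀, hn⟩ hgξ
    obtain ⟨l, h1, h2, h3⟩ := exists_min_word hb hg
    have hlen : l.length ≤ n + 1 := (h3 l₀ h₀ hw₀).trans hn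
    rcases List.eq_nil_or_concat l with rfl | ⟨t, i, rfl⟩
    · rw [← h2, wprod_nil, one_smul]
    · rw [List.concat_eq_append] at h1 h2 h3 hlen
      have hi : i ∈ (b.support : Set ι) := h1 i (by simp)
      have hneg := reduced_last_not_posOf hb (fun a ha => h1 a (by simp [ha])) hi
        (fun l' hl' he => h3 l' hl' (he.trans h2))
      rw [h2] at hneg
      have h4 := coroot'_nonneg hgξ ((neg_posOf_iff hb).mpr hneg)
      rw [coroot'_neg_index, coroot'_smul] at h4
      have h5 : P.coroot' i ξ = 0 := by
        have := hξ i hi; linarith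
      have hfix : RootPairing.Equiv.reflection P i • ξ = ξ := by
        rw [RootPairing.Equiv.reflection_smul, RootPairing.reflection_apply, h5, zero_smul, sub_zero]
      have hg2 : g = wprod P t * RootPairing.Equiv.reflection P i := by
        rw [← h2, wprod_append, wprod_cons, wprod_nil, mul_one]
      have he : g • ξ = wprod P t • ξ := by rw [hg2, mul_smul, hfix]
      rw [he]
      refine ih _ ?_ ⟨t, fun a ha => h1 a (by simp [ha]), rfl, ?_⟩ (he ▸ hgξ)
      · exact subW_le_weylGroup _ (wprod_mem_subW fun a ha => h1 a (by simp [ha]))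
      · simp at hlen; exact hlen

/-- A fundamental weight in a closed chamber is a fundamental weight of that chamber, with the same
coweight. -/
lemma fundWeight_eq_of_mem {b b' : P.Base} (j : b'.support)
    (h : RootCh.fundWeight b' j ∈ RootCh.closedChamber b) :
    ∃ i : b.support, RootCh.fundWeight b i = RootCh.fundWeight b' j ∧
      RootCh.fundCoweight b i = RootCh.fundCoweight b' j := by
  obtain ⟨g, hg, himg⟩ := exists_smul_base b b'
  obtain ⟨i, hi, hij⟩ : (j : ι) ∈ (g • ·) '' (b.support : Set ι) := by rw [himg]; exact j.2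
  have hij' : g • i = (j : ι) := hij
  have key : g • RootCh.fundWeight b ⟨i, hi⟩ = RootCh.fundWeight b' j := by
    refine ext_simple_coroot b' fun l hl => ?_
    obtain ⟨m, hm, hml⟩ : l ∈ (g • ·) '' (b.support : Set ι) := by rw [himg]; exact hl
    subst hml
    rw [coroot'_smul, coroot'_fundWeight b ⟨i, hi⟩ ⟨m, hm⟩,
      coroot'_fundWeight b' j ⟨g • m, hl⟩]
    simp only [← hij', smul_left_cancel_iff]
  have hfix := smul_eq_of_dominant hg (fundWeight_mem_closedChamber b ⟨i, hi⟩) (key ▸ h)
  rw [key] at hfix
  refine ⟨⟨i, hi⟩, hfix.symm, ?_⟩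
  rw [fundCoweight_eq, fundCoweight_eq, hfix]
  congr 2
  rw [← hij', len_smul]

lemma baseCorners_eq (b : P.Base) : RootCh.baseCorners b = Set.range (RootCh.fundWeight b) := by
  ext m
  constructor
  · rintro ⟨⟨b', j, rfl⟩, h⟩
    obtain ⟨i, hi, -⟩ := fundWeight_eq_of_mem j h
    exact ⟨i, hi⟩
  · rintro ⟨i, rfl⟩
    exact ⟨⟨b, i, rfl⟩, fundWeight_mem_closedChamber b i⟩

lemma fundCoweight_eq_of_fundWeight_eq {b b' : P.Base} {i : b.support} {j : b'.support}
    (h : RootCh.fundWeight b i = RootCh.fundWeight b' j) :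
    RootCh.fundCoweight b i = RootCh.fundCoweight b' j := by
  obtain ⟨i', h1, h2⟩ := fundWeight_eq_of_mem (b := b) j (h ▸ fundWeight_mem_closedChamber b i)
  rw [fundWeight_injective b (h.trans h1.symm)]
  exact h2

lemma corr_iff (b : P.Base) (i : b.support) (y : N) :
    RootCh.Corr P (RootCh.fundWeight b i) y ↔ y = RootCh.fundCoweight b i := by
  refine ⟨?_, fun h => ⟨b, i, rfl, h.symm⟩⟩
  rintro ⟨b', j, h, rfl⟩
  exact fundCoweight_eq_of_fundWeight_eq h

end Crys

end Groth.Agent.Roots36.Ch
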