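import Groth.Agent.Roots36.Combi

set_option autoImplicit false
set_option linter.unusedSectionVars false
set_option linter.unusedSimpArgs false

open Set Function RootPairing
open scoped Classical

namespace Groth.Agent.Roots36

variable {ι R M N : Type*} [CommRing R] [AddCommGroup M] [Module R M] [AddCommGroup N] [Module R N]
  {P : RootPairing ι R M N} [CharZero R] [IsDomain R] [P.IsCrystallographic] [Fintype ι]

lemma comb_mem_natSpan {S : Set ι} {c : ι → ℤ} (hc : ∀ j, 0 ≤ c j) (hc' : ∀ j ∉ S, c j = 0) :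
    comb P c ∈ RootD.natSpan P S := natSpan_iff.mpr ⟨c, hc, hc', rfl⟩

/-- Linearly independent indivisible roots whose rational cone contains every root up to sign form
a system of simple roots. -/
lemma isSimpleSys_of_cone {Δ₀ : Set ι} (h₀ : RootD.IsSimpleSys P Δ₀) {Δ : Set ι}
    (hind : ∀ i ∈ Δ, RootD.IsIndiv P i) (hli : LinearIndepOn R P.root Δ)
    (hcone : ∀ k, ∃ n : ℕ, 0 < n ∧
      (n • P.root k ∈ RootD.natSpan P Δ ∨ n • (-P.root k) ∈ RootD.natSpan P Δ)) :
    RootD.IsSimpleSys P Δ := by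
  set S : Set ι := {k | ∃ n : ℕ, 0 < n ∧ n • P.root k ∈ RootD.natSpan P Δ} with hS
  have hcl : RootD.IsClosedSub P S := by
    rintro i j k ⟨n, hn, hi⟩ ⟨m, hm, hj⟩ h
    refine ⟨n * m, Nat.mul_pos hn hm, ?_⟩
    rw [h, smul_add]
    refine add_mem ?_ ?_
    · rw [mul_comm, mul_smul]; exact AddSubmonoid.nsmul_mem _ hi m
    · rw [mul_smul]; exact AddSubmonoid.nsmul_mem _ hj n
  have hcov : ∀ i, i ∈ S ∨ neg P i ∈ S := fun i => by
    obtain ⟨n, hn, h | h⟩ := hcone i
    · exact Or.inl ⟨n, hn, h⟩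
    · exact Or.inr ⟨n, hn, by rw [root_neg]; exact h⟩
  have hdis : ∀ i ∈ S, neg P i ∉ S := by
    rintro i ⟨n, hn, hi⟩ ⟨m, hm, hi'⟩
    obtain ⟨a, ha, ha', hae⟩ := natSpan_iff.mp (AddSubmonoid.nsmul_mem _ hi m)
    obtain ⟨b, hb, hb', hbe⟩ := natSpan_iff.mp (AddSubmonoid.nsmul_mem _ hi' n)
    have h0 : comb P (a + b) = 0 := by
      rw [comb_add, ← hae, ← hbe, root_neg, smul_smul, smul_smul, mul_comm n m, smul_neg,
        add_neg_cancel]
    have hab : ∀ j, a j + b j = 0 := by
      intro j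
      by_cases hj : j ∈ Δ
      · have hsum : ∑ x ∈ Finset.univ.filter (· ∈ Δ), ((a x + b x : ℤ) : R) • P.root x = 0 := by
          rw [← h0, comb]
          simp only [Int.cast_smul_eq_zsmul, Pi.add_apply]
          exact Finset.sum_subset (Finset.subset_univ _) fun x _ hx => by
            simp only [Finset.mem_filter, Finset.mem_univ, true_and] at hx
            simp [ha' x hx, hb' x hx]
        have := linearIndepOn_iff'.mp hli (Finset.univ.filter (· ∈ Δ))
          (fun x => ((a x + b x : ℤ) : R)) (fun x hx => by simpa using hx) hsum j (by simp [hj])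
        exact_mod_cast this
      · simp [ha' j hj, hb' j hj]
    have hz : a = 0 := funext fun j => by
      have := hab j; have := ha j; have := hb j; simp only [Pi.zero_apply]; lia
    rw [hz, comb_zero, smul_smul] at hae
    exact P.ne_zero i (nsmul_cancel P (Nat.mul_pos hm hn).ne' (hae.trans (smul_zero _).symm))
  obtain ⟨Δ₁, h₁, hpos⟩ := exists_simple_posOf_eq h₀ hcl hcov hdis
  have hΔS : ∀ i ∈ Δ, i ∈ RootD.posOf P Δ₁ := fun i hi => by
    rw [hpos]
    exact ⟨1, one_pos, by rw [one_nsmul]; exact AddSubmonoid.subset_closure ⟨i, hi, rfl⟩⟩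
  have hsub : Δ₁ ⊆ Δ := by
    intro δ hδ
    obtain ⟨n, hn, hm⟩ : δ ∈ S := hpos ▸ simple_mem_posOf h₁ hδ
    obtain ⟨c, hc, hc', he⟩ := natSpan_iff.mp hm
    have hcoef : ∀ x, x ≠ δ → ∑ j, c j * coef h₁ j x = 0 := by
      have hcc : ((n : ℤ) • (Pi.single δ 1 : ι → ℤ)) = fun x => ∑ j, c j * coef h₁ j x := by
        refine comb_inj h₁ (fun x hx => ?_) (fun x hx => ?_) ?_
        · simp [show x ≠ δ from fun e => hx (e ▸ hδ)]
        · exact Finset.sum_eq_zero fun j _ => by rw [coef_eq_zero h₁ hx, mul_zero]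
        · rw [comb_smul, comb_single, one_smul, natCast_zsmul, he, comb, comb]
          simp only [Finset.sum_smul]
          rw [Finset.sum_comm]
          refine Finset.sum_congr rfl fun j _ => ?_
          conv_lhs => rw [root_eq_comb h₁ j, comb, Finset.smul_sum]
          exact Finset.sum_congr rfl fun x _ => by rw [mul_smul]
      intro x hx
      have := congrFun hcc x
      simpa [hx] using this.symm
    obtain ⟨j, hj⟩ : ∃ j, c j ≠ 0 := by
      by_contra hall
      push Not at hall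
      rw [show c = 0 from funext hall, comb_zero] at he
      exact P.ne_zero δ (nsmul_cancel P hn.ne' (he.trans (smul_zero _).symm))
    have hjΔ : j ∈ Δ := by by_contra h; exact hj (hc' j h)
    have hzero : ∀ x, x ≠ δ → coef h₁ j x = 0 := by
      intro x hx
      have hterm : ∀ l ∈ Finset.univ, 0 ≤ c l * coef h₁ l x := fun l _ => by
        by_cases hl : l ∈ Δ
        · exact mul_nonneg (hc l) ((posOf_iff h₁).mp (hΔS l hl) x)
        · rw [hc' l hl, zero_mul]
      exact ((mul_eq_zero).mp ((Finset.sum_eq_zero_iff_of_nonneg hterm).mp (hcoef x hx) j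
        (Finset.mem_univ j))).resolve_left hj
    rcases eq_or_eq_two_of_coef_supported h₁ hδ (hΔS j hjΔ) hzero with rfl | h2
    · exact hjΔ
    · exact absurd (by rw [h2, ← Int.cast_smul_eq_zsmul R]; norm_num) (hind j hjΔ δ)
  have heq : Δ = Δ₁ := by
    refine hsub.antisymm' fun α hα => ?_
    by_contra hn1
    have hz : coef h₁ α α = 0 := coef_eq_zero h₁ hn1
    have hli' := linearIndepOn_iff'.mp hli (Finset.univ.filter (· ∈ Δ))
      (fun x => (((coef h₁ α - Pi.single α 1 : ι → ℤ) x : ℤ) : R)) (fun x hx => by simpa using hx)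
      (by
        have h0 : comb P (coef h₁ α - Pi.single α 1) = 0 := by
          rw [comb_sub, comb_single, one_smul, ← root_eq_comb h₁, sub_self]
        rw [← h0, comb]
        simp only [Int.cast_smul_eq_zsmul]
        refine Finset.sum_subset (Finset.subset_univ _) fun x _ hx => ?_
        simp only [Finset.mem_filter, Finset.mem_univ, true_and] at hx
        simp [coef_eq_zero h₁ (fun h => hx (hsub h)), show x ≠ α from fun e => hx (e ▸ hα)])
      α (by simp [hα])
    simp [hz] at hli'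
  exact heq ▸ h₁

/-- A basis-free criterion: unique same-sign representations. -/
lemma isSimpleSys_of_unique {Δ₀ : Set ι} (h₀ : RootD.IsSimpleSys P Δ₀) {Δ : Set ι}
    (h : ∀ k : ι, ∃! c : ι →₀ ℤ, (↑c.support ⊆ Δ ∧ ((∀ j, 0 ≤ c j) ∨ (∀ j, c j ≤ 0)) ∧
      Finsupp.linearCombination ℤ P.root c = P.root k)) :
    RootD.IsSimpleSys P Δ := by
  set e : (ι → ℤ) → (ι →₀ ℤ) := fun c => Finsupp.equivFunOnFinite.symm c
  have hle : ∀ c : ι → ℤ, Finsupp.linearCombination ℤ P.root (e c) = comb P c := fun c => by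
    rw [Finsupp.linearCombination_apply, Finsupp.sum_fintype _ (fun i a => a • P.root i) (fun _ => zero_smul ℤ _)]
    rfl
  have hse : ∀ c : ι → ℤ, (∀ j ∉ Δ, c j = 0) → ↑(e c).support ⊆ Δ := fun c hc j hj => by
    by_contra hn
    exact Finsupp.mem_support_iff.mp hj (hc j hn)
  set S : Set ι := RootD.posOf P Δ
  have hcl : RootD.IsClosedSub P S := fun i j k hi hj he => by
    change P.root k ∈ RootD.natSpan P Δ; rw [he]; exact add_mem hi hj
  have hrep : ∀ k, ∃ c : ι → ℤ, (∀ j ∉ Δ, c j = 0) ∧ ((∀ j, 0 ≤ c j) ∨ ∀ j, c j ≤ 0) ∧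
      P.root k = comb P c := fun k => by
    obtain ⟨c, ⟨hc, hs, he⟩, -⟩ := h k
    refine ⟨c, fun j hj => ?_, hs, ?_⟩
    · by_contra hn; exact hj (hc (Finsupp.mem_support_iff.mpr hn))
    · rw [← he, Finsupp.linearCombination_apply, Finsupp.sum_fintype _ (fun i a => a • P.root i) (fun _ => zero_smul ℤ _)]
      rfl
  have huniq : ∀ (k : ι) (c c' : ι → ℤ), (∀ j ∉ Δ, c j = 0) →
      ((∀ j, 0 ≤ c j) ∨ ∀ j, c j ≤ 0) → P.root k = comb P c → (∀ j ∉ Δ, c' j = 0) →
      ((∀ j, 0 ≤ c' j) ∨ ∀ j, c' j ≤ 0) → P.root k = comb P c' → c = c' := by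
    intro k c c' h1 h2 h3 h1' h2' h3'
    obtain ⟨w, -, hw⟩ := h k
    have := (hw (e c) ⟨hse c h1, h2, (hle c).trans h3.symm⟩).trans
      (hw (e c') ⟨hse c' h1', h2', (hle c').trans h3'.symm⟩).symm
    exact funext fun j => congrFun (congrArg (fun f : ι →₀ ℤ => (f : ι → ℤ)) this) j
  have hcov : ∀ i, i ∈ S ∨ neg P i ∈ S := fun i => by
    obtain ⟨c, hc, hs | hs, he⟩ := hrep i
    · exact Or.inl (natSpan_iff.mpr ⟨c, hs, hc, he⟩)
    · exact Or.inr (natSpan_iff.mpr ⟨-c, fun j => by simpa using hs j, fun j hj => by simp [hc j hj],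
        by rw [comb_neg, ← he, root_neg]⟩)
  have hdis : ∀ i ∈ S, neg P i ∉ S := fun i hi hi' => by
    obtain ⟨c, hc, hc', he⟩ := natSpan_iff.mp hi
    obtain ⟨b, hb, hb', hbe⟩ := natSpan_iff.mp hi'
    have := huniq i c (-b) hc' (Or.inl hc) he (fun j hj => by simp [hb' j hj])
      (Or.inr fun j => by simpa using hb j) (by rw [comb_neg, ← hbe, root_neg, neg_neg])
    have hz : c = 0 := funext fun j => by
      have := congrFun this j; have := hc j; have := hb j
      simp only [Pi.neg_apply, Pi.zero_apply] at *; lia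
    exact P.ne_zero i (by rw [he, hz, comb_zero])
  obtain ⟨Δ₁, h₁, hpos⟩ := exists_simple_posOf_eq h₀ hcl hcov hdis
  have hΔS : ∀ i ∈ Δ, i ∈ RootD.posOf P Δ₁ := fun i hi => by
    rw [hpos]; exact AddSubmonoid.subset_closure ⟨i, hi, rfl⟩
  have hsub : Δ₁ ⊆ Δ := by
    intro δ hδ
    have hm : P.root δ ∈ RootD.natSpan P Δ := by
      have h5 := simple_mem_posOf h₁ hδ
      rw [hpos] at h5
      exact h5
    obtain ⟨c, hc, hc', he⟩ := natSpan_iff.mp hm
    have hsum : 1 = ∑ j, c j * ht h₁ j := by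
      rw [← ht_simple h₁ hδ, ht, coef_eq h₁ (c := fun x => ∑ j, c j * coef h₁ j x)
        (fun x hx => Finset.sum_eq_zero fun j _ => by rw [coef_eq_zero h₁ hx, mul_zero]) ?_]
      · rw [Finset.sum_comm]
        exact Finset.sum_congr rfl fun j _ => by rw [ht, Finset.mul_sum]
      · rw [he, comb, comb]
        simp only [Finset.sum_smul]
        rw [Finset.sum_comm]
        refine Finset.sum_congr rfl fun j _ => ?_
        conv_lhs => rw [root_eq_comb h₁ j, comb, Finset.smul_sum]
        exact Finset.sum_congr rfl fun x _ => by rw [mul_smul]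
    have hterm : ∀ j, c j ≤ c j * ht h₁ j := fun j => by
      by_cases hj : j ∈ Δ
      · have := ht_pos h₁ (hΔS j hj)
        exact le_mul_of_one_le_right (hc j) this
      · simp [hc' j hj]
    have hle1 : ∑ j, c j ≤ 1 := hsum ▸ Finset.sum_le_sum fun j _ => hterm j
    obtain ⟨j, hj⟩ : ∃ j, c j ≠ 0 := by
      by_contra hall
      push Not at hall
      exact P.ne_zero δ (by rw [he, show c = 0 from funext hall, comb_zero])
    have hj1 : c = Pi.single j 1 := by
      funext x
      have hpj : 1 ≤ c j := by have := hc j; lia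
      rcases eq_or_ne x j with rfl | hx
      · rw [Pi.single_eq_same]
        have := Finset.single_le_sum (fun a _ => hc a) (Finset.mem_univ x)
        lia
      · rw [Pi.single_eq_of_ne hx]
        have h2 := Finset.add_sum_erase Finset.univ c (Finset.mem_univ j)
        have h3 := Finset.single_le_sum (fun a _ => hc a)
          (Finset.mem_erase.mpr ⟨hx, Finset.mem_univ x⟩)
        have := hc x
        lia
    have hjΔ : j ∈ Δ := by by_contra hn; exact hj (hc' j hn)
    rw [hj1, comb_single, one_smul] at he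
    exact P.root.injective he ▸ hjΔ
  have heq : Δ = Δ₁ := by
    refine hsub.antisymm' fun α hα => ?_
    by_contra hn1
    have hco : ∀ j ∉ Δ, coef h₁ α j = 0 := fun j hj => coef_eq_zero h₁ fun h => hj (hsub h)
    have := huniq α (coef h₁ α) (Pi.single α 1) hco (coef_sign h₁ α) (root_eq_comb h₁ α)
      (fun j hj => Pi.single_eq_of_ne (fun e => hj (by rw [e]; exact hα)) 1)
      (Or.inl fun j => by rw [Pi.single_apply]; split <;> simp) (by rw [comb_single, one_smul])
    have h2 := congrFun this α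
    rw [coef_eq_zero h₁ hn1, Pi.single_eq_same] at h2
    exact zero_ne_one h2
  exact heq ▸ h₁

end Groth.Agent.Roots36
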