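import Groth.Agent.Roots36.Forest
import Mathlib.LinearAlgebra.RootSystem.Irreducible

set_option autoImplicit false
set_option linter.unusedSectionVars false
set_option linter.unusedSimpArgs false

open Set Function RootPairing
open scoped Classical

namespace Groth.Agent.Roots36

variable {ι k M N : Type*} [Field k] [CharZero k] [AddCommGroup M] [Module k M] [AddCommGroup N]
  [Module k N] {P : RootPairing ι k M N} [P.IsCrystallographic] [P.IsReduced] [P.IsIrreducible]

/-- A nonempty set of simple roots orthogonal to all other simple roots is everything. -/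
lemma mem_of_simple_orthogonal [Finite ι] (b : P.Base) {S : Set ι} (hS : S ⊆ b.support) (hne : S.Nonempty)
    (h : ∀ j ∈ b.support, j ∉ S → ∀ s ∈ S, P.pairingIn ℤ s j = 0) {a : ι} (ha : a ∈ b.support) :
    a ∈ S := by
  set U := Submodule.span k (P.root '' S)
  have hU : ∀ i, U ∈ Module.End.invtSubmodule (P.reflection i) := by
    refine (b.forall_mem_support_invtSubmodule_iff U).mp fun j hj => ?_
    rw [Module.End.mem_invtSubmodule]
    intro x hx
    rw [Submodule.mem_comap, LinearEquiv.coe_coe, RootPairing.reflection_apply]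
    by_cases hjS : j ∈ S
    · exact sub_mem hx (Submodule.smul_mem _ _ (Submodule.subset_span ⟨j, hjS, rfl⟩))
    · have : P.coroot' j x = 0 := by
        refine LinearMap.mem_ker.mp ((Submodule.span_le.mpr ?_) hx)
        rintro _ ⟨s, hs, rfl⟩
        rw [SetLike.mem_coe, LinearMap.mem_ker, root_coroot'_eq_pairing, pairing_eq_cast,
          h j hj hjS s hs, Int.cast_zero]
      rwa [this, zero_smul, sub_zero]
  obtain ⟨s, hs⟩ := hne
  have htop : U = ⊤ := IsIrreducible.eq_top_of_invtSubmodule_reflection U hU fun h =>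
    P.ne_zero s ((Submodule.eq_bot_iff U).mp h _ (Submodule.subset_span ⟨s, hs, rfl⟩))
  by_contra haS
  exact ((linearIndepOn_insert haS).mp (b.linearIndepOn_root.mono (Set.insert_subset ha hS))).2
    (show P.root a ∈ U from htop ▸ Submodule.mem_top)

/-- A root supported away from `A`, not in the span of `I`, pairing negatively with some root of `A`. -/
theorem exists_root_toward [Fintype ι] (b : P.Base) (I A B : Finset ι)
    (hmem : ∀ x, x ∈ b.support ↔ x ∈ I ∨ x ∈ A ∨ x ∈ B)
    (hIA : Disjoint I A) (hIB : Disjoint I B) (hAB : Disjoint A B) (hA : A.Nonempty) (hB : B.Nonempty) :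
    ∃ l ∈ A, ∃ j : ι, P.root j ∈ AddSubmonoid.closure (P.root '' ((I : Set ι) ∪ B)) ∧
      P.root j ∉ Submodule.span k (P.root '' ↑I) ∧ P.pairingIn ℤ j l < 0 := by
  set hΔ := base_isSimpleSys b
  obtain ⟨b₀, hb₀⟩ := hB
  have hb₀Δ : b₀ ∈ b.support := (hmem b₀).mpr (Or.inr (Or.inr hb₀))
  let T := Finset.univ.filter fun d : ι =>
    d ∈ RootD.posOf P b.support ∧ (∀ a ∈ A, coef hΔ d a = 0) ∧ ∃ x ∈ B, coef hΔ d x ≠ 0
  have hT : T.Nonempty := ⟨b₀, by
    refine Finset.mem_filter.mpr ⟨Finset.mem_univ _, simple_mem_posOf hΔ hb₀Δ, fun a ha => ?_,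
      b₀, hb₀, ?_⟩
    · rw [coef_simple hΔ hb₀Δ]
      exact Pi.single_eq_of_ne (fun e : a = b₀ => (Finset.disjoint_left.mp hAB ha) (e ▸ hb₀)) 1
    · rw [coef_simple hΔ hb₀Δ]; simp⟩
  obtain ⟨d, hd, hmax⟩ := Finset.exists_max_image T (ht hΔ) hT
  obtain ⟨hdpos, hdA, x₀, hx₀, hdx⟩ := (Finset.mem_filter.mp hd).2
  have hnn := (posOf_iff hΔ).mp hdpos
  have hd2 : ∀ j ∈ (b.support : Set ι), j ∉ A → 0 ≤ P.pairingIn ℤ d j := by
    intro j hj hjA
    by_contra hneg
    push Not at hneg
    obtain ⟨d', hd'⟩ := add_root_mem hneg fun e => by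
      have : d = neg P j := P.root.injective (by rw [e, root_neg])
      exact (neg_posOf_iff hΔ).mp (this ▸ hdpos) (simple_mem_posOf hΔ hj)
    have hc : ∀ x, coef hΔ d' x = coef hΔ d x + (Pi.single j 1 : ι → ℤ) x := fun x => by
      rw [coef_add hΔ hd', coef_simple hΔ hj]; rfl
    have hd'T : d' ∈ T := by
      refine Finset.mem_filter.mpr ⟨Finset.mem_univ _, (posOf_iff hΔ).mpr fun x => ?_, fun a ha => ?_,
        x₀, hx₀, ?_⟩
      · rw [hc]; exact add_nonneg (hnn x) (by rw [Pi.single_apply]; split <;> simp)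
      · rw [hc, hdA a ha, Pi.single_eq_of_ne (fun e : a = j => hjA (e ▸ ha)), add_zero]
      · rw [hc]
        have := hnn x₀
        rw [Pi.single_apply]; split <;> lia
    have h1 := hmax d' hd'T
    have h2 := ht_add hΔ hd'
    have h3 := ht_simple hΔ hj
    lia
  have hex : ∃ a ∈ A, P.pairingIn ℤ d a < 0 := by
    by_contra hcon
    push Not at hcon
    let S : Set ι := {x | coef hΔ d x ≠ 0}
    have hS : S ⊆ b.support := fun x hx => by
      by_contra h; exact hx (coef_eq_zero hΔ h)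
    have horth : ∀ j ∈ b.support, j ∉ S → ∀ s ∈ S, P.pairingIn ℤ s j = 0 := by
      intro j hj hjS s hs
      have hterm : ∀ x ∈ Finset.univ, coef hΔ d x * P.pairingIn ℤ x j ≤ 0 := fun x _ => by
        by_cases hx : x ∈ S
        · exact mul_nonpos_of_nonneg_of_nonpos (hnn x)
            (simple_pairingIn_nonpos hΔ (hS hx) hj (fun e => hjS (e ▸ hx)))
        · simp [not_not.mp hx]
      have h1 : 0 ≤ ∑ x, coef hΔ d x * P.pairingIn ℤ x j := by
        rw [← pairingIn_eq_sum hΔ]
        by_cases hjA : j ∈ A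
        · exact hcon j hjA
        · exact hd2 j hj hjA
      exact (mul_eq_zero.mp ((Finset.sum_eq_zero_iff_of_nonpos hterm).mp
        (le_antisymm (Finset.sum_nonpos hterm) h1) s (Finset.mem_univ s))).resolve_left hs
    obtain ⟨a, ha⟩ := hA
    exact mem_of_simple_orthogonal b hS ⟨x₀, hdx⟩ horth ((hmem a).mpr (Or.inr (Or.inl ha))) (hdA a ha)
  obtain ⟨l, hl, hlneg⟩ := hex
  refine ⟨l, hl, d, ?_, fun hspan => ?_, hlneg⟩
  · change P.root d ∈ RootD.natSpan P ((I : Set ι) ∪ B)
    refine natSpan_iff.mpr ⟨coef hΔ d, hnn, fun x hx => ?_, root_eq_comb hΔ d⟩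
    simp only [Set.mem_union, Finset.mem_coe, not_or] at hx
    by_cases hxΔ : x ∈ b.support
    · rcases (hmem x).mp hxΔ with h | h | h
      · exact absurd h hx.1
      · exact hdA x h
      · exact absurd h hx.2
    · exact coef_eq_zero hΔ hxΔ
  · have hx₀Δ : x₀ ∈ b.support := (hmem x₀).mpr (Or.inr (Or.inr hx₀))
    set D : Set ι := (b.support : Set ι) \ {x₀}
    have hI : (I : Set ι) ⊆ D := fun y hy => ⟨(hmem y).mpr (Or.inl hy), fun e =>
      Finset.disjoint_left.mp hIB hy (Set.mem_singleton_iff.mp e ▸ hx₀)⟩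
    have h2 : (coef hΔ d x₀ : k) • P.root x₀ ∈ Submodule.span k (P.root '' D) := by
      have e := root_eq_comb hΔ d
      rw [comb, ← Finset.add_sum_erase _ _ (Finset.mem_univ x₀), ← sub_eq_iff_eq_add] at e
      rw [Int.cast_smul_eq_zsmul, ← e]
      refine sub_mem (Submodule.span_mono (Set.image_mono hI) hspan) (Submodule.sum_mem _ fun y hy => ?_)
      by_cases hyΔ : y ∈ b.support
      · rw [← Int.cast_smul_eq_zsmul k]
        exact Submodule.smul_mem _ _ (Submodule.subset_span ⟨y, ⟨hyΔ, (Finset.mem_erase.mp hy).1⟩, rfl⟩)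
      · simp [coef_eq_zero hΔ (show y ∉ (b.support : Set ι) from hyΔ)]
    have hne : (coef hΔ d x₀ : k) ≠ 0 := Int.cast_ne_zero.mpr hdx
    rw [Submodule.smul_mem_iff _ hne] at h2
    exact ((linearIndepOn_insert (show x₀ ∉ D from fun h => h.2 rfl)).mp
      (b.linearIndepOn_root.mono (Set.insert_subset hx₀Δ Set.sdiff_subset))).2 h2

end Groth.Agent.Roots36
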