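import Groth.Agent.Roots36.PosSys
import Mathlib.GroupTheory.OrderOfElement

set_option autoImplicit false
set_option linter.unusedSectionVars false
set_option linter.unusedSimpArgs false

open Set Function RootPairing
open scoped Classical

namespace Groth.Agent.Roots36

section Group

variable {G : Type*} [Group G]

lemma involution_mul_zpow {a b : G} (ha : a * a = 1) (hb : b * b = 1) (z : ℤ) :
    a * (a * b) ^ z = (a * b) ^ (-z) * a := by
  have h : SemiconjBy a (a * b) (a * b)⁻¹ := by
    rw [SemiconjBy, mul_inv_rev, inv_eq_of_mul_eq_one_right hb, inv_eq_of_mul_eq_one_right ha,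
      ← mul_assoc, ha, one_mul, mul_assoc, ha, mul_one]
  rw [(h.zpow_right z).eq, inv_zpow, zpow_neg]

lemma involution_word_form {a b : G} (ha : a * a = 1) (hb : b * b = 1) {v : List G}
    (hv : ∀ x ∈ v, x = a ∨ x = b) :
    ∃ z : ℤ, v.prod = (a * b) ^ z ∨ v.prod = (a * b) ^ z * a := by
  induction v with
  | nil => exact ⟨0, Or.inl (by simp)⟩
  | cons x v ih =>
    obtain ⟨z, h⟩ := ih fun y hy => hv y (by simp [hy])
    have hb' : ∀ g : G, b * g = a * ((a * b) * g) := fun g => by
      rw [← mul_assoc a, ← mul_assoc a, ha, one_mul]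
    rcases hv x (by simp) with rfl | rfl <;> rcases h with h | h <;> rw [List.prod_cons, h]
    · exact ⟨-z, Or.inr (involution_mul_zpow ha hb z)⟩
    · refine ⟨-z, Or.inl ?_⟩
      rw [← mul_assoc, involution_mul_zpow ha hb, mul_assoc, ha, mul_one]
    · refine ⟨-(z + 1), Or.inr ?_⟩
      rw [hb', ← zpow_one_add, add_comm, involution_mul_zpow ha hb]
    · refine ⟨-(z + 1), Or.inl ?_⟩
      rw [hb', ← mul_assoc (a * x), ← zpow_one_add, add_comm, ← mul_assoc,
        involution_mul_zpow ha hb, mul_assoc, ha, mul_one]

/-- In a dihedral group given by the order of the product of two involutions, a word is trivial as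
soon as its image is. -/
lemma involution_word_eq_one {H : Type*} [Group H] (φ : G →* H) {a b : G} (ha : a * a = 1)
    (hb : b * b = 1) (ha1 : φ a ≠ 1) (hb1 : φ b ≠ 1)
    (hord : (a * b) ^ orderOf (φ a * φ b) = 1) {v : List G} (hv : ∀ x ∈ v, x = a ∨ x = b)
    (h : φ v.prod = 1) : v.prod = 1 := by
  obtain ⟨z, e | e⟩ := involution_word_form ha hb hv
  · rw [e, map_zpow, map_mul, ← orderOf_dvd_iff_zpow_eq_one] at h
    obtain ⟨m, rfl⟩ := h
    rw [e, zpow_mul, zpow_natCast, hord, one_zpow]
  · exfalso
    rw [e, map_mul, map_zpow, map_mul] at h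
    set A := φ a
    set B := φ b
    have hA : A * A = 1 := by rw [← map_mul, ha, map_one]
    have hB : B * B = 1 := by rw [← map_mul, hb, map_one]
    have hz : (A * B) ^ z = A :=
      (eq_inv_of_mul_eq_one_left h).trans (inv_eq_of_mul_eq_one_right hA)
    have hc := Commute.zpow_self (A * B) z
    rw [hz] at hc
    have h3 : B = A * B * A := by
      have h1 := hc.eq
      rwa [← mul_assoc, hA, one_mul] at h1
    have h2 : A * B = B * A := by
      conv_lhs => rw [h3, ← mul_assoc, ← mul_assoc, hA, one_mul]
    have hsq : (A * B) ^ (2 : ℤ) = 1 := by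
      rw [zpow_two]
      conv_lhs => arg 2; rw [h2]
      rw [mul_assoc, ← mul_assoc B, hB, one_mul, hA]
    rcases Int.even_or_odd' z with ⟨m, rfl | rfl⟩
    · rw [zpow_mul, hsq, one_zpow] at hz
      exact ha1 hz.symm
    · rw [zpow_add, zpow_mul, hsq, one_zpow, one_mul, zpow_one, mul_eq_left] at hz
      exact hb1 hz

end Group

variable {ι R M N : Type*} [CommRing R] [AddCommGroup M] [Module R M] [AddCommGroup N] [Module R N]
  {P : RootPairing ι R M N} [CharZero R] [IsDomain R] [P.IsCrystallographic] [Fintype ι]
  {Δ : Set ι} (hΔ : RootD.IsSimpleSys P Δ)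
include hΔ

lemma reflection_simple_ne_one {i : ι} (hi : i ∈ Δ) : RootPairing.Equiv.reflection P i ≠ 1 := by
  intro h
  have := congrArg (fun g : P.Aut => g • i) h
  simp only [reflection_self_smul, one_smul] at this
  exact (neg_posOf_iff hΔ).mp (this.symm ▸ simple_mem_posOf hΔ hi) (simple_mem_posOf hΔ hi)

lemma reflection_simple_inj {i j : ι} (hi : i ∈ Δ) (hj : j ∈ Δ)
    (h : RootPairing.Equiv.reflection P i = RootPairing.Equiv.reflection P j) : i = j := by
  by_contra hne
  have := congrArg (fun g : P.Aut => g • i) h
  simp only [reflection_self_smul] at this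
  rw [reflection_smul_index] at this
  refine (neg_posOf_iff hΔ).mp (this.symm ▸ ?_) (simple_mem_posOf hΔ hi)
  exact reflect_posOf hΔ hj (simple_mem_posOf hΔ hi) ⟨i, hne, by simp [coef_simple hΔ hi]⟩

omit hΔ in
/-- A word is reduced among the words in `Δ`. -/
def Reduced (P : RootPairing ι R M N) (Δ : Set ι) (l : List ι) : Prop :=
  (∀ a ∈ l, a ∈ Δ) ∧ ∀ l' : List ι, (∀ a ∈ l', a ∈ Δ) → wprod P l' = wprod P l → l.length ≤ l'.length

omit hΔ in
lemma Reduced.of_append {l : List ι} {i : ι} (h : Reduced P Δ (l ++ [i])) : Reduced P Δ l := by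
  refine ⟨fun a ha => h.1 a (by simp [ha]), fun l' hl' he => ?_⟩
  have := h.2 (l' ++ [i]) (by
    intro a ha
    rcases List.mem_append.mp ha with ha | ha
    · exact hl' a ha
    · exact h.1 a (List.mem_append_right l ha)) (by rw [wprod_append, wprod_append, he])
  simpa using this

omit hΔ in
lemma Reduced.of_eq {l l' : List ι} (h : Reduced P Δ l) (hl' : ∀ a ∈ l', a ∈ Δ)
    (he : wprod P l' = wprod P l) (hlen : l'.length ≤ l.length) : Reduced P Δ l' :=
  ⟨hl', fun r hr hre => hlen.trans (h.2 r hr (hre.trans he))⟩

section Matsumoto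

variable {G : Type*} [Group G] (π : ι → G) (φ : G →* P.Aut)
  (hπφ : ∀ i ∈ Δ, φ (π i) = RootPairing.Equiv.reflection P i)
  (hπ2 : ∀ i ∈ Δ, π i * π i = 1)
  (hπ : ∀ i ∈ Δ, ∀ j ∈ Δ,
    (π i * π j) ^ orderOf (RootPairing.Equiv.reflection P i * RootPairing.Equiv.reflection P j) = 1)
include hπφ hπ2 hπ

omit hΔ hπ2 hπ in
lemma map_prod_eq {l : List ι} (hl : ∀ a ∈ l, a ∈ Δ) : φ (l.map π).prod = wprod P l := by
  induction l with
  | nil => simp
  | cons a l ih =>
    rw [List.map_cons, List.prod_cons, map_mul, hπφ a (hl a (by simp)),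
      ih fun b hb => hl b (by simp [hb]), wprod_cons]

/-- Matsumoto's theorem. -/
lemma prod_eq_of_reduced {l l' : List ι} (h : Reduced P Δ l) (h' : Reduced P Δ l')
    (he : wprod P l = wprod P l') : (l.map π).prod = (l'.map π).prod := by
  generalize hk : l.length = k
  induction k using Nat.strongRecOn generalizing l l' with
  | ind k ihk =>
    have hlen : l'.length = k :=
      hk ▸ le_antisymm (h'.2 l h.1 he) (h.2 l' h'.1 he.symm)
    have same : ∀ (t t' : List ι) (i : ι), Reduced P Δ (t ++ [i]) → Reduced P Δ (t' ++ [i]) →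
        (t ++ [i]).length = k → wprod P (t ++ [i]) = wprod P (t' ++ [i]) →
        ((t ++ [i]).map π).prod = ((t' ++ [i]).map π).prod := by
      intro t t' i ht ht' hl e
      rw [wprod_append, wprod_append] at e
      simp only [List.map_append, List.prod_append]
      rw [ihk t.length (by simp at hl; lia) ht.of_append ht'.of_append (mul_right_cancel e) rfl]
    rcases List.eq_nil_or_concat l with rfl | ⟨l₁, i, rfl⟩
    · simp at hk
      rw [List.length_eq_zero_iff.mp (hlen.trans hk.symm)]
    rcases List.eq_nil_or_concat l' with rfl | ⟨l₂, j, rfl⟩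
    · simp at hlen hk; lia
    simp only [List.concat_eq_append] at *
    by_cases hij : i = j
    · subst hij; exact same l₁ l₂ i h h' hk he
    suffices aux : ∀ (n : ℕ) (u v₀ : List ι) (x y : ι), u.length = n → x ≠ y →
        (∀ a ∈ v₀, a = x ∨ a = y) → Reduced P Δ (u ++ (v₀ ++ [x])) →
        (u ++ (v₀ ++ [x])).length = k → ∀ t : List ι, Reduced P Δ (t ++ [y]) →
        wprod P (u ++ (v₀ ++ [x])) = wprod P (t ++ [y]) →
        ((u ++ (v₀ ++ [x])).map π).prod = ((t ++ [y]).map π).prod by
      simpa using aux l₁.length l₁ [] i j rfl hij (by simp) (by simpa using h) (by simpa using hk)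
        l₂ h' (by simpa using he)
    intro n
    induction n using Nat.strongRecOn with
    | ind n ihn =>
      intro u v₀ x y hu hxy hv hred hlk t ht e
      set v := v₀ ++ [x] with hvdef
      clear_value v
      have hy : y ∈ Δ := ht.1 y (by simp)
      have hx : x ∈ Δ := hred.1 x (by simp [hvdef])
      have hneg : wprod P (u ++ v) • y ∉ RootD.posOf P Δ := by
        rw [e]
        exact reduced_last_not_posOf hΔ ht.of_append.1 hy ht.2
      obtain ⟨m, hm, hme⟩ := exchange hΔ hred.1 hy hneg
      have hw : wprod P ((u ++ v).eraseIdx m ++ [y]) = wprod P (u ++ v) := by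
        rw [wprod_append, ← hme, wprod_cons, wprod_nil, mul_one, mul_assoc, reflection_sq, mul_one]
      have hmem : ∀ a ∈ (u ++ v).eraseIdx m ++ [y], a ∈ Δ := fun a ha => by
        rcases List.mem_append.mp ha with ha | ha
        · exact hred.1 a (List.mem_of_mem_eraseIdx ha)
        · rw [List.mem_singleton.mp ha]; exact hy
      have hl2 : ((u ++ v).eraseIdx m ++ [y]).length = (u ++ v).length := by
        rw [List.length_append, List.length_eraseIdx, if_pos hm, List.length_singleton]; lia
      have hred2 := hred.of_eq hmem hw hl2.le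
      have hlast := same _ t y hred2 ht (hl2.trans hlk) (hw.trans e)
      rw [← hlast]
      by_cases hmu : m < u.length
      · rw [List.eraseIdx_append_of_lt_length hmu, List.append_assoc] at hl2 hred2 hw ⊢
        have := ihn (u.eraseIdx m).length (by rw [List.length_eraseIdx, if_pos hmu]; lia)
          (u.eraseIdx m) v y x rfl hxy.symm
          (fun a ha => by
            rw [hvdef, List.mem_append, List.mem_singleton] at ha
            rcases ha with ha | ha
            · exact (hv a ha).symm
            · exact Or.inr ha)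
          hred2 (hl2.trans hlk) (u ++ v₀)
          (by rw [List.append_assoc, ← hvdef]; exact hred)
          (by rw [List.append_assoc u v₀, ← hvdef]; exact hw)
        rw [List.append_assoc u v₀, ← hvdef] at this
        exact this.symm
      · rw [List.eraseIdx_append_of_length_le (by lia)] at hme ⊢
        rw [wprod_append u, wprod_append u, mul_assoc, mul_left_cancel_iff] at hme
        set v' := v.eraseIdx (m - u.length)
        have hvxy : ∀ a ∈ v, a = x ∨ a = y := fun a ha => by
          rw [hvdef, List.mem_append, List.mem_singleton] at ha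
          rcases ha with ha | ha
          · exact hv a ha
          · exact Or.inl ha
        have hv'xy : ∀ a ∈ v', a = x ∨ a = y := fun a ha => hvxy a (List.mem_of_mem_eraseIdx ha)
        have hD : ∀ a, (a = x ∨ a = y) → a ∈ Δ := fun a ha => by rcases ha with rfl | rfl <;> assumption
        have hall : ∀ a ∈ v ++ [y] ++ v'.reverse, a = x ∨ a = y := fun a ha => by
          simp only [List.mem_append, List.mem_singleton, List.mem_reverse] at ha
          rcases ha with (ha | ha) | ha
          · exact hvxy a ha
          · exact Or.inr ha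
          · exact hv'xy a ha
        have h1 : ((v ++ [y] ++ v'.reverse).map π).prod = 1 := by
          refine involution_word_eq_one φ (hπ2 x hx) (hπ2 y hy) ?_ ?_ ?_ (fun g hg => ?_) ?_
          · rw [hπφ x hx]; exact reflection_simple_ne_one hΔ hx
          · rw [hπφ y hy]; exact reflection_simple_ne_one hΔ hy
          · rw [hπφ x hx, hπφ y hy]; exact hπ x hx y hy
          · obtain ⟨a, ha, rfl⟩ := List.mem_map.mp hg
            rcases hall a ha with rfl | rfl <;> simp
          · rw [map_prod_eq π φ hπφ fun a ha => hD a (hall a ha), wprod_append, wprod_append,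
              wprod_cons, wprod_nil, mul_one, hme, wprod_reverse, mul_inv_cancel]
        have hrev : ∀ r : List ι, (∀ a ∈ r, a ∈ Δ) → ((r.reverse).map π).prod = (r.map π).prod⁻¹ := by
          intro r hr
          induction r with
          | nil => simp
          | cons a r ih =>
            simp only [List.reverse_cons, List.map_append, List.prod_append, List.map_cons,
              List.map_nil, List.prod_cons, List.prod_nil, mul_one, mul_inv_rev]
            rw [ih fun b hb => hr b (by simp [hb]),
              inv_eq_of_mul_eq_one_right (hπ2 a (hr a (by simp)))]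
        simp only [List.map_append, List.prod_append, List.map_cons, List.map_nil, List.prod_cons,
          List.prod_nil, mul_one] at h1 ⊢
        rw [hrev v' fun a ha => hD a (hv'xy a ha), mul_inv_eq_one] at h1
        rw [← h1, mul_assoc, mul_assoc, hπ2 y hy, mul_one]

/-- Every word is equivalent to a reduced one. -/
lemma exists_reduced_prod_eq {l : List ι} (hl : ∀ a ∈ l, a ∈ Δ) :
    ∃ r, Reduced P Δ r ∧ (r.map π).prod = (l.map π).prod ∧ wprod P r = wprod P l ∧
      r.length ≤ l.length := by
  induction l using List.reverseRecOn with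
  | nil => exact ⟨[], ⟨by simp, fun _ _ _ => by simp⟩, rfl, rfl, le_rfl⟩
  | append_singleton t i ih =>
    have hi : i ∈ Δ := hl i (by simp)
    obtain ⟨r, hr, hp, hw, hlen⟩ := ih fun a ha => hl a (by simp [ha])
    have hri : ∀ a ∈ r ++ [i], a ∈ Δ := fun a ha => by
      rcases List.mem_append.mp ha with ha | ha
      · exact hr.1 a ha
      · rw [List.mem_singleton.mp ha]; exact hi
    have hwi : wprod P (r ++ [i]) = wprod P (t ++ [i]) := by rw [wprod_append, wprod_append, hw]
    by_cases hpos : wprod P r • i ∈ RootD.posOf P Δ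
    · refine ⟨r ++ [i], ⟨hri, fun r' hr' he => ?_⟩, by simp [hp], hwi, by simpa using hlen⟩
      have hneg : wprod P r' • i ∉ RootD.posOf P Δ := by
        rw [he, wprod_append, wprod_cons, wprod_nil, mul_one, mul_smul, reflection_self_smul,
          smul_neg_index, neg_posOf_iff hΔ, not_not]
        exact hpos
      obtain ⟨m, hm, hme⟩ := exchange hΔ hr' hi hneg
      have := hr.2 (r'.eraseIdx m) (fun a ha => hr' a (List.mem_of_mem_eraseIdx ha))
        (by rw [← hme, he, wprod_append, wprod_cons, wprod_nil, mul_one, mul_assoc, reflection_sq,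
          mul_one])
      rw [List.length_eraseIdx, if_pos hm] at this
      simp; lia
    · obtain ⟨m, hm, hme⟩ := exchange hΔ hr.1 hi hpos
      set q := r.eraseIdx m with hq
      have hqi : ∀ a ∈ q ++ [i], a ∈ Δ := fun a ha => by
        rcases List.mem_append.mp ha with ha | ha
        · exact hr.1 a (List.mem_of_mem_eraseIdx ha)
        · rw [List.mem_singleton.mp ha]; exact hi
      have hqw : wprod P (q ++ [i]) = wprod P r := by
        rw [wprod_append, ← hme, wprod_cons, wprod_nil, mul_one, mul_assoc, reflection_sq, mul_one]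
      have hql : q.length + 1 = r.length := by rw [hq, List.length_eraseIdx, if_pos hm]; lia
      have hqr := hr.of_eq hqi hqw (by simp [hql])
      refine ⟨q, hqr.of_append, ?_, ?_, by simp; lia⟩
      · have := prod_eq_of_reduced hΔ π φ hπφ hπ2 hπ hqr hr hqw
        simp only [List.map_append, List.prod_append, List.map_cons, List.map_nil, List.prod_cons,
          List.prod_nil, mul_one] at this ⊢
        rw [← hp, ← this, mul_assoc, hπ2 i hi, mul_one]
      · rw [← hwi, wprod_append, wprod_cons, wprod_nil, mul_one, hme]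

lemma prod_eq_one_of_wprod_eq_one {l : List ι} (hl : ∀ a ∈ l, a ∈ Δ) (h : wprod P l = 1) :
    (l.map π).prod = 1 := by
  obtain ⟨r, hr, hp, hw, -⟩ := exists_reduced_prod_eq hΔ π φ hπφ hπ2 hπ hl
  have := hr.2 [] (by simp) (by rw [hw, h]; rfl)
  rw [List.length_nil, Nat.le_zero, List.length_eq_zero_iff] at this
  rw [← hp, this]; rfl

end Matsumoto

end Groth.Agent.Roots36
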