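import Groth.Agent.Roots36.Combi

set_option autoImplicit false
set_option linter.unusedSectionVars false
set_option linter.unusedSimpArgs false

open Set Function RootPairing
open scoped Classical

namespace Groth.Agent.Roots36

variable {ι R M N : Type*} [CommRing R] [AddCommGroup M] [Module R M] [AddCommGroup N] [Module R N]
  {P : RootPairing ι R M N} [CharZero R] [IsDomain R] [P.IsCrystallographic] [Fintype ι]
  {Δ : Set ι}

lemma smul_reflection_apply (g : P.Aut) (i : ι) (m : M) :
    g • (RootPairing.Equiv.reflection P i • m) = g • m - P.coroot' i m • P.root (g • i) := by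
  rw [RootPairing.Equiv.reflection_smul, RootPairing.reflection_apply, smul_sub, smul_smulR,
    root_smul]

variable (hΔ : RootD.IsSimpleSys P Δ)
include hΔ

/-- Reduced relative to deleting letters: the last letter sends its root to a negative root. -/
lemma smul_prefix_posOf {l : List ι} {i : ι} (hl : ∀ a ∈ l, a ∈ Δ) (hi : i ∈ Δ)
    (hmin : ∀ m, m < l.length → wprod P (l.eraseIdx m) ≠ wprod P (l ++ [i])) :
    wprod P l • i ∈ RootD.posOf P Δ := by
  by_contra hneg
  obtain ⟨m, hm, he⟩ := exchange hΔ hl hi hneg
  exact hmin m hm (by rw [← he, wprod_append, wprod_cons, wprod_nil, mul_one])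

/-- The telescoping expansion of `m - w m`. -/
lemma exists_telescope {S : Set ι} (hS : S ⊆ Δ) {g : P.Aut} (hg : g ∈ subW P S) :
    ∃ L : List (ι × ι), (∀ p ∈ L, p.1 ∈ S ∧ p.2 ∈ RootD.posOf P Δ) ∧
      (∀ m : M, m - g • m = (L.map fun p => P.coroot' p.1 m • P.root p.2).sum) ∧
      g ∈ subW P {a | ∃ p ∈ L, p.1 = a} := by
  obtain ⟨l₀, hl₀, rfl⟩ := exists_word_of_mem_subW hg
  generalize hn : l₀.length = n
  induction n using Nat.strongRecOn generalizing l₀ with
  | ind n ih =>
    rcases List.eq_nil_or_concat l₀ with rfl | ⟨t, i, rfl⟩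
    · exact ⟨[], by simp, by simp, by simp⟩
    · simp only [List.concat_eq_append] at *
      have ht : ∀ a ∈ t, a ∈ S := fun a ha => hl₀ a (by simp [ha])
      have hi : i ∈ S := hl₀ i (by simp)
      have hlen : t.length + 1 = n := by rw [← hn]; simp
      by_cases hmin : ∀ m, m < t.length → wprod P (t.eraseIdx m) ≠ wprod P (t ++ [i])
      · obtain ⟨L, hL1, hL2, hL3⟩ :=
          ih t.length (by lia) t ht (wprod_mem_subW ht) rfl
        have hpos := smul_prefix_posOf hΔ (fun a ha => hS (ht a ha)) (hS hi) hmin
        refine ⟨L ++ [(i, wprod P t • i)], ?_, fun m => ?_, ?_⟩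
        · intro p hp
          rcases List.mem_append.mp hp with hp | hp
          · exact hL1 p hp
          · rw [List.mem_singleton] at hp; subst hp; exact ⟨hi, hpos⟩
        · rw [wprod_append, wprod_cons, wprod_nil, mul_one, mul_smul, smul_reflection_apply,
            List.map_append, List.sum_append, List.map_singleton, List.sum_singleton, ← hL2]
          abel
        · rw [wprod_append, wprod_cons, wprod_nil, mul_one]
          refine mul_mem (Subgroup.closure_mono (Set.image_mono ?_) hL3)
            (reflection_mem_subW ⟨(i, wprod P t • i), by simp, rfl⟩)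
          rintro a ⟨p, hp, rfl⟩
          exact ⟨p, by simp [hp], rfl⟩
      · push Not at hmin
        obtain ⟨m, hm, he⟩ := hmin
        have h1 : ∀ a ∈ t.eraseIdx m, a ∈ S := fun a ha => ht a (List.mem_of_mem_eraseIdx ha)
        have h2 := ih (t.eraseIdx m).length (by rw [List.length_eraseIdx, if_pos hm]; lia)
          (t.eraseIdx m) h1 (wprod_mem_subW h1) rfl
        rwa [he] at h2

lemma sub_smul_root_inSpan {S : Set ι} (_hS : S ⊆ Δ) {g : P.Aut} (hg : g ∈ subW P S) (m : M) :
    m - g • m ∈ Submodule.span R (P.root '' S) := by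
  induction hg using Subgroup.closure_induction generalizing m with
  | mem x hx =>
    obtain ⟨i, hi, rfl⟩ := hx
    rw [RootPairing.Equiv.reflection_smul, RootPairing.reflection_apply, sub_sub_cancel]
    exact Submodule.smul_mem _ _ (Submodule.subset_span ⟨i, hi, rfl⟩)
  | one => simp
  | mul x y _ _ hx hy =>
    rw [mul_smul, show m - x • y • m = (m - y • m) + (y • m - x • y • m) by abel]
    exact add_mem (hy m) (hx _)
  | inv x _ hx =>
    have := hx (x⁻¹ • m)
    rw [smul_inv_smul] at this
    rw [← neg_sub]
    exact neg_mem this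

/-- The characterisation of the parabolic subgroup generated by a subset of the simple roots. -/
lemma mem_subW_of_moves {Δ' : Set ι} {g : P.Aut} (hg : g ∈ P.weylGroup)
    (h : ∀ k j, j ∉ Δ' → coef hΔ (g • k) j = coef hΔ k j) : g ∈ subW P Δ' := by
  obtain ⟨l, hl, hlg⟩ := exists_word hΔ hg
  generalize hn : l.length = n
  induction n using Nat.strongRecOn generalizing g l with
  | ind n ih =>
    obtain ⟨l', hl', he', hmin⟩ := exists_min_word hΔ hg
    have hlen : l'.length ≤ n := hn ▸ hmin l hl hlg
    rcases List.eq_nil_or_concat l' with rfl | ⟨t, i, rfl⟩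
    · rw [← he', wprod_nil]; exact one_mem _
    · simp only [List.concat_eq_append] at *
      have hi : i ∈ Δ := hl' i (by simp)
      have hneg := reduced_last_not_posOf hΔ (fun a ha => hl' a (by simp [ha])) hi
        (fun w hw hwe => hmin w hw (hwe.trans he'))
      rw [he'] at hneg
      have hiΔ' : i ∈ Δ' := by
        by_contra hn'
        have h1 := h i i hn'
        rw [coef_simple hΔ hi, Pi.single_eq_same] at h1
        exact hneg (posOf_of_coef_pos hΔ (j := i) (by rw [h1]; exact one_pos))
      have hg2 : g = wprod P t * RootPairing.Equiv.reflection P i := by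
        rw [← he', wprod_append, wprod_cons, wprod_nil, mul_one]
      have ht : ∀ a ∈ t, a ∈ Δ := fun a ha => hl' a (by simp [ha])
      rw [hg2]
      refine mul_mem (ih t.length (by simp at hlen; lia) (subW_le_weylGroup _ (wprod_mem_subW ht))
        (fun k j hj => ?_) t ht rfl rfl) (reflection_mem_subW hiΔ')
      have h1 := h (RootPairing.Equiv.reflection P i • k) j hj
      rw [hg2, mul_smul, reflection_reflection_smul, reflection_smul_index, coef_reflect hΔ hi] at h1
      have : j ≠ i := fun e => hj (e ▸ hiΔ')
      simpa [this] using h1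

lemma coef_smul_of_mem_subW {Δ' : Set ι} (hsub : Δ' ⊆ Δ) {g : P.Aut} (hg : g ∈ subW P Δ') (k j : ι)
    (hj : j ∉ Δ') : coef hΔ (g • k) j = coef hΔ k j := by
  induction hg using Subgroup.closure_induction generalizing k with
  | mem x hx =>
    obtain ⟨i, hi, rfl⟩ := hx
    rw [reflection_smul_index, coef_reflect hΔ (hsub hi)]
    simp [show j ≠ i from fun e => hj (e ▸ hi)]
  | one => simp
  | mul x y _ _ hx hy => rw [mul_smul, hx, hy]
  | inv x _ hx =>
    have := hx (x⁻¹ • k)
    rw [smul_inv_smul] at this
    exact this.symm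

section Hom

variable {Γ : Type*} [AddCommGroup Γ] [LinearOrder Γ] [IsOrderedAddMonoid Γ] {f : M →+ Γ}
  (hf : ∀ k ∈ RootD.posOf P Δ, 0 ≤ f (P.root k))
include hf

lemma eq_of_dominant_smul {g : P.Aut} (hg : g ∈ P.weylGroup)
    (hgf : ∀ k ∈ RootD.posOf P Δ, 0 ≤ f (g • P.root k))
    (hf2 : ∀ (r : R) (k : ι), f (P.root k) = 0 → f (r • P.root k) = 0) (m : M) :
    f (g • m) = f m := by
  obtain ⟨l, hl, hlg⟩ := exists_word hΔ hg
  generalize hn : l.length = n
  induction n using Nat.strongRecOn generalizing g l m with
  | ind n ih =>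
    obtain ⟨l', hl', he', hmin⟩ := exists_min_word hΔ hg
    have hlen : l'.length ≤ n := hn ▸ hmin l hl hlg
    rcases List.eq_nil_or_concat l' with rfl | ⟨t, i, rfl⟩
    · rw [← he', wprod_nil, one_smul]
    · simp only [List.concat_eq_append] at *
      have hi : i ∈ Δ := hl' i (by simp)
      have hneg := reduced_last_not_posOf hΔ (fun a ha => hl' a (by simp [ha])) hi
        (fun w hw hwe => hmin w hw (hwe.trans he'))
      rw [he'] at hneg
      have h1 := hf _ ((neg_posOf_iff hΔ).mpr hneg)
      have h2 := hgf i (simple_mem_posOf hΔ hi)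
      rw [← root_smul] at h2
      rw [root_neg, map_neg, neg_nonneg] at h1
      have h0 : f (P.root (g • i)) = 0 := le_antisymm h1 h2
      have hg2 : g = wprod P t * RootPairing.Equiv.reflection P i := by
        rw [← he', wprod_append, wprod_cons, wprod_nil, mul_one]
      have hsame : ∀ x : M, f (g • (RootPairing.Equiv.reflection P i • x)) = f (g • x) := fun x => by
        rw [smul_reflection_apply, map_sub, hf2 _ _ h0, sub_zero]
      have hte : ∀ x : M, f (wprod P t • x) = f (g • x) := fun x => by
        rw [← hsame x, hg2, mul_smul, ← mul_smul (RootPairing.Equiv.reflection P i),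
          reflection_sq, one_smul]
      have ht : ∀ a ∈ t, a ∈ Δ := fun a ha => hl' a (by simp [ha])
      rw [← hte m]
      exact ih t.length (by simp at hlen; lia) (subW_le_weylGroup _ (wprod_mem_subW ht))
        (fun k hk => by rw [hte]; exact hgf k hk) m t ht rfl rfl

end Hom

end Groth.Agent.Roots36
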