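import Groth.Agent.Roots36.Dominant
import Groth.Agent.Roots36.Exists

set_option autoImplicit false
set_option linter.unusedSectionVars false
set_option linter.unusedSimpArgs false

open Set Function RootPairing
open scoped Classical

namespace Groth.Agent.Roots36

variable {ι M N : Type*} [AddCommGroup M] [AddCommGroup N] {P : RootPairing ι ℤ M N} [Fintype ι]
  {Δ : Set ι} (hΔ : RootD.IsSimpleSys P Δ)
include hΔ

lemma exists_smul_nonneg {Γ : Type*} [AddCommGroup Γ] [LinearOrder Γ] [IsOrderedAddMonoid Γ]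
    (f : M →+ Γ) : ∃ g ∈ P.weylGroup, ∀ i ∈ RootD.posOf P Δ, 0 ≤ f (g • P.root i) := by
  let T : Set ι := {i | 0 < f (P.root i) ∨ (f (P.root i) = 0 ∧ i ∈ RootD.posOf P Δ)}
  have hcl : RootD.IsClosedSub P T := by
    intro i j k hi hj h
    change _ ∨ _
    rw [h, map_add]
    rcases hi with hi | ⟨hi, hi'⟩ <;> rcases hj with hj | ⟨hj, hj'⟩
    · exact Or.inl (add_pos hi hj)
    · exact Or.inl (by rw [hj, add_zero]; exact hi)
    · exact Or.inl (by rw [hi, zero_add]; exact hj)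
    · exact Or.inr ⟨by rw [hi, hj, add_zero], isClosed_posOf hΔ hi' hj' h⟩
  have hcov : ∀ i, i ∈ T ∨ neg P i ∈ T := fun i => by
    simp only [T, Set.mem_ofPred_eq, root_neg, map_neg, neg_pos, neg_eq_zero]
    rcases lt_trichotomy (f (P.root i)) 0 with h | h | h
    · exact Or.inr (Or.inl h)
    · rcases posOf_or_neg hΔ i with h' | h'
      · exact Or.inl (Or.inr ⟨h, h'⟩)
      · exact Or.inr (Or.inr ⟨h, h'⟩)
    · exact Or.inl (Or.inl h)
  have hdis : ∀ i ∈ T, neg P i ∉ T := fun i hi hn => by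
    simp only [T, Set.mem_ofPred_eq, root_neg, map_neg, neg_pos, neg_eq_zero] at hi hn
    rcases hi with hi | ⟨hi, hi'⟩ <;> rcases hn with hn | ⟨hn, hn'⟩
    · exact lt_irrefl _ (hi.trans hn)
    · exact hi.ne' hn
    · exact hn.ne hi
    · exact (neg_posOf_iff hΔ).mp hn' hi'
  obtain ⟨g, hg, he⟩ := exists_smul_posOf_eq hΔ hcl hcov hdis
  refine ⟨g, hg, fun i hi => ?_⟩
  have : g • i ∈ T := by
    rw [← he, posOf_smul]; exact ⟨i, hi, rfl⟩
  rw [← root_smul]
  rcases this with h | ⟨h, _⟩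
  · exact h.le
  · exact h.ge

lemma exists_smul_dominant (m : M) :
    ∃ g ∈ P.weylGroup, ∀ i ∈ RootD.posOf P Δ, 0 ≤ P.coroot' i (g • m) := by
  obtain ⟨g, hg, h⟩ := exists_smul_nonneg hΔ (P.RootForm m).toAddMonoidHom
  refine ⟨g⁻¹, inv_mem hg, fun i hi => ?_⟩
  have h1 : 0 ≤ P.RootForm m (g • P.root i) := h i hi
  rw [← root_smul] at h1
  have h2 := rootForm_root_left (P := P) m (g • i)
  simp only [Int.cast_id] at h2
  have h4 := len_pos' (P := P) (g • i)
  have h5 : 0 ≤ P.coroot' (g • i) m := by nlinarith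
  conv at h5 => rw [← smul_inv_smul g m, coroot'_smul]
  exact h5

lemma exists_coeffs {Γ : Type*} [AddCommGroup Γ] [LinearOrder Γ] [IsOrderedAddMonoid Γ]
    {f : M →+ Γ} (hf : ∀ i ∈ RootD.posOf P Δ, 0 ≤ f (P.root i)) {g : P.Aut} (hg : g ∈ P.weylGroup) :
    ∃ c : ι → Γ, (∀ i, 0 ≤ c i) ∧ (∀ i, i ∉ Δ → c i = 0) ∧
      ∀ m : M, f m - f (g • m) = ∑ i, (P.coroot' i m) • c i := by
  obtain ⟨L, hL1, hL2, -⟩ := exists_telescope hΔ subset_rfl (g := g) (subW_simple_eq hΔ ▸ hg)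
  suffices H : ∀ L : List (ι × ι), (∀ p ∈ L, p.1 ∈ Δ ∧ p.2 ∈ RootD.posOf P Δ) →
      ∃ c : ι → Γ, (∀ i, 0 ≤ c i) ∧ (∀ i, i ∉ Δ → c i = 0) ∧ ∀ m : M,
        f (L.map fun p => P.coroot' p.1 m • P.root p.2).sum = ∑ i, (P.coroot' i m) • c i by
    obtain ⟨c, h1, h2, h3⟩ := H L hL1
    exact ⟨c, h1, h2, fun m => by rw [← map_sub, hL2 m, h3]⟩
  intro L hL
  induction L with
  | nil => exact ⟨0, fun _ => le_rfl, fun _ _ => rfl, by simp⟩
  | cons p L ih =>
    obtain ⟨c, h1, h2, h3⟩ := ih fun q hq => hL q (by simp [hq])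
    obtain ⟨hp1, hp2⟩ := hL p (by simp)
    refine ⟨c + Pi.single p.1 (f (P.root p.2)), fun i => ?_, fun i hi => ?_, fun m => ?_⟩
    · refine add_nonneg (h1 i) ?_
      rw [Pi.single_apply]; split
      · exact hf _ hp2
      · exact le_rfl
    · rw [Pi.add_apply, h2 i hi, Pi.single_eq_of_ne (fun e => hi (by rw [e]; exact hp1)), add_zero]
    · simp only [List.map_cons, List.sum_cons, map_add, map_zsmul, h3, Pi.add_apply, smul_add,
        Finset.sum_add_distrib, Pi.single_apply, smul_ite, smul_zero, Finset.sum_ite_eq',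
        Finset.mem_univ, if_true]
      abel

lemma nonneg_of_reflection {Γ : Type*} [AddCommGroup Γ] [LinearOrder Γ] [IsOrderedAddMonoid Γ]
    (f : M →+ Γ)
    (h : ∀ i ∈ RootD.posOf P Δ, ∀ m : M, (∀ j ∈ RootD.posOf P Δ, 0 ≤ P.coroot' j m) →
      f (RootPairing.Equiv.reflection P i • m) ≤ f m)
    (i : ι) (hi : i ∈ RootD.posOf P Δ) : 0 ≤ f (P.root i) := by
  obtain ⟨σ, hσ⟩ := exists_strict_dominant hΔ
  have hdom : ∀ j ∈ RootD.posOf P Δ, 0 ≤ P.coroot' j σ := fun j hj => by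
    obtain ⟨a, ha, he⟩ := hσ j hj
    rw [he]; simpa using ha.le
  have h1 := h i hi σ hdom
  obtain ⟨a, ha, he⟩ := hσ i hi
  rw [RootPairing.Equiv.reflection_smul, RootPairing.reflection_apply, map_sub, map_zsmul, he,
    Int.cast_id, sub_le_self_iff] at h1
  by_contra hn
  push Not at hn
  exact absurd h1 (not_le.mpr (smul_neg_of_pos_of_neg ha hn))

omit hΔ in
lemma coroot'_nonneg_of_simple {Δ : Set ι} (hΔ : RootD.IsSimpleSys P Δ) {m : M}
    (h : ∀ j ∈ Δ, 0 ≤ P.coroot' j m) {k : ι} (hk : k ∈ RootD.posOf P Δ) : 0 ≤ P.coroot' k m := by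
  have h1 := len_mul_coroot'_eq_sum hΔ k m
  simp only [Int.cast_id] at h1
  have h2 : 0 ≤ len P k * P.coroot' k m := by
    rw [h1]
    refine Finset.sum_nonneg fun j _ => ?_
    by_cases hj : j ∈ Δ
    · exact mul_nonneg ((posOf_iff hΔ).mp hk j) (mul_nonneg (len_pos' j).le (h j hj))
    · simp [coef_eq_zero hΔ hj]
  exact nonneg_of_mul_nonneg_right h2 (len_pos' k)

end Groth.Agent.Roots36
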