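import Groth.Agent.Roots36.Chamber

set_option autoImplicit false
set_option linter.unusedSectionVars false
set_option linter.unusedSimpArgs false

open Set Function RootPairing Module
open scoped Classical

namespace Groth.Agent.Roots36.Ch

universe u v w x

variable {ι : Type u} {R : Type v} {M : Type w} {N : Type x}
  [Field R] [LinearOrder R] [IsStrictOrderedRing R]
  [AddCommGroup M] [Module R M] [AddCommGroup N] [Module R N] [Fintype ι]
  {P : RootPairing ι R M N} [P.IsRootSystem]

lemma sgnVec_neg (ξ : M) (i : ι) : RootCh.sgnVec P ξ (neg P i) = -RootCh.sgnVec P ξ i := by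
  simp only [RootCh.sgnVec, coroot'_neg_index]
  exact Left.sign_neg _

lemma sgnVec_eq_zero_iff (ξ : M) (i : ι) :
    RootCh.sgnVec P ξ i = 0 ↔ P.coroot' i ξ = 0 := sign_eq_zero_iff

lemma sgnVec_ne_neg_one_iff (ξ : M) (i : ι) :
    RootCh.sgnVec P ξ i ≠ -1 ↔ 0 ≤ P.coroot' i ξ := by
  rw [RootCh.sgnVec, ne_eq, sign_eq_neg_one_iff, not_lt]

/-- A point of a facet. -/
noncomputable def rep (F : RootCh.Facet P) : M := F.exists_sgnVec_eq.choose

lemma sgnVec_rep (F : RootCh.Facet P) : RootCh.sgnVec P (rep F) = F.sgn :=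
  F.exists_sgnVec_eq.choose_spec

lemma rep_mem_carrier (F : RootCh.Facet P) : rep F ∈ F.carrier := sgnVec_rep F

lemma sgn_neg (F : RootCh.Facet P) (i : ι) : F.sgn (neg P i) = -F.sgn i := by
  rw [← sgnVec_rep F, sgnVec_neg]

lemma eq_of_mem_carrier {F G : RootCh.Facet P} {ξ : M} (hF : ξ ∈ F.carrier) (hG : ξ ∈ G.carrier) :
    F = G :=
  RootCh.Facet.ext ((show RootCh.sgnVec P ξ = F.sgn from hF).symm.trans hG)

variable [P.IsCrystallographic]

lemma sgnVec_posOf {b : P.Base} {ξ : M} (hξ : ξ ∈ RootCh.closedChamber b) {k : ι}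
    (hk : k ∈ RootD.posOf P (b.support : Set ι)) :
    (RootCh.sgnVec P ξ k = 0 ∨ RootCh.sgnVec P ξ k = 1) ∧
    (RootCh.sgnVec P ξ k = 0 ↔
      ∀ j, coef (base_isSimpleSys b) k j ≠ 0 → RootCh.sgnVec P ξ j = 0) := by
  obtain ⟨h1, h2⟩ := form_posOf_nonneg hξ hk
  simp only [sgnVec_eq_zero_iff]
  refine ⟨?_, h2⟩
  rcases h1.eq_or_lt with h | h
  · exact Or.inl h.symm
  · exact Or.inr (sign_pos h)

/-- Sign vectors in a closed chamber are determined by the simple coroots. -/
lemma sgnVec_eq_of_simple {b : P.Base} {ξ η : M} (hξ : ξ ∈ RootCh.closedChamber b)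
    (hη : η ∈ RootCh.closedChamber b)
    (h : ∀ i ∈ b.support, RootCh.sgnVec P ξ i = RootCh.sgnVec P η i) :
    RootCh.sgnVec P ξ = RootCh.sgnVec P η := by
  have key : ∀ k ∈ RootD.posOf P (b.support : Set ι),
      RootCh.sgnVec P ξ k = RootCh.sgnVec P η k := by
    intro k hk
    obtain ⟨h1, h1'⟩ := sgnVec_posOf hξ hk
    obtain ⟨h2, h2'⟩ := sgnVec_posOf hη hk
    have hiff : RootCh.sgnVec P ξ k = 0 ↔ RootCh.sgnVec P η k = 0 := by
      rw [h1', h2']
      refine forall₂_congr fun j hj => ?_
      have hjb : j ∈ b.support := by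
        by_contra hjb
        exact hj (coef_eq_zero _ (show j ∉ (b.support : Set ι) from hjb))
      rw [h j hjb]
    rcases h1 with h1 | h1 <;> rcases h2 with h2 | h2
    · rw [h1, h2]
    · rw [h1, hiff.mp h1]
    · rw [h2, hiff.mpr h2]
    · rw [h1, h2]
  funext k
  rcases posOf_or_neg (base_isSimpleSys b) k with hk | hk
  · exact key k hk
  · have := key _ hk
    rw [sgnVec_neg, sgnVec_neg] at this
    exact neg_injective this

lemma mem_cham_iff {F : RootCh.Facet P} {b : P.Base} :
    b ∈ F.cham ↔ rep F ∈ RootCh.closedChamber b := by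
  refine ⟨fun h => h (rep_mem_carrier F), fun h ξ hξ i hi => ?_⟩
  rw [← sgnVec_ne_neg_one_iff]
  rw [show RootCh.sgnVec P ξ = F.sgn from hξ, ← sgnVec_rep F, sgnVec_ne_neg_one_iff]
  exact h i hi

lemma cham_nonempty [P.IsReduced] (F : RootCh.Facet P) : F.cham.Nonempty :=
  let ⟨b, hb⟩ := exists_closedChamber (P := P) (rep F)
  ⟨b, mem_cham_iff.mpr hb⟩

section InCham

variable {F : RootCh.Facet P} {b : P.Base} (hb : b ∈ F.cham)
include hb

lemma sgn_posOf {k : ι} (hk : k ∈ RootD.posOf P (b.support : Set ι)) :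
    (F.sgn k = 0 ∨ F.sgn k = 1) ∧
    (F.sgn k = 0 ↔ ∀ j, coef (base_isSimpleSys b) k j ≠ 0 → F.sgn j = 0) := by
  rw [← sgnVec_rep F]; exact sgnVec_posOf (mem_cham_iff.mp hb) hk

lemma sgn_simple {i : ι} (hi : i ∈ b.support) : F.sgn i = 0 ∨ F.sgn i = 1 :=
  (sgn_posOf hb (simple_mem_posOf (base_isSimpleSys b) hi)).1

lemma mem_carrier_iff {ξ : M} :
    ξ ∈ F.carrier ↔ ∀ i ∈ b.support, RootCh.sgnVec P ξ i = F.sgn i := by
  refine ⟨fun h i _ => by rw [show RootCh.sgnVec P ξ = F.sgn from h], fun h => ?_⟩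
  have hξ : ξ ∈ RootCh.closedChamber b := fun i hi => by
    rw [← sgnVec_ne_neg_one_iff, h i hi]
    rcases sgn_simple hb hi with e | e <;> rw [e] <;> decide
  change RootCh.sgnVec P ξ = F.sgn
  rw [← sgnVec_rep F]
  exact sgnVec_eq_of_simple hξ (mem_cham_iff.mp hb) fun i hi => by rw [h i hi, sgnVec_rep]

lemma mem_closure_iff {ξ : M} :
    ξ ∈ F.closure ↔ ξ ∈ RootCh.closedChamber b ∧
      ∀ i ∈ b.support, F.sgn i = 0 → P.coroot' i ξ = 0 := by
  constructor
  · refine fun h => ⟨fun i hi => ?_, fun i hi h0 => ?_⟩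
    · rw [← sgnVec_ne_neg_one_iff]
      rcases h i with e | e
      · rw [e]; decide
      · rw [e]; rcases sgn_simple hb hi with e | e <;> rw [e] <;> decide
    · rw [← sgnVec_eq_zero_iff]
      rcases h i with e | e
      · exact e
      · rw [e, h0]
  · rintro ⟨hξ, hz⟩
    have key : ∀ k ∈ RootD.posOf P (b.support : Set ι),
        RootCh.sgnVec P ξ k = 0 ∨ RootCh.sgnVec P ξ k = F.sgn k := by
      intro k hk
      obtain ⟨h1, h1'⟩ := sgnVec_posOf hξ hk
      rcases h1 with h1 | h1
      · exact Or.inl h1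
      obtain ⟨h2, h2'⟩ := sgn_posOf hb hk
      rcases h2 with h2 | h2
      · refine absurd (h1'.mpr fun j hj => ?_) (by rw [h1]; decide)
        have hjb : j ∈ b.support := by
          by_contra hjb
          exact hj (coef_eq_zero _ (show j ∉ (b.support : Set ι) from hjb))
        exact (sgnVec_eq_zero_iff ξ j).mpr (hz j hjb (h2'.mp h2 j hj))
      · exact Or.inr (h1.trans h2.symm)
    intro k
    rcases posOf_or_neg (base_isSimpleSys b) k with hk | hk
    · exact key k hk
    · have := key _ hk
      rw [sgnVec_neg, sgn_neg] at this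
      rcases this with e | e
      · exact Or.inl (by simpa using e)
      · exact Or.inr (neg_injective e)

lemma corners_eq : F.corners = RootCh.fundWeight b '' {i | F.sgn i ≠ 0} := by
  ext m
  constructor
  · rintro ⟨⟨b', j, rfl⟩, h⟩
    obtain ⟨h1, h2⟩ := (mem_closure_iff hb).mp h
    obtain ⟨i, hi, -⟩ := fundWeight_eq_of_mem j h1
    refine ⟨i, fun h0 => ?_, hi⟩
    have := h2 i i.2 h0
    rw [← hi, RootCh.coroot'_fundWeight_self] at this
    exact one_ne_zero this
  · rintro ⟨i, hi, rfl⟩
    refine ⟨⟨b, i, rfl⟩, (mem_closure_iff hb).mpr ⟨fundWeight_mem_closedChamber b i, ?_⟩⟩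
    intro l hl h0
    rw [coroot'_fundWeight b i ⟨l, hl⟩, if_neg]
    intro e
    simp only at e
    exact hi (e ▸ h0)

lemma corners_subset_baseCorners : F.corners ⊆ RootCh.baseCorners b := by
  rw [corners_eq hb, baseCorners_eq]
  exact Set.image_subset_range _ _

lemma mem_span_corners_iff {ξ : M} :
    ξ ∈ Submodule.span R F.corners ↔ ∀ i ∈ b.support, F.sgn i = 0 → P.coroot' i ξ = 0 := by
  constructor
  · intro h i hi h0
    induction h using Submodule.span_induction with
    | mem y hy => exact ((mem_closure_iff hb).mp hy.2).2 i hi h0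
    | zero => exact map_zero _
    | add y z _ _ hy hz => rw [map_add, hy, hz, add_zero]
    | smul a y _ hy => rw [map_smul, hy, smul_zero]
  · intro h
    rw [eq_sum_fundWeight b ξ]
    refine Submodule.sum_mem _ fun i _ => ?_
    by_cases hi : F.sgn i = 0
    · rw [h i i.2 hi, zero_smul]; exact zero_mem _
    · refine Submodule.smul_mem _ _ (Submodule.subset_span ?_)
      rw [corners_eq hb]
      exact ⟨i, hi, rfl⟩

end InCham

lemma carrier_subset_span_corners [P.IsReduced] (F : RootCh.Facet P) :
    F.carrier ⊆ Submodule.span R F.corners := by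
  obtain ⟨b, hb⟩ := cham_nonempty F
  intro ξ hξ
  refine (mem_span_corners_iff hb).mpr fun i hi h0 => ?_
  rw [← sgnVec_eq_zero_iff, show RootCh.sgnVec P ξ = F.sgn from hξ, h0]

/-- The facet of a set of corners of a chamber. -/
noncomputable def facetOf (b : P.Base) (J : Set b.support) : RootCh.Facet P :=
  RootCh.Facet.ofVec P (∑ i : b.support, (if i ∈ J then (1 : R) else 0) • RootCh.fundWeight b i)

lemma facetOf_sgn (b : P.Base) (J : Set b.support) (i : b.support) :
    (facetOf b J).sgn i = if i ∈ J then 1 else 0 := by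
  simp only [facetOf, RootCh.Facet.ofVec, RootCh.sgnVec, coroot'_sum_fundWeight]
  split <;> simp

lemma facetOf_mem_cham (b : P.Base) (J : Set b.support) : b ∈ (facetOf b J).cham := fun ξ hξ i hi => by
  rw [← sgnVec_ne_neg_one_iff, show RootCh.sgnVec P ξ = (facetOf b J).sgn from hξ,
    facetOf_sgn b J ⟨i, hi⟩]
  split <;> decide

lemma facetOf_corners (b : P.Base) (J : Set b.support) :
    (facetOf b J).corners = RootCh.fundWeight b '' J := by
  rw [corners_eq (facetOf_mem_cham b J)]
  congr 1
  ext i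
  simp [facetOf_sgn]

lemma corners_injective [P.IsReduced] {F G : RootCh.Facet P} (h : F.corners = G.corners) :
    F = G := by
  have main : ∀ {F G : RootCh.Facet P}, F.corners = G.corners → ∀ {b}, b ∈ G.cham →
      (∀ i ∈ b.support, G.sgn i = 0 → P.coroot' i (rep F) = 0) := by
    intro F G h b hb i hi h0
    exact (mem_span_corners_iff hb).mp (h ▸ carrier_subset_span_corners F (rep_mem_carrier F)) i hi h0
  obtain ⟨b, hb⟩ := cham_nonempty F
  obtain ⟨c, hc⟩ := cham_nonempty G
  have hG : rep G ∈ RootCh.closedChamber b := by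
    intro i hi
    have hmem := carrier_subset_span_corners G (rep_mem_carrier G)
    rw [← h] at hmem
    have hcl : rep G ∈ G.closure := fun j => Or.inr (by rw [sgnVec_rep])
    rw [eq_sum_fundWeight c (rep G), map_sum]
    refine Finset.sum_nonneg fun j _ => ?_
    rw [map_smul, smul_eq_mul]
    rcases eq_or_ne (G.sgn j) 0 with h0 | h0
    · rw [← sgnVec_rep G, sgnVec_eq_zero_iff] at h0
      rw [h0, zero_mul]
    · refine mul_nonneg (mem_cham_iff.mp hc j j.2) ?_
      have hj : RootCh.fundWeight c j ∈ G.corners := by rw [corners_eq hc]; exact ⟨j, h0, rfl⟩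
      exact (corners_subset_baseCorners hb (h ▸ hj)).2 i hi
  have hGb : b ∈ G.cham := mem_cham_iff.mpr hG
  refine eq_of_mem_carrier (ξ := rep G) ?_ (rep_mem_carrier G)
  refine (mem_carrier_iff hb).mpr fun i hi => ?_
  rw [sgnVec_rep]
  have h1 := sgn_simple hb hi
  have h2 := sgn_simple hGb hi
  have h3 : G.sgn i = 0 → F.sgn i = 0 := fun h0 => by
    rw [← sgnVec_rep F, sgnVec_eq_zero_iff]; exact main h hGb i hi h0
  have h4 : F.sgn i = 0 → G.sgn i = 0 := fun h0 => by
    rw [← sgnVec_rep G, sgnVec_eq_zero_iff]; exact main h.symm hb i hi h0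
  rcases h1 with h1 | h1 <;> rcases h2 with h2 | h2
  · rw [h1, h2]
  · rw [h1, h4 h1]
  · rw [h2, h3 h2]
  · rw [h1, h2]

section Comb

lemma carrier_eq_comb [P.IsReduced] (F : RootCh.Facet P) :
    F.carrier = {ξ : M | ∃ c : M →₀ R, (c.support : Set M) ⊆ F.corners ∧
      (∀ m ∈ F.corners, 0 < c m) ∧ c.sum (fun m r => r • m) = ξ} := by
  obtain ⟨b, hb⟩ := cham_nonempty F
  have hc := corners_eq hb
  let Jf : Finset b.support := Finset.univ.filter fun i => F.sgn i ≠ 0
  ext ξ
  constructor
  · intro hξ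
    have hs := (mem_carrier_iff hb).mp hξ
    refine ⟨∑ i ∈ Jf, Finsupp.single (RootCh.fundWeight b i) (P.coroot' i ξ), ?_, ?_, ?_⟩
    · intro m hm
      obtain ⟨i, hi, him⟩ := Finset.mem_biUnion.mp (Finsupp.support_finsetSum hm)
      rw [hc]
      exact ⟨i, (Finset.mem_filter.mp hi).2,
        (Finset.mem_singleton.mp (Finsupp.support_single_subset him)).symm⟩
    · intro m hm
      rw [hc] at hm
      obtain ⟨i, hi, rfl⟩ := hm
      rw [Finsupp.finsetSum_apply, Finset.sum_eq_single i]
      · rw [Finsupp.single_eq_same]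
        have h1 := (sgn_simple hb i.2).resolve_left hi
        rw [← hs i i.2, RootCh.sgnVec, sign_eq_one_iff] at h1
        exact h1
      · intro j _ hj
        exact Finsupp.single_eq_of_ne fun e => hj (fundWeight_injective b e).symm
      · intro h; exact absurd (Finset.mem_filter.mpr ⟨Finset.mem_univ _, hi⟩) h
    · rw [← Finsupp.sum_finsetSum_index (by simp) (fun _ _ _ => add_smul _ _ _)]
      conv_rhs => rw [eq_sum_fundWeight b ξ]
      rw [← Finset.sum_filter_add_sum_filter_not Finset.univ (fun i : b.support => F.sgn i ≠ 0)]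
      rw [Finset.sum_eq_zero (s := Finset.univ.filter fun i : b.support => ¬F.sgn i ≠ 0)]
      · rw [add_zero]
        exact Finset.sum_congr rfl fun i _ => Finsupp.sum_single_index (zero_smul R _)
      · intro i hi
        have h0 : F.sgn i = 0 := not_not.mp (Finset.mem_filter.mp hi).2
        rw [← hs i i.2, sgnVec_eq_zero_iff] at h0
        rw [h0, zero_smul]
  · rintro ⟨c, hcs, hcp, rfl⟩
    refine (mem_carrier_iff hb).mpr fun i hi => ?_
    have hsum : c.sum (fun m r => r • m) =
        ∑ i : b.support, c (RootCh.fundWeight b i) • RootCh.fundWeight b i := by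
      rw [Finsupp.sum_of_support_subset c
        (s := Finset.univ.image (RootCh.fundWeight b)) ?_ (fun m r => r • m) (fun _ _ => zero_smul R _)]
      · rw [Finset.sum_image fun _ _ _ _ e => fundWeight_injective b e]
      · intro m hm
        have := hcs hm
        rw [hc] at this
        obtain ⟨j, -, rfl⟩ := this
        exact Finset.mem_image_of_mem _ (Finset.mem_univ j)
    rw [hsum, RootCh.sgnVec, coroot'_sum_fundWeight b _ ⟨i, hi⟩]
    by_cases h0 : F.sgn i = 0
    · have : c (RootCh.fundWeight b ⟨i, hi⟩) = 0 := by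
        by_contra hne
        have := hcs (Finsupp.mem_support_iff.mpr hne)
        rw [hc] at this
        obtain ⟨j, hj, he⟩ := this
        obtain rfl := fundWeight_injective b he
        exact hj h0
      rw [this, sign_zero, h0]
    · rw [(sgn_simple hb hi).resolve_left h0, sign_pos]
      exact hcp _ (by rw [hc]; exact ⟨⟨i, hi⟩, h0, rfl⟩)

lemma span_carrier_eq [P.IsReduced] (F : RootCh.Facet P) :
    Submodule.span R F.carrier = Submodule.span R F.corners := by
  refine le_antisymm (Submodule.span_le.mpr (carrier_subset_span_corners F))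
    (Submodule.span_le.mpr fun m hm => ?_)
  obtain ⟨b, hb⟩ := cham_nonempty F
  have hmem : rep F + m ∈ F.carrier := by
    refine (mem_carrier_iff hb).mpr fun i hi => ?_
    rw [← sgnVec_rep F]
    rw [corners_eq hb] at hm
    obtain ⟨j, hj, rfl⟩ := hm
    simp only [RootCh.sgnVec, map_add, coroot'_fundWeight b j ⟨i, hi⟩]
    by_cases e : i = (j : ι)
    · rw [if_pos e]
      have h1 : F.sgn i = 1 := (sgn_simple hb hi).resolve_left (e ▸ hj)
      rw [← sgnVec_rep F, RootCh.sgnVec, sign_eq_one_iff] at h1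
      rw [sign_pos h1, sign_pos (by linarith)]
    · rw [if_neg e, add_zero]
  have h2 := sub_mem (Submodule.subset_span (R := R) hmem) (Submodule.subset_span (R := R)
    (rep_mem_carrier F))
  simpa using h2

end Comb

section Dual

lemma root'_polarization (ξ : M) (i : ι) :
    P.root' i (P.Polarization ξ) = P.RootForm ξ (P.root i) :=
  toLinearMap_apply_apply_Polarization P ξ (P.root i)

lemma cosgnVec_polarization (ξ : M) :
    RootCh.cosgnVec P (P.Polarization ξ) = RootCh.sgnVec P ξ := by
  funext i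
  rw [RootCh.cosgnVec, root'_polarization, sign_form_root]

lemma exists_polarization_eq (b : P.Base) (y : N) : ∃ ξ : M, P.Polarization ξ = y := by
  refine ⟨∑ i : b.support, P.root' i y • (2 / P.RootForm (P.root i) (P.root i)) •
    RootCh.fundWeight b i, ?_⟩
  rw [map_sum]
  conv_rhs => rw [eq_sum_fundCoweight b y]
  refine Finset.sum_congr rfl fun i _ => ?_
  rw [map_smul, map_smul, fundCoweight_eq]

lemma fundCoweight_mem_dualClosure_iff (F : RootCh.Facet P) (b : P.Base) (i : b.support) :
    RootCh.fundCoweight b i ∈ F.dualClosure ↔ RootCh.fundWeight b i ∈ F.closure := by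
  have hp : 0 < 2 / P.RootForm (P.root i) (P.root i) := div_pos two_pos (len_pos (P := P) _)
  have key : RootCh.cosgnVec P (RootCh.fundCoweight b i) =
      RootCh.sgnVec P (RootCh.fundWeight b i) := by
    rw [fundCoweight_eq, ← map_smul, cosgnVec_polarization]
    funext k
    simp only [RootCh.sgnVec, map_smul, smul_eq_mul, sign_mul, sign_pos hp, one_mul]
  simp only [RootCh.Facet.dualClosure, RootCh.Facet.closure, Set.mem_ofPred_eq, key]

lemma mem_fundCoweights_iff (y : N) :
    y ∈ RootCh.fundCoweights P ↔ ∃ (b : P.Base) (i : b.support), RootCh.fundCoweight b i = y := by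
  constructor
  · rintro ⟨b, i, rfl⟩
    exact ⟨RootPairing.Base.flip b, i, rfl⟩
  · rintro ⟨b, i, rfl⟩
    exact ⟨b.flip, i, rfl⟩

end Dual

section Parab

lemma mem_parab_iff_form {F : RootCh.Facet P} {i : ι} :
    i ∈ F.parab ↔ 0 ≤ P.RootForm (rep F) (P.root i) := by
  change F.sgn i ≠ -1 ↔ _
  rw [← sgnVec_rep F, ← sign_form_root, ne_eq, sign_eq_neg_one_iff, not_lt]

lemma isParabolicSubset_parab (F : RootCh.Facet P) : RootCh.IsParabolicSubset P F.parab := by
  refine ⟨fun i j k hi hj h => ?_, fun i => ?_⟩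
  · rw [mem_parab_iff_form] at hi hj ⊢
    rw [h, map_add]; exact add_nonneg hi hj
  · rw [mem_parab_iff_form, mem_parab_iff_form]
    change _ ∨ 0 ≤ P.RootForm (rep F) (P.root (neg P i))
    rw [root_neg, map_neg]
    rcases le_total 0 (P.RootForm (rep F) (P.root i)) with h | h
    · exact Or.inl h
    · exact Or.inr (by linarith)

lemma mem_parab_iff {F : RootCh.Facet P} {b : P.Base} (hb : b ∈ F.cham) {k : ι} :
    k ∈ F.parab ↔ k ∈ RootD.posOf P (b.support : Set ι) ∨
      ∀ j, coef (base_isSimpleSys b) k j ≠ 0 → F.sgn j = 0 := by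
  change F.sgn k ≠ -1 ↔ _
  rcases posOf_or_neg (base_isSimpleSys b) k with hk | hk
  · refine iff_of_true ?_ (Or.inl hk)
    rcases (sgn_posOf hb hk).1 with e | e <;> rw [e] <;> decide
  · obtain ⟨h1, h2⟩ := sgn_posOf hb hk
    rw [sgn_neg] at h1 h2
    simp only [coef_neg, Pi.neg_apply, ne_eq, neg_eq_zero] at h2
    rw [or_iff_right ((neg_posOf_iff (base_isSimpleSys b)).mp hk)]
    constructor
    · intro h
      refine h2.mp ?_
      rcases h1 with e | e
      · exact e
      · exact absurd (by rw [← neg_neg (F.sgn k), e]) h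
    · intro h
      have h0 := h2.mpr h
      revert h0; cases F.sgn k <;> decide

lemma le_iff_parab_subset (F G : RootCh.Facet P) : F ≤ G ↔ F.parab ⊆ G.parab := by
  rw [RootCh.Facet.le_def]
  constructor
  · intro h i hi
    rcases h i with e | e
    · change G.sgn i ≠ -1; rw [e]; decide
    · change G.sgn i ≠ -1; rw [e]; exact hi
  · intro h i
    by_contra hc
    push Not at hc
    obtain ⟨h0, h1⟩ := hc
    rcases SignType.trichotomy (G.sgn i) with e | e | e
    · rcases SignType.trichotomy (F.sgn i) with f | f | f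
      · exact h1 (e.trans f.symm)
      · exact h (show i ∈ F.parab by change F.sgn i ≠ -1; rw [f]; decide) e
      · exact h (show i ∈ F.parab by change F.sgn i ≠ -1; rw [f]; decide) e
    · exact h0 e
    · have hni : G.sgn (neg P i) = -1 := by rw [sgn_neg, e]
      rcases SignType.trichotomy (F.sgn i) with f | f | f
      · exact h (show neg P i ∈ F.parab by change F.sgn _ ≠ -1; rw [sgn_neg, f]; decide) hni
      · exact h (show neg P i ∈ F.parab by change F.sgn _ ≠ -1; rw [sgn_neg, f]; decide) hni
      · exact h1 (e.trans f.symm)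

lemma parab_injective {F G : RootCh.Facet P} (h : F.parab = G.parab) : F = G :=
  le_antisymm ((le_iff_parab_subset F G).mpr h.le) ((le_iff_parab_subset G F).mpr h.ge)

lemma exists_parab_eq [P.IsReduced] {S : Set ι} (hS : RootCh.IsParabolicSubset P S) :
    ∃ F : RootCh.Facet P, F.parab = S := by
  have hcl : RootD.IsClosedSub P S := fun i j k => hS.1 i j k
  obtain ⟨Δ, hΔ, hsub⟩ := exists_simple_of_closed_cover P hcl hS.2
  let b := baseOfSimple hΔ
  have hsupp : (b.support : Set ι) = Δ := support_baseOfSimple hΔ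
  rw [← hsupp] at hsub
  let J : Set b.support := {i | neg P i ∉ S}
  refine ⟨facetOf b J, ?_⟩
  have hsgn : ∀ i ∈ b.support, (facetOf b J).sgn i = 0 ↔ neg P i ∈ S := fun i hi => by
    rw [facetOf_sgn b J ⟨i, hi⟩]
    by_cases h : neg P i ∈ S
    · simp [J, h]
    · simp [J, h]
  have hb := base_isSimpleSys b
  have hsimp : ∀ {j : ι} {k : ι}, coef hb k j ≠ 0 → j ∈ b.support := fun {j k} hj => by
    by_contra hjb
    exact hj (coef_eq_zero _ (show j ∉ (b.support : Set ι) from hjb))
  have key : ∀ l ∈ RootD.posOf P (b.support : Set ι),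
      (∀ j, coef hb l j ≠ 0 → (facetOf b J).sgn j = 0) ↔ neg P l ∈ S := by
    intro l hl
    refine posOf_induction hb (p := fun l => ((∀ j, coef hb l j ≠ 0 →
      (facetOf b J).sgn j = 0) ↔ neg P l ∈ S)) ?_ ?_ hl
    · intro i hi
      rw [coef_simple hb hi]
      refine ⟨fun h => (hsgn i hi).mp (h i (by simp)), fun h j hj => ?_⟩
      obtain rfl : j = i := by by_contra hne; exact hj (Pi.single_eq_of_ne hne 1)
      exact (hsgn j hi).mpr h
    · intro m hm i hi k hk he ih
      have hce := coef_add hb he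
      have hnn := (posOf_iff hb).mp hm
      have hroot : P.root (neg P k) = P.root (neg P m) + P.root (neg P i) := by
        rw [root_neg, root_neg, root_neg, he]; abel
      constructor
      · intro h
        refine hcl (ih.mp fun j hj => h j ?_) ((hsgn i hi).mp (h i ?_)) hroot
        · rw [hce, Pi.add_apply, coef_simple hb hi, Pi.single_apply]
          have := hnn j; split <;> lia
        · rw [hce, Pi.add_apply, coef_simple hb hi, Pi.single_eq_same]
          have := hnn i; lia
      · intro h
        have hi' : neg P i ∈ S :=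
          hcl (hsub hm) h (by rw [root_neg, root_neg, he]; abel)
        have hm' : neg P m ∈ S :=
          hcl (hsub (simple_mem_posOf hb hi)) h (by rw [root_neg, root_neg, he]; abel)
        intro j hj
        rw [hce, Pi.add_apply, coef_simple hb hi, Pi.single_apply] at hj
        by_cases hji : j = i
        · rw [hji]; exact (hsgn i hi).mpr hi'
        · rw [if_neg hji, add_zero] at hj
          exact ih.mpr hm' j hj
  ext k
  rw [mem_parab_iff (facetOf_mem_cham b J)]
  rcases posOf_or_neg hb k with hk | hk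
  · exact iff_of_true (Or.inl hk) (hsub hk)
  · rw [or_iff_right ((neg_posOf_iff hb).mp hk)]
    have h1 := key _ hk
    simp only [coef_neg, Pi.neg_apply, ne_eq, neg_eq_zero] at h1
    rw [show neg P (neg P k) = k from P.root.injective (by rw [root_neg, root_neg, neg_neg])] at h1
    exact h1

lemma corr_nonneg_iff [P.IsReduced] (F : RootCh.Facet P) {m : M} (hm : m ∈ RootCh.fundWeights P) :
    (∀ y : N, RootCh.Corr P m y → ∀ i ∈ F.parab, 0 ≤ P.root' i y) ↔ m ∈ F.closure := by
  obtain ⟨b, i₀, rfl⟩ := hm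
  have hp : 0 < 2 / P.RootForm (P.root i₀) (P.root i₀) := div_pos two_pos (len_pos (P := P) _)
  have hval : ∀ i, P.root' i (RootCh.fundCoweight b i₀) =
      2 / P.RootForm (P.root i₀) (P.root i₀) *
        ((P.RootForm (P.root i) (P.root i) / 2) * P.coroot' i (RootCh.fundWeight b i₀)) := by
    intro i
    rw [fundCoweight_eq, map_smul, root'_polarization, smul_eq_mul]
    congr 1
    have := form_root (P := P) (RootCh.fundWeight b i₀) i
    linarith
  have hsig : ∀ i, 0 ≤ P.root' i (RootCh.fundCoweight b i₀) ↔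
      0 ≤ P.coroot' i (RootCh.fundWeight b i₀) := fun i => by
    rw [hval, mul_nonneg_iff_of_pos_left hp,
      mul_nonneg_iff_of_pos_left (half_pos (len_pos (P := P) i))]
  simp only [corr_iff, forall_eq, hsig]
  constructor
  · intro h k
    rcases SignType.trichotomy (F.sgn k) with e | e | e
    · have := h (neg P k) (by change F.sgn _ ≠ -1; rw [sgn_neg, e]; decide)
      rw [coroot'_neg_index, neg_nonneg] at this
      rcases this.eq_or_lt with hv | hv
      · exact Or.inl ((sgnVec_eq_zero_iff _ _).mpr hv)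
      · exact Or.inr (by rw [e]; exact sign_neg hv)
    · left
      have h1 := h k (by change F.sgn _ ≠ -1; rw [e]; decide)
      have h2 := h (neg P k) (by change F.sgn _ ≠ -1; rw [sgn_neg, e]; decide)
      rw [coroot'_neg_index, neg_nonneg] at h2
      exact (sgnVec_eq_zero_iff _ _).mpr (le_antisymm h2 h1)
    · have h1 := h k (by change F.sgn _ ≠ -1; rw [e]; decide)
      rcases h1.eq_or_lt with hv | hv
      · exact Or.inl ((sgnVec_eq_zero_iff _ _).mpr hv.symm)
      · exact Or.inr (by rw [e]; exact sign_pos hv)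
  · intro h i hi
    rw [← sgnVec_ne_neg_one_iff]
    rcases h i with e | e <;> rw [e]
    · decide
    · exact hi

lemma corners_eq_parab [P.IsReduced] (F : RootCh.Facet P) :
    F.corners = {m : M | m ∈ RootCh.fundWeights P ∧
      ∀ y : N, RootCh.Corr P m y → ∀ i ∈ F.parab, 0 ≤ P.root' i y} := by
  ext m
  exact ⟨fun h => ⟨h.1, (corr_nonneg_iff F h.1).mpr h.2⟩,
    fun h => ⟨h.1, (corr_nonneg_iff F h.1).mp h.2⟩⟩

end Parab

end Groth.Agent.Roots36.Ch
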