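import Groth.Agent.Roots36.Combi
import Groth.Agent.Roots36.PosSys

set_option autoImplicit false
set_option linter.unusedSectionVars false
set_option linter.unusedSimpArgs false

open Set Function RootPairing
open scoped Classical

namespace Groth.Agent.Roots36

variable {ι R M N : Type*} [CommRing R] [AddCommGroup M] [Module R M] [AddCommGroup N] [Module R N]
  {P : RootPairing ι R M N} [CharZero R] [IsDomain R] [P.IsCrystallographic] [Fintype ι]

lemma pairingIn_mul_lt_four {Δ : Set ι} (hΔ : RootD.IsSimpleSys P Δ) {i j : ι} (hi : i ∈ Δ)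
    (hj : j ∈ Δ) (hij : i ≠ j) : P.pairingIn ℤ i j * P.pairingIn ℤ j i < 4 := by
  have := isTorsionFree_M P
  have := isTorsionFree_N P
  have hli : LinearIndependent R ![P.root i, P.root j] := by
    rw [LinearIndependent.pair_iff]
    intro s t h
    exact (LinearIndepOn.pair_iff _ hij).mp (hΔ.linInd.mono (Set.pair_subset hi hj)) s t h
  have h4 : P.pairingIn ℤ i j * P.pairingIn ℤ j i ≠ 4 := fun h =>
    (P.coxeterWeightIn_eq_four_iff_not_linearIndependent ℤ).mp h hli
  have hmem := P.coxeterWeightIn_mem_set_of_isCrystallographic i j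
  simp only [RootPairing.coxeterWeightIn, Set.mem_insert_iff, Set.mem_singleton_iff] at hmem
  lia

lemma simple_pairingIn_nonpos {Δ : Set ι} (hΔ : RootD.IsSimpleSys P Δ) {i j : ι} (hi : i ∈ Δ)
    (hj : j ∈ Δ) (hij : i ≠ j) : P.pairingIn ℤ i j ≤ 0 := by
  by_contra h
  push Not at h
  obtain ⟨k, hk⟩ := sub_root_mem h hij
  have hc : coef hΔ k = Pi.single i 1 - Pi.single j 1 := by
    refine coef_eq hΔ (fun x hx => ?_) ?_
    · simp [show x ≠ i from fun e => hx (e ▸ hi), show x ≠ j from fun e => hx (e ▸ hj)]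
    · rw [comb_sub, comb_single, comb_single, one_smul, one_smul, hk]
  rcases coef_sign hΔ k with hs | hs
  · have := hs j; rw [hc] at this; simp [hij.symm] at this
  · have := hs i; rw [hc] at this; simp [hij] at this

/-- Among simple roots some minimal one has at most one neighbour. -/
lemma exists_min_leaf {Δ : Set ι} (hΔ : RootD.IsSimpleSys P Δ) (s : Finset ι) (hs : ∀ i ∈ s, i ∈ Δ)
    (hne : s.Nonempty) :
    ∃ a ∈ s, (∀ b ∈ s, len P a ≤ len P b) ∧
      ((s.erase a).filter fun b => P.pairingIn ℤ a b ≠ 0).card ≤ 1 := by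
  obtain ⟨a₀, ha₀, hmin⟩ := Finset.exists_min_image s (len P) hne
  set m := len P a₀
  by_contra hcon
  push Not at hcon
  let A := s.filter fun a => len P a = m
  let B := s.filter fun b => len P b ≠ m ∧ ∃ a ∈ A, P.pairingIn ℤ a b ≠ 0
  have hA : ∀ a ∈ A, a ∈ s ∧ len P a = m := fun a ha => Finset.mem_filter.mp ha
  have hB : ∀ b ∈ B, b ∈ s ∧ len P b ≠ m ∧ ∃ a ∈ A, P.pairingIn ℤ a b ≠ 0 := fun b hb =>
    ⟨(Finset.mem_filter.mp hb).1, (Finset.mem_filter.mp hb).2⟩
  have hdisj : Disjoint A B := Finset.disjoint_left.mpr fun x hx hx' => (hB x hx').2.1 (hA x hx).2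
  have hnp : ∀ i ∈ s, ∀ j ∈ s, i ≠ j → P.pairingIn ℤ i j ≤ 0 := fun i hi j hj h =>
    simple_pairingIn_nonpos hΔ (hs i hi) (hs j hj) h
  have hbz : ∀ i ∈ s, ∀ j ∈ s, i ≠ j → bz P i j ≤ 0 := fun i hi j hj h => by
    have h1 := two_mul_bz (P := P) i j
    have h2 := mul_nonpos_of_nonneg_of_nonpos (len_pos' (P := P) j).le (hnp i hi j hj h)
    lia
  let c : ι → ℤ := fun i => if i ∈ A then 2 else if i ∈ B then 1 else 0
  have hc : ∀ i ∉ Δ, c i = 0 := fun i hi => by
    simp [c, show i ∉ A from fun h => hi (hs i (hA i h).1), show i ∉ B from fun h => hi (hs i (hB i h).1)]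
  have ha₀A : a₀ ∈ A := Finset.mem_filter.mpr ⟨ha₀, rfl⟩
  have hcne : c ≠ 0 := fun h => by
    have := congrFun h a₀
    simp [c, ha₀A] at this
  have hq := quad_pos hΔ hc hcne
  have hsplit : ∀ F : ι → ℤ, ∑ i, c i * F i = 2 * ∑ a ∈ A, F a + ∑ b ∈ B, F b := fun F => by
    rw [Finset.mul_sum, ← Finset.sum_subset (Finset.subset_univ (A ∪ B)) (fun i _ hi => by
      simp only [Finset.mem_union, not_or] at hi
      simp [c, hi.1, hi.2]), Finset.sum_union hdisj]
    congr 1
    · exact Finset.sum_congr rfl fun a ha => by simp [c, ha]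
    · exact Finset.sum_congr rfl fun b hb => by
        simp [c, hb, Finset.disjoint_right.mp hdisj hb]
  have e : ∑ a, ∑ b, c a * c b * bz P a b =
      4 * (∑ a ∈ A, ∑ a' ∈ A, bz P a a') + 4 * (∑ a ∈ A, ∑ b ∈ B, bz P a b) +
        ∑ b ∈ B, ∑ b' ∈ B, bz P b b' := by
    simp only [mul_assoc, ← Finset.mul_sum]
    rw [hsplit]
    simp only [hsplit, Finset.sum_add_distrib, ← Finset.mul_sum]
    rw [Finset.sum_comm (s := B) (t := A), Finset.sum_congr rfl (fun a _ =>
      Finset.sum_congr rfl fun b _ => bz_comm b a)]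
    ring
  have hBB : ∑ b ∈ B, ∑ b' ∈ B, bz P b b' ≤ -2 * ∑ a ∈ A, ∑ b ∈ B, bz P a b := by
    rw [Finset.sum_comm (s := A) (t := B), Finset.mul_sum]
    refine Finset.sum_le_sum fun b hb => ?_
    obtain ⟨hbs, hbm, a, ha, hab⟩ := hB b hb
    have h1 : ∑ b' ∈ B, bz P b b' ≤ len P b := by
      rw [← Finset.add_sum_erase _ _ hb]
      change len P b + _ ≤ _
      have : ∑ b' ∈ B.erase b, bz P b b' ≤ 0 := Finset.sum_nonpos fun b' hb' => by
        rw [Finset.mem_erase] at hb'
        exact hbz b hbs b' (hB b' hb'.2).1 (Ne.symm hb'.1)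
      lia
    have hne' : a ≠ b := fun h => hbm (h ▸ (hA a ha).2)
    have h2 : ∑ a' ∈ A, bz P a' b ≤ bz P a b := by
      rw [← Finset.add_sum_erase _ _ ha]
      have : ∑ a' ∈ A.erase a, bz P a' b ≤ 0 := Finset.sum_nonpos fun a' ha' => by
        rw [Finset.mem_erase] at ha'
        exact hbz a' (hA a' ha'.2).1 b hbs (fun h => hbm (h ▸ (hA a' ha'.2).2))
      lia
    have h3 := two_mul_bz (P := P) a b
    have h4 := hnp a (hA a ha).1 b hbs hne'
    have h5 := len_pos' (P := P) b
    nlinarith [show P.pairingIn ℤ a b ≤ -1 by lia]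
  have hper : ∀ a ∈ A, 4 * ∑ a' ∈ A, bz P a a' + 2 * ∑ b ∈ B, bz P a b ≤ 0 := by
    intro a ha
    obtain ⟨has, ham⟩ := hA a ha
    have hdeg := hcon a has fun b hb => ham.le.trans (hmin b hb)
    set T := (s.erase a).filter fun b => P.pairingIn ℤ a b ≠ 0
    have hT : T ⊆ (A.erase a) ∪ B := fun x hx => by
      simp only [T, Finset.mem_filter, Finset.mem_erase] at hx
      by_cases hxm : len P x = m
      · exact Finset.mem_union_left _ (Finset.mem_erase.mpr ⟨hx.1.1, Finset.mem_filter.mpr ⟨hx.1.2, hxm⟩⟩)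
      · exact Finset.mem_union_right _ (Finset.mem_filter.mpr ⟨hx.1.2, hxm, a, ha, hx.2⟩)
    have hT1 : ∀ x ∈ T ∩ A.erase a, 2 * bz P a x ≤ -m := fun x hx => by
      simp only [T, Finset.mem_inter, Finset.mem_filter, Finset.mem_erase] at hx
      obtain ⟨⟨⟨hxa, hxs⟩, hxp⟩, -, hxA⟩ := hx
      have h1 := two_mul_bz (P := P) a x
      have h2 := hnp a has x hxs (Ne.symm hxa)
      rw [(hA x hxA).2] at h1
      nlinarith [len_pos' (P := P) a, show P.pairingIn ℤ a x ≤ -1 by lia]
    have hT2 : ∀ x ∈ T ∩ B, bz P a x ≤ -m := fun x hx => by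
      simp only [T, Finset.mem_inter, Finset.mem_filter, Finset.mem_erase] at hx
      obtain ⟨⟨⟨hxa, hxs⟩, hxp⟩, hxB⟩ := hx
      have h1 := two_mul_bz (P := P) a x
      have h1' := two_mul_bz (P := P) x a
      rw [bz_comm, ham] at h1'
      have h2 := hnp a has x hxs (Ne.symm hxa)
      have h3 := hnp x hxs a has hxa
      have h4 := hmin x hxs
      have h5 : m < len P x := lt_of_le_of_ne h4 (Ne.symm (hB x hxB).2.1)
      have h6 : P.pairingIn ℤ x a ≤ -2 := by
        by_contra h
        have hm : 0 < m := ham ▸ len_pos' a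
        nlinarith [show P.pairingIn ℤ x a ≥ -1 by lia, show P.pairingIn ℤ a x ≤ -1 by lia]
      nlinarith [show 0 < m from ham ▸ len_pos' a]
    have s1 : 2 * ∑ a' ∈ A, bz P a a' ≤ 2 * m - m * (T ∩ A.erase a).card := by
      rw [← Finset.add_sum_erase _ _ ha, show bz P a a = m from ham, mul_add, Finset.mul_sum]
      have : ∑ x ∈ A.erase a, 2 * bz P a x ≤ ∑ x ∈ T ∩ A.erase a, 2 * bz P a x := by
        refine Finset.sum_le_sum_of_subset_of_nonpos' Finset.inter_subset_right fun x hx _ => ?_
        rw [Finset.mem_erase] at hx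
        have := hbz a has x (hA x hx.2).1 (Ne.symm hx.1)
        lia
      have h2 := (Finset.sum_le_sum hT1)
      rw [Finset.sum_const, nsmul_eq_mul] at h2
      push_cast at h2
      lia
    have s2 : ∑ b ∈ B, bz P a b ≤ -(m * (T ∩ B).card) := by
      have : ∑ x ∈ B, bz P a x ≤ ∑ x ∈ T ∩ B, bz P a x :=
        Finset.sum_le_sum_of_subset_of_nonpos' Finset.inter_subset_right fun x hx _ =>
          hbz a has x (hB x hx).1 (fun h => (hB x hx).2.1 (h ▸ ham))
      have h2 := (Finset.sum_le_sum hT2)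
      rw [Finset.sum_const, nsmul_eq_mul] at h2
      lia
    have hcard : 2 ≤ (T ∩ A.erase a).card + (T ∩ B).card := by
      refine le_trans hdeg (le_trans (Finset.card_le_card fun x hx => ?_) (Finset.card_union_le _ _))
      rcases Finset.mem_union.mp (hT hx) with h | h
      · exact Finset.mem_union_left _ (Finset.mem_inter.mpr ⟨hx, h⟩)
      · exact Finset.mem_union_right _ (Finset.mem_inter.mpr ⟨hx, h⟩)
    have hm : 0 < m := ham ▸ len_pos' a
    nlinarith [show (2 : ℤ) ≤ ((T ∩ A.erase a).card : ℤ) + (T ∩ B).card by exact_mod_cast hcard]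
  have hsum : 4 * (∑ a ∈ A, ∑ a' ∈ A, bz P a a') + 2 * (∑ a ∈ A, ∑ b ∈ B, bz P a b) ≤ 0 := by
    rw [Finset.mul_sum, Finset.mul_sum, ← Finset.sum_add_distrib]
    exact Finset.sum_nonpos hper
  linarith

/-- Solving the difference equations along the edges of the Dynkin diagram. -/
lemma exists_edge_solution (b : P.Base) (d : ι → ι → ℤ)
    (hd : ∀ i ∈ b.support, ∀ j ∈ b.support, i ≠ j → P.pairingIn ℤ i j = 0 → d i j = d j i)
    (s : Finset ι) (hs : s ⊆ b.support) :
    ∃ x : ι → ℤ, ∀ i ∈ s, ∀ j ∈ s, i ≠ j →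
      d i j + P.pairingIn ℤ j i * x j = d j i + P.pairingIn ℤ i j * x i := by
  have hΔ := base_isSimpleSys b
  induction s using Finset.strongInduction with
  | H s ih =>
    rcases s.eq_empty_or_nonempty with rfl | hne
    · exact ⟨0, by simp⟩
    obtain ⟨a, ha, hmin, hcard⟩ := exists_min_leaf hΔ s (fun i hi => hs hi) hne
    obtain ⟨x, hx⟩ := ih (s.erase a) (Finset.erase_ssubset ha) ((Finset.erase_subset a s).trans hs)
    set T := (s.erase a).filter fun j => P.pairingIn ℤ a j ≠ 0 with hT
    let v : ℤ := ∑ j ∈ T, (d j a - d a j - P.pairingIn ℤ j a * x j)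
    refine ⟨Function.update x a v, ?_⟩
    have key : ∀ j ∈ s, j ≠ a → d a j + P.pairingIn ℤ j a * x j = d j a + P.pairingIn ℤ a j * v := by
      intro j hj hja
      by_cases h0 : P.pairingIn ℤ a j = 0
      · rw [h0, pairingIn_eq_zero_symm h0, zero_mul, zero_mul, add_zero, add_zero]
        exact hd a (hs ha) j (hs hj) (Ne.symm hja) h0
      · have hjT : j ∈ T := Finset.mem_filter.mpr ⟨Finset.mem_erase.mpr ⟨hja, hj⟩, h0⟩
        have hv : v = d j a - d a j - P.pairingIn ℤ j a * x j := by
          simp only [v]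
          rw [Finset.sum_eq_single j]
          · intro y hy hyj
            exact absurd (Finset.card_le_one.mp hcard y hy j hjT) hyj
          · exact fun h => absurd hjT h
        have h1 : P.pairingIn ℤ a j = -1 := by
          have h2 := simple_pairingIn_nonpos hΔ (hs ha) (hs hj) (Ne.symm hja)
          have h3 := pairingIn_mul_lt_four hΔ (hs ha) (hs hj) (Ne.symm hja)
          have h4 := len_mul_pairingIn (P := P) a j
          have h5 := hmin j hj
          have h6 := len_pos' (P := P) a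
          have h8 := simple_pairingIn_nonpos hΔ (hs hj) (hs ha) hja
          by_contra h7
          have h9 : P.pairingIn ℤ a j ≤ -2 := by lia
          have h10 : -1 ≤ P.pairingIn ℤ j a := by nlinarith
          nlinarith
        rw [h1, hv]; ring
    intro i hi j hj hij
    by_cases hia : i = a
    · subst hia
      rw [Function.update_of_ne (Ne.symm hij), Function.update_self]
      exact key j hj (Ne.symm hij)
    · by_cases hja : j = a
      · subst hja
        rw [Function.update_self, Function.update_of_ne hia]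
        exact (key i hi hia).symm
      · rw [Function.update_of_ne hia, Function.update_of_ne hja]
        exact hx i (Finset.mem_erase.mpr ⟨hia, hi⟩) j (Finset.mem_erase.mpr ⟨hja, hj⟩) hij

end Groth.Agent.Roots36
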