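import Groth.Agent.Roots36.Forest
import Mathlib.LinearAlgebra.RootSystem.Irreducible
import Mathlib.LinearAlgebra.RootSystem.Finite.Lemmas

set_option autoImplicit false
set_option linter.unusedSectionVars false
set_option linter.unusedSimpArgs false

open Set Function RootPairing
open scoped Classical

namespace Groth.Agent.Roots36

variable {ι R M N : Type*} [Field R] [CharZero R] [AddCommGroup M] [Module R M] [AddCommGroup N]
  [Module R N] {P : RootPairing ι R M N} [Fintype ι] [P.IsCrystallographic] [P.IsReduced]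

/-- A root to which no positive root can be added. -/
def IsMaximal (P : RootPairing ι R M N) (Δ : Set ι) (θ : ι) : Prop :=
  θ ∈ RootD.posOf P Δ ∧ ∀ i ∈ RootD.posOf P Δ, P.root θ + P.root i ∉ range P.root

lemma pairingIn_nonneg_of_isMaximal {Δ : Set ι} (hΔ : RootD.IsSimpleSys P Δ) {θ i : ι}
    (hθ : IsMaximal P Δ θ) (hi : i ∈ RootD.posOf P Δ) :
    0 ≤ P.pairingIn ℤ θ i ∧ 0 ≤ P.pairingIn ℤ i θ := by
  have h1 : 0 ≤ P.pairingIn ℤ θ i := by
    by_contra h
    push Not at h
    obtain ⟨k, hk⟩ := add_root_mem h fun e => by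
      have : θ = neg P i := P.root.injective (by rw [e, root_neg])
      exact (neg_posOf_iff hΔ).mp (this ▸ hθ.1) hi
    exact hθ.2 i hi ⟨k, hk⟩
  refine ⟨h1, ?_⟩
  by_contra h
  push Not at h
  exact absurd (pairingIn_neg_symm h) (not_lt.mpr h1)

variable [P.IsIrreducible] (b : P.Base)

lemma coef_pos_of_isMaximal {θ : ι} (hθ : IsMaximal P b.support θ) {a : ι} (ha : a ∈ b.support) :
    0 < coef (base_isSimpleSys b) θ a := by
  set hΔ := base_isSimpleSys b
  set S : Set ι := {j | coef hΔ θ j ≠ 0}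
  have hSΔ : ∀ j ∈ S, j ∈ (b.support : Set ι) := fun j hj => by
    by_contra h; exact hj (coef_eq_zero hΔ h)
  set U := Submodule.span R (P.root '' S)
  have horth : ∀ j ∈ b.support, j ∉ S → ∀ s ∈ S, P.pairingIn ℤ s j = 0 := by
    intro j hj hjS s hs
    have h1 := (pairingIn_nonneg_of_isMaximal hΔ hθ (simple_mem_posOf hΔ hj)).1
    rw [pairingIn_eq_sum hΔ] at h1
    have hterm : ∀ x ∈ Finset.univ, coef hΔ θ x * P.pairingIn ℤ x j ≤ 0 := fun x _ => by
      by_cases hx : x ∈ S
      · exact mul_nonpos_of_nonneg_of_nonpos ((posOf_iff hΔ).mp hθ.1 x)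
          (simple_pairingIn_nonpos hΔ (hSΔ x hx) hj (fun e => hjS (e ▸ hx)))
      · simp [not_not.mp hx]
    have h2 := (Finset.sum_eq_zero_iff_of_nonpos hterm).mp
      (le_antisymm (Finset.sum_nonpos hterm) h1) s (Finset.mem_univ s)
    exact (mul_eq_zero.mp h2).resolve_left hs
  have hU : ∀ i, U ∈ Module.End.invtSubmodule (P.reflection i) := by
    refine (b.forall_mem_support_invtSubmodule_iff U).mp fun j hj => ?_
    rw [Module.End.mem_invtSubmodule]
    intro x hx
    rw [Submodule.mem_comap, LinearEquiv.coe_coe, RootPairing.reflection_apply]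
    by_cases hjS : j ∈ S
    · exact sub_mem hx (Submodule.smul_mem _ _ (Submodule.subset_span ⟨j, hjS, rfl⟩))
    · have : P.coroot' j x = 0 := by
        refine LinearMap.mem_ker.mp ((Submodule.span_le.mpr ?_) hx)
        rintro _ ⟨s, hs, rfl⟩
        rw [SetLike.mem_coe, LinearMap.mem_ker, root_coroot'_eq_pairing, pairing_eq_cast,
          horth j hj hjS s hs, Int.cast_zero]
      rwa [this, zero_smul, sub_zero]
  obtain ⟨s, hs⟩ : ∃ s, s ∈ S := by
    by_contra h
    push Not at h
    exact coef_ne_zero hΔ θ (funext fun x => not_not.mp (h x))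
  have htop : U = ⊤ := IsIrreducible.eq_top_of_invtSubmodule_reflection U hU fun h =>
    P.ne_zero s ((Submodule.eq_bot_iff U).mp h _ (Submodule.subset_span ⟨s, hs, rfl⟩))
  by_contra h
  have h0 : coef hΔ θ a = 0 := le_antisymm (not_lt.mp h) ((posOf_iff hΔ).mp hθ.1 a)
  have haS : a ∉ S := fun hh => hh h0
  have hmem : P.root a ∈ U := htop ▸ Submodule.mem_top
  exact ((linearIndepOn_insert haS).mp (b.linearIndepOn_root.mono (Set.insert_subset ha hSΔ))).2 hmem

/-- The root of largest height among those above a given one is maximal. -/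
lemma exists_isMaximal_ge {k : ι} (hk : k ∈ RootD.posOf P b.support) :
    ∃ θ', IsMaximal P b.support θ' ∧
      ∀ j, coef (base_isSimpleSys b) k j ≤ coef (base_isSimpleSys b) θ' j := by
  set hΔ := base_isSimpleSys b
  obtain ⟨θ', hθ', hmax⟩ := Finset.exists_max_image
    (Finset.univ.filter fun l => ∀ j, coef hΔ k j ≤ coef hΔ l j) (ht hΔ) ⟨k, by simp⟩
  simp only [Finset.mem_filter, Finset.mem_univ, true_and] at hθ' hmax
  refine ⟨θ', ⟨(posOf_iff hΔ).mpr fun j => ((posOf_iff hΔ).mp hk j).trans (hθ' j), ?_⟩, hθ'⟩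
  rintro i hi ⟨l, hl⟩
  have h1 := hmax l fun j => by
    rw [coef_add hΔ hl, Pi.add_apply]
    have := (posOf_iff hΔ).mp hi j
    have := hθ' j
    lia
  have := ht_add hΔ hl
  have := ht_pos hΔ hi
  lia

lemma isMaximal_unique {θ θ' : ι} (h : IsMaximal P b.support θ) (h' : IsMaximal P b.support θ') :
    θ = θ' := by
  set hΔ := base_isSimpleSys b
  obtain ⟨j, hj, hjc, hjp⟩ := exists_simple_pairing_pos hΔ h.1
  have hpos : 0 < P.pairingIn ℤ θ' θ := by
    rw [pairingIn_eq_sum hΔ]
    refine Finset.sum_pos' (fun x _ => ?_) ⟨j, Finset.mem_univ j,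
      mul_pos (coef_pos_of_isMaximal b h' hj) (pairingIn_pos_symm hjp)⟩
    by_cases hx : x ∈ b.support
    · exact mul_nonneg ((posOf_iff hΔ).mp h'.1 x)
        (pairingIn_nonneg_of_isMaximal hΔ h (simple_mem_posOf hΔ hx)).2
    · simp [coef_eq_zero hΔ (show x ∉ (b.support : Set ι) from hx)]
  by_contra hne
  obtain ⟨x, hx⟩ := sub_root_mem hpos (Ne.symm hne)
  rcases posOf_or_neg hΔ x with hp | hp
  · exact h.2 x hp ⟨θ', by rw [hx]; simp⟩
  · exact h'.2 _ hp ⟨θ, by rw [root_neg, hx]; simp⟩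

lemma coef_le_of_isMaximal {θ : ι} (h : IsMaximal P b.support θ) (k j : ι) :
    coef (base_isSimpleSys b) k j ≤ coef (base_isSimpleSys b) θ j := by
  set hΔ := base_isSimpleSys b
  by_cases hk : k ∈ RootD.posOf P b.support
  · obtain ⟨θ', h', hle⟩ := exists_isMaximal_ge b hk
    exact isMaximal_unique b h h' ▸ hle j
  · exact ((not_posOf_iff hΔ).mp hk j).trans ((posOf_iff hΔ).mp h.1 j)

lemma len_le_of_isMaximal {θ : ι} (h : IsMaximal P b.support θ) (i : ι) : len P i ≤ len P θ := by
  set hΔ := base_isSimpleSys b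
  obtain ⟨γ, hγ, hmax⟩ := Finset.exists_max_image
    (Finset.univ.filter fun l => len P l = len P i) (ht hΔ) ⟨i, by simp⟩
  simp only [Finset.mem_filter, Finset.mem_univ, true_and] at hγ hmax
  have hγpos : γ ∈ RootD.posOf P b.support := by
    rcases posOf_or_neg hΔ γ with hp | hp
    · exact hp
    · have h1 := hmax (neg P γ) (by rw [len_neg, hγ])
      have h2 := ht_pos hΔ hp
      exact posOf_of_ht_nonneg hΔ (by lia)
  have hdom : ∀ j ∈ (b.support : Set ι), 0 ≤ P.pairingIn ℤ γ j := by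
    intro j hj
    have h1 := hmax (P.reflectionPerm j γ) (by rw [← reflection_smul_index, len_smul_index, hγ])
    rw [ht_reflect hΔ hj] at h1
    lia
  have key : ∀ x : ι, (∀ j ∈ (b.support : Set ι), 0 ≤ P.pairingIn ℤ x j) →
      len P γ * P.pairingIn ℤ x γ ≤ len P θ * P.pairingIn ℤ x θ := by
    intro x hx
    rw [len_mul_pairingIn_eq_sum hΔ, len_mul_pairingIn_eq_sum hΔ]
    refine Finset.sum_le_sum fun j _ => ?_
    by_cases hj : j ∈ b.support
    · exact mul_le_mul_of_nonneg_right (coef_le_of_isMaximal b h γ j)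
        (mul_nonneg (len_pos' j).le (hx j hj))
    · simp [coef_eq_zero hΔ (show j ∉ (b.support : Set ι) from hj)]
  have k1 := key γ hdom
  have k2 := key θ fun j hj => (pairingIn_nonneg_of_isMaximal hΔ h (simple_mem_posOf hΔ hj)).1
  rw [pairingIn_self] at k1 k2
  have k3 := len_mul_pairingIn (P := P) θ γ
  lia

lemma pairingIn_zero_or_one {θ i : ι} (h : IsMaximal P b.support θ)
    (hi : i ∈ RootD.posOf P b.support) (hne : i ≠ θ) :
    P.pairingIn ℤ i θ = 0 ∨ P.pairingIn ℤ i θ = 1 := by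
  set hΔ := base_isSimpleSys b
  obtain ⟨h1, h2⟩ := pairingIn_nonneg_of_isMaximal hΔ h hi
  by_contra hc
  push Not at hc
  have h3 : 2 ≤ P.pairingIn ℤ i θ := by lia
  have := isTorsionFree_M P
  have := isTorsionFree_N P
  have h4 := len_mul_pairingIn (P := P) i θ
  have h5 := len_le_of_isMaximal b h i
  have h6 := len_pos' (P := P) i
  have h7 : 2 ≤ P.pairingIn ℤ θ i := by nlinarith
  have hneg : P.root i ≠ -P.root θ := fun e => by
    have : i = neg P θ := P.root.injective (by rw [e, root_neg])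
    exact (neg_posOf_iff hΔ).mp (this ▸ hi) h.1
  have h8 := P.coxeterWeightIn_mem_set_of_isCrystallographic i θ
  have h9 := P.coxeterWeightIn_ne_four ℤ hne hneg
  simp only [RootPairing.coxeterWeightIn, Set.mem_insert_iff, Set.mem_singleton_iff] at h8 h9
  have h10 : 4 ≤ P.pairingIn ℤ i θ * P.pairingIn ℤ θ i := by
    have := mul_le_mul h3 h7 (by norm_num) (by lia)
    lia
  generalize P.pairingIn ℤ i θ * P.pairingIn ℤ θ i = w at h8 h9 h10
  lia

end Groth.Agent.Roots36
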