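import Mathlib.LinearAlgebra.RootSystem.Base
import Mathlib.LinearAlgebra.RootSystem.Irreducible
import Mathlib.LinearAlgebra.QuadraticForm.Basic

set_option autoImplicit false
set_option linter.unusedSectionVars false

open Set Function RootPairing QuadraticMap

namespace Groth.Agent.Roots36

variable {ι R M N : Type*} [CommRing R] [AddCommGroup M] [Module R M] [AddCommGroup N] [Module R N]
  {P : RootPairing ι R M N}

lemma qmap_coreflection (Q : QuadraticMap R N R) (j : ι) (y : N) :
    Q (P.coreflection j y) =
      Q y + P.root' j y * (P.root' j y * Q (P.coroot j) - polar Q y (P.coroot j)) := by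
  rw [P.coreflection_apply, sub_eq_add_neg, ← neg_smul, QuadraticMap.map_add Q, QuadraticMap.map_smul,
    polar_smul_right]
  simp only [smul_eq_mul]
  ring

lemma coreflection_invariant_iff [IsDomain R] [CharZero R] (Q : QuadraticMap R N R) (j : ι)
    (D : Submodule R N) (hj : P.coroot j ∈ D) :
    (∀ y ∈ D, Q (P.coreflection j y) = Q y) ↔
      ∀ y ∈ D, polar Q y (P.coroot j) = P.root' j y * Q (P.coroot j) := by
  simp only [qmap_coreflection]
  refine ⟨fun h y hy => ?_, fun h y hy => by rw [h y hy, sub_self, mul_zero, add_zero]⟩
  have hd := fun z hz => mul_eq_zero.mp (add_eq_left.mp (h z hz))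
  rcases hd y hy with e | e
  · have h2 : P.root' j (y + P.coroot j) = 2 := by
      rw [map_add, e, zero_add]; exact P.root_coroot_two j
    rcases hd _ (add_mem hy hj) with e' | e'
    · rw [h2] at e'; exact absurd e' two_ne_zero
    · rw [h2, polar_add_left, QuadraticMap.polar_self, nsmul_eq_mul] at e'
      rw [e, zero_mul]
      push_cast at e'
      linear_combination -e'
  · exact (sub_eq_zero.mp e).symm

lemma root'_coroot (i j : ι) : P.root' j (P.coroot i) = P.pairing j i := rfl

lemma polar_coreflection (Q : QuadraticMap R N R) (i : ι) (D : Submodule R N)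
    (hinv : ∀ y ∈ D, Q (P.coreflection i y) = Q y) {x y : N} (hx : x ∈ D) (hy : y ∈ D) :
    polar Q (P.coreflection i x) (P.coreflection i y) = polar Q x y := by
  simp only [polar, ← map_add, hinv _ (add_mem hx hy), hinv _ hx, hinv _ hy]

lemma coreflection_mem_corootSpan (i : ι) {y : N} (hy : y ∈ P.corootSpan R) :
    P.coreflection i y ∈ P.corootSpan R := by
  rw [P.coreflection_apply]
  exact sub_mem hy (Submodule.smul_mem _ _ (Submodule.subset_span (mem_range_self i)))

variable [IsDomain R] [CharZero R] [Finite ι] [P.IsCrystallographic] [P.IsReduced]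

/-- A form with the prescribed polar values on simple coroots is invariant on the coroot span. -/
lemma polar_eq_of_simple (b : P.Base) (Q : QuadraticMap R N R)
    (h : ∀ i ∈ b.support, ∀ j ∈ b.support, i ≠ j →
      polar Q (P.coroot i) (P.coroot j) = P.pairing j i * Q (P.coroot j)) (k : ι) :
    ∀ y ∈ P.corootSpan R, polar Q y (P.coroot k) = P.root' k y * Q (P.coroot k) := by
  have hs : ∀ j ∈ b.support, ∀ y ∈ P.corootSpan R,
      polar Q y (P.coroot j) = P.root' j y * Q (P.coroot j) := by
    intro j hj y hy
    rw [← b.span_coroot_support] at hy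
    induction hy using Submodule.span_induction with
    | mem z hz =>
      obtain ⟨i, hi, rfl⟩ := hz
      by_cases e : i = j
      · subst e
        rw [QuadraticMap.polar_self, root'_coroot, pairing_same, nsmul_eq_mul]; norm_num
      · rw [root'_coroot]; exact h i hi j hj e
    | zero => simp [polar_zero_left]
    | add x y _ _ hx hy => rw [polar_add_left, hx, hy, map_add, add_mul]
    | smul a x _ hx => rw [polar_smul_left, hx, map_smul, smul_eq_mul, smul_eq_mul, mul_assoc]
  have hinv : ∀ j ∈ b.support, ∀ y ∈ P.corootSpan R, Q (P.coreflection j y) = Q y := fun j hj =>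
    (coreflection_invariant_iff Q j _ (Submodule.subset_span (mem_range_self j))).mpr (hs j hj)
  have step : ∀ (k j : ι), (∀ y ∈ P.corootSpan R, Q (P.coreflection j y) = Q y) →
      (∀ y ∈ P.corootSpan R, polar Q y (P.coroot k) = P.root' k y * Q (P.coroot k)) →
      ∀ y ∈ P.corootSpan R, polar Q y (P.coroot (P.reflectionPerm j k)) =
        P.root' (P.reflectionPerm j k) y * Q (P.coroot (P.reflectionPerm j k)) := by
    intro k j hj hk y hy
    have hy' := coreflection_mem_corootSpan j hy
    have hk' : P.coroot k ∈ P.corootSpan R := Submodule.subset_span (mem_range_self k)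
    have hr : P.root' k (P.coreflection j y) = P.root' (P.reflectionPerm j k) y := by
      simp only [root', P.root_reflectionPerm, reflection_apply, coreflection_apply, map_sub,
        map_smul, LinearMap.sub_apply, LinearMap.smul_apply, smul_eq_mul, coroot',
        LinearMap.flip_apply]
      ring
    rw [P.coroot_reflectionPerm, ← polar_coreflection Q j _ hj hy (coreflection_mem_corootSpan j hk'),
      coreflection_same, hk _ hy', hr, hj _ hk']
  refine b.induction_reflect k (fun i hi => ?_) (fun j hj => hs j hj) (fun i j hi hj => step i j (hinv j hj) hi)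
  exact step i i ((coreflection_invariant_iff Q i _ (Submodule.subset_span (mem_range_self i))).mpr hi) hi

end Groth.Agent.Roots36
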