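import Groth.Agent.Roots36.Combi

set_option autoImplicit false
set_option linter.unusedSectionVars false

open Set Function RootPairing
open scoped Classical

namespace Groth.Agent.Roots36

variable {ι M N : Type*} [AddCommGroup M] [AddCommGroup N] {P : RootPairing ι ℤ M N} [Fintype ι]

/-- The possible ratios of the lengths of two roots in the same component. -/
lemma exists_ratio {x y : ι} (h : Linked P x y) :
    ∃ r : ℤ, (len P x = r * len P y ∨ len P y = r * len P x ∨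
      2 * len P x = 2 * r * len P y) ∧ 0 < r := by
  obtain ⟨g, hg, hne⟩ := exists_smul_pairing_ne h
  have h1 := len_mul_pairingIn (P := P) (g • x) y
  rw [len_smul_index] at h1
  have := isTorsionFree_M P
  have h2 := P.pairingIn_pairingIn_mem_set_of_isCrystallographic (g • x) y
  simp only [Set.mem_insert_iff, Set.mem_singleton_iff, Prod.mk.injEq] at h2
  rcases h2 with ⟨e, e'⟩ | ⟨e, e'⟩ | ⟨e, e'⟩ | ⟨e, e'⟩ | ⟨e, e'⟩ | ⟨e, e'⟩ | ⟨e, e'⟩ | ⟨e, e'⟩ |
    ⟨e, e'⟩ | ⟨e, e'⟩ | ⟨e, e'⟩ | ⟨e, e'⟩ | ⟨e, e'⟩ | ⟨e, e'⟩ | ⟨e, e'⟩ | ⟨e, e'⟩ | ⟨e, e'⟩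
  · exact absurd e hne
  all_goals rw [e, e'] at h1
  all_goals first
    | exact ⟨1, by lia, one_pos⟩
    | exact ⟨2, by lia, two_pos⟩
    | exact ⟨3, by lia, by norm_num⟩
    | exact ⟨4, by lia, by norm_num⟩

lemma dvd_len_of_min
    (hirr : ∀ R' : Set ι, RootD.IsClosedSub P R' → RootD.IsSymmSub P R' → RootD.IsClosedSub P R'ᶜ →
      RootD.IsSymmSub P R'ᶜ → R' = ∅ ∨ R' = Set.univ)
    {i₀ : ι} (hmin : ∀ i, len P i₀ ≤ len P i) (i : ι) : len P i₀ ∣ len P i := by
  obtain ⟨r, h, hr⟩ := exists_ratio (linked_of_irreducible hirr i i₀)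
  rcases h with h | h | h
  · exact ⟨r, h.trans (mul_comm _ _)⟩
  · have := hmin i
    have h1 := len_pos' (P := P) i
    have : r = 1 := by nlinarith
    exact ⟨1, by rw [h, this]; ring⟩
  · exact ⟨r, by linarith⟩

end Groth.Agent.Roots36
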