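import Groth.Agent.Roots36.CCS

set_option autoImplicit false
set_option linter.unusedSectionVars false
set_option linter.unusedSimpArgs false

open Set Function RootPairing Module
open scoped Classical

namespace Groth.Agent.Roots36.Ch

universe u v w x

variable {ι : Type u} {R : Type v} {M : Type w} {N : Type x}
  [Field R] [LinearOrder R] [IsStrictOrderedRing R]
  [AddCommGroup M] [Module R M] [AddCommGroup N] [Module R N] [Fintype ι]
  {P : RootPairing ι R M N} [P.IsRootSystem] [P.IsCrystallographic] [P.IsReduced]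

section DualSpan

variable {F : RootCh.Facet P} {b : P.Base} (hb : b ∈ F.cham)
include hb

lemma mem_span_dualCarrier_iff (y : N) :
    y ∈ Submodule.span R F.dualCarrier ↔ ∀ i ∈ b.support, F.sgn i = 0 → P.root' i y = 0 := by
  constructor
  · intro h i hi h0
    induction h using Submodule.span_induction with
    | mem z hz =>
      have h1 := congrFun (show RootCh.cosgnVec P z = F.sgn from hz) i
      rw [h0] at h1
      exact sign_eq_zero_iff.mp h1
    | zero => exact map_zero _
    | add u v _ _ hu hv => rw [map_add, hu, hv, add_zero]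
    | smul a u _ hu => rw [map_smul, hu, smul_zero]
  · intro h
    obtain ⟨ξ, rfl⟩ := exists_polarization_eq b y
    have hξ : ξ ∈ Submodule.span R F.corners := by
      refine (mem_span_corners_iff hb).mpr fun i hi h0 => ?_
      have h1 := h i hi h0
      rw [root'_polarization] at h1
      have h2 := form_root (P := P) ξ i
      rw [h1, mul_zero] at h2
      exact (mul_eq_zero.mp h2.symm).resolve_left (len_pos (P := P) i).ne'
    rw [← span_carrier_eq] at hξ
    have hmap : P.Polarization ξ ∈ (Submodule.span R F.carrier).map P.Polarization :=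
      Submodule.mem_map_of_mem hξ
    rw [Submodule.map_span] at hmap
    refine Submodule.span_mono ?_ hmap
    rintro _ ⟨η, hη, rfl⟩
    exact (cosgnVec_polarization η).trans hη

lemma mem_dualCarrier_iff {y : N} (hy : y ∈ Submodule.span R F.dualCarrier) :
    y ∈ F.dualCarrier ↔ ∀ i ∈ b.support, F.sgn i ≠ 0 → 0 < P.root' i y := by
  constructor
  · intro h i hi hne
    have h1 := congrFun (show RootCh.cosgnVec P y = F.sgn from h) i
    rw [(sgn_simple hb hi).resolve_left hne] at h1
    exact sign_eq_one_iff.mp h1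
  · intro h
    obtain ⟨ξ, rfl⟩ := exists_polarization_eq b y
    change RootCh.cosgnVec P _ = F.sgn
    rw [cosgnVec_polarization]
    refine (mem_carrier_iff hb).mpr fun i hi => ?_
    rw [← cosgnVec_polarization]
    by_cases h0 : F.sgn i = 0
    · rw [h0, RootCh.cosgnVec, (mem_span_dualCarrier_iff hb _).mp hy i hi h0, sign_zero]
    · rw [(sgn_simple hb hi).resolve_left h0, RootCh.cosgnVec, sign_pos (h i hi h0)]

end DualSpan

variable {d : P.Base → N} (hd : RootCh.IsCCS d)
include hd

lemma yLocus_unique (F : RootCh.Facet P) {y z : N} (hy : y ∈ RootCh.yLocus d F)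
    (hz : z ∈ RootCh.yLocus d F) : y = z := by
  obtain ⟨b, hb⟩ := cham_nonempty F
  obtain ⟨ξ, hξ⟩ := exists_polarization_eq b (y - z)
  have hs : y - z ∈ Submodule.span R F.dualCarrier := sub_mem hy.2 hz.2
  have hξs : ξ ∈ Submodule.span R F.corners := by
    refine (mem_span_corners_iff hb).mpr fun i hi h0 => ?_
    have h1 := (mem_span_dualCarrier_iff hb _).mp hs i hi h0
    rw [← hξ, root'_polarization] at h1
    have h2 := form_root (P := P) ξ i
    rw [h1, mul_zero] at h2
    exact (mul_eq_zero.mp h2.symm).resolve_left (len_pos (P := P) i).ne'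
  have hy' : ∀ w ∈ F.corners, y ∈ RootCh.hyper d w := Set.mem_iInter₂.mp hy.1
  have hz' : ∀ w ∈ F.corners, z ∈ RootCh.hyper d w := Set.mem_iInter₂.mp hz.1
  have h0 : P.toLinearMap ξ (y - z) = 0 := by
    rw [map_sub, pairing_eq_of_mem_span_corners hd hb hξs hy',
      pairing_eq_of_mem_span_corners hd hb hξs hz', sub_self]
  rw [← hξ, toLinearMap_apply_apply_Polarization] at h0
  have hξ0 : ξ = 0 := by
    by_contra hne
    exact (form_pos (P := P) hne).ne' h0
  rw [hξ0, map_zero] at hξ
  exact (sub_eq_zero.mp hξ.symm)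

lemma mem_yLocus_of_mem {F : RootCh.Facet P} {y : N} (h1 : y ∈ RootCh.dualSolid d F)
    (h2 : y ∈ Submodule.span R F.dualCarrier) : y ∈ RootCh.yLocus d F :=
  ⟨Set.mem_iInter₂.mpr fun _ hw => dualSolid_mem_hyper hd h1 hw, h2⟩

lemma numInv_eq {F : RootCh.Facet P} {b : P.Base} (hb : b ∈ F.cham) {m : M} (hm : m ∈ F.corners)
    {y : N} (hy : ∀ w ∈ F.corners, y ∈ RootCh.hyper d w) :
    F.numInv d m b = P.toLinearMap (∑ i ∈ (Set.toFinite (F.Psi m)).toFinset, P.root i) y := by
  rw [pairing_eq_of_mem_span_corners hd hb (sum_Psi_mem_span_corners hm) hy,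
    RootCh.Facet.numInv, map_sum, LinearMap.sum_apply]

lemma numInv_pos_iff {F : RootCh.Facet P} {b : P.Base} (hb : b ∈ F.cham) {i₀ : b.support}
    (hi₀ : F.sgn i₀ ≠ 0) {y : N} (hy : ∀ w ∈ F.corners, y ∈ RootCh.hyper d w)
    (hys : y ∈ Submodule.span R F.dualCarrier) :
    0 < F.numInv d (RootCh.fundWeight b i₀) b ↔ 0 < P.root' i₀ y := by
  have hm : RootCh.fundWeight b i₀ ∈ F.corners := by rw [corners_eq hb]; exact ⟨i₀, hi₀, rfl⟩
  have hbs := base_isSimpleSys b
  have hz := (mem_span_dualCarrier_iff hb y).mp hys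
  rw [numInv_eq hd hb hm hy, map_sum, LinearMap.sum_apply]
  set S := (Set.toFinite (F.Psi (RootCh.fundWeight b i₀))).toFinset
  have hval : ∀ k ∈ S, P.toLinearMap (P.root k) y = P.root' i₀ y := by
    intro k hk
    rw [Set.Finite.mem_toFinset, mem_Psi_iff hb] at hk
    rw [root_eq_comb hbs k, comb, map_sum, LinearMap.sum_apply, Finset.sum_eq_single (i₀ : ι)]
    · rw [hk.1, one_smul]
    · intro j _ hj
      by_cases hjb : j ∈ b.support
      · by_cases h0 : F.sgn j = 0
        · rw [map_zsmul, LinearMap.smul_apply]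
          change _ • P.root' j y = 0
          rw [hz j hjb h0, smul_zero]
        · rw [hk.2 ⟨j, hjb⟩ (fun e => hj (congrArg Subtype.val e)) h0, zero_smul, map_zero,
            LinearMap.zero_apply]
      · rw [coef_eq_zero hbs (show j ∉ (b.support : Set ι) from hjb), zero_smul, map_zero,
          LinearMap.zero_apply]
    · simp
  rw [Finset.sum_congr rfl hval, Finset.sum_const, nsmul_eq_mul]
  have hcard : 0 < (S.card : R) := by
    have hne : (i₀ : ι) ∈ S := by
      rw [Set.Finite.mem_toFinset, mem_Psi_iff hb, coef_simple hbs (Finset.mem_coe.mpr i₀.2)]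
      refine ⟨Pi.single_eq_same _ _, fun j hj _ => Pi.single_eq_of_ne (fun e => hj (Subtype.ext e)) _⟩
    exact_mod_cast Finset.card_pos.mpr ⟨_, hne⟩
  exact mul_pos_iff_of_pos_left hcard

lemma isSpecial_iff (F : RootCh.Facet P) :
    ((∀ m ∈ F.corners, ∀ b ∈ F.cham, 0 < F.numInv d m b) ∧
        (RootCh.dualSolid d F ∩ (Submodule.span R F.dualCarrier : Set N)).Nonempty) ↔
      RootCh.IsSpecial d F := by
  obtain ⟨b, hb⟩ := cham_nonempty F
  constructor
  · rintro ⟨hn, y, hy, hys⟩
    refine ⟨y, (mem_dualCarrier_iff hb hys).mpr fun i hi hne => ?_, hy⟩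
    refine (numInv_pos_iff hd hb (i₀ := ⟨i, hi⟩) hne
      (fun w hw => dualSolid_mem_hyper hd hy hw) hys).mp (hn _ ?_ b hb)
    rw [corners_eq hb]; exact ⟨⟨i, hi⟩, hne, rfl⟩
  · rintro ⟨y, hyc, hy⟩
    have hys : y ∈ Submodule.span R F.dualCarrier := Submodule.subset_span hyc
    refine ⟨fun m hm c hc => ?_, y, hy, hys⟩
    rw [corners_eq hc] at hm
    obtain ⟨i₀, hi₀, rfl⟩ := hm
    exact (numInv_pos_iff hd hc hi₀ (fun w hw => dualSolid_mem_hyper hd hy hw) hys).mpr
      ((mem_dualCarrier_iff hc hys).mp hyc i₀ i₀.2 hi₀)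

lemma special_point {F : RootCh.Facet P} (hF : RootCh.IsSpecial d F) :
    ∃ y₀ : N, RootCh.yLocus d F = {y₀} ∧ F.dualCarrier ∩ RootCh.dualSolid d F = {y₀} := by
  obtain ⟨y, hyc, hy⟩ := hF
  have hmem := mem_yLocus_of_mem hd hy (Submodule.subset_span hyc)
  refine ⟨y, Set.eq_singleton_iff_unique_mem.mpr ⟨hmem, fun z hz => yLocus_unique hd F hz hmem⟩,
    Set.eq_singleton_iff_unique_mem.mpr ⟨⟨hyc, hy⟩, fun z hz => ?_⟩⟩
  exact yLocus_unique hd F (mem_yLocus_of_mem hd hz.2 (Submodule.subset_span hz.1)) hmem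

section Metric

variable {B : LinearMap.BilinForm R N} (hBs : ∀ y z : N, B y z = B z y)
  (hBp : ∀ y : N, y ≠ 0 → 0 < B y y)
  (hBi : ∀ (i : ι) (y z : N), B (P.coreflection i y) (P.coreflection i z) = B y z)
include hBs hBp hBi

omit hd in
lemma dual_mem_carrier {F : RootCh.Facet P} {y : N} (hy : y ∈ F.dualCarrier) :
    P.toPerfPair.symm (B y) ∈ F.carrier := by
  change RootCh.sgnVec P _ = F.sgn
  rw [← show RootCh.cosgnVec P y = F.sgn from hy]
  funext i
  have hc : P.coroot' i (P.toPerfPair.symm (B y)) = B y (P.coroot i) :=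
    LinearMap.congr_fun (LinearMap.apply_symm_toPerfPair_self P.toLinearMap (B y)) (P.coroot i)
  have h1 := hBi i y (P.coroot i)
  rw [coreflection_apply_self, map_neg, coreflection_apply] at h1
  simp only [map_sub, map_smul, LinearMap.sub_apply, LinearMap.smul_apply, smul_eq_mul] at h1
  have h2 : B y (P.coroot i) = B (P.coroot i) (P.coroot i) / 2 * P.root' i y := by linarith
  rw [RootCh.sgnVec, RootCh.cosgnVec, hc, h2, sign_mul,
    sign_pos (half_pos (hBp (P.coroot i) (P.flip.ne_zero i))), one_mul]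

lemma inner_min {F : RootCh.Facet P} {y₀ : N} (hyc : y₀ ∈ F.dualCarrier)
    (hy₀ : y₀ ∈ RootCh.dualSolid d F) {y : N} (hy : y ∈ RootCh.solid d) :
    B y₀ y₀ ≤ B y₀ y := by
  obtain ⟨b, hb⟩ := cham_nonempty F
  have hm := dual_mem_carrier hBs hBp hBi hyc
  have h1 := le_of_mem_solid hd (hb hm) hy
  rw [← pairing_eq_of_mem_span_corners hd hb (carrier_subset_span_corners F hm)
    (fun w hw => dualSolid_mem_hyper hd hy₀ hw), LinearMap.apply_symm_toPerfPair_self] at h1
  exact h1

lemma special_min {F : RootCh.Facet P} (hF : RootCh.IsSpecial d F) :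
    ∃ y₀ : N, RootCh.yLocus d F = {y₀} ∧ y₀ ∈ RootCh.solid d ∧
      ∀ y ∈ RootCh.solid d, y ≠ y₀ → B y₀ y₀ < B y y := by
  obtain ⟨y₀, h1, h2⟩ := special_point hd hF
  obtain ⟨hyc, hy₀⟩ : y₀ ∈ F.dualCarrier ∩ RootCh.dualSolid d F := h2 ▸ Set.mem_singleton y₀
  refine ⟨y₀, h1, dualSolid_subset_solid F hy₀, fun y hy hne => ?_⟩
  have h3 := inner_min hd hBs hBp hBi hyc hy₀ hy
  have h4 := hBp (y - y₀) (sub_ne_zero.mpr hne)
  simp only [map_sub, LinearMap.sub_apply, hBs y y₀] at h4
  linarith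

lemma isSpecial_of_min {y₀ : N} (hy₀ : y₀ ∈ RootCh.solid d)
    (hmin : ∀ y ∈ RootCh.solid d, B y₀ y₀ ≤ B y y) {F : RootCh.Facet P}
    (hF : y₀ ∈ F.dualCarrier) : RootCh.IsSpecial d F ∧ RootCh.yLocus d F = {y₀} := by
  have hm := dual_mem_carrier hBs hBp hBi hF
  set m₀ := P.toPerfPair.symm (B y₀) with hm₀
  have happ : ∀ z, P.toLinearMap m₀ z = B y₀ z := fun z => by
    rw [hm₀, LinearMap.apply_symm_toPerfPair_self]
  have hle : ∀ y ∈ RootCh.solid d, B y₀ y₀ ≤ B y₀ y := fun y hy =>
    min_inner_le hBs hBp hy₀ hmin hy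
  have key : ∀ b ∈ F.cham, ∀ w ∈ F.corners, P.toLinearMap w y₀ = P.toLinearMap w (d b) := by
    intro b hb
    rw [corners_eq hb]
    rintro _ ⟨j, hj, rfl⟩
    have heq : P.toLinearMap m₀ y₀ = P.toLinearMap m₀ (d b) := by
      refine le_antisymm ?_ (le_of_mem_solid hd (hb hm) hy₀)
      rw [happ, happ]
      exact hle _ (subset_convexHull R _ ⟨b, rfl⟩)
    conv at heq => rw [eq_sum_fundWeight b m₀, map_sum, LinearMap.sum_apply, LinearMap.sum_apply]
    simp only [map_smul, LinearMap.smul_apply, smul_eq_mul] at heq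
    have h1 : ∀ i : b.support, P.coroot' i m₀ * P.toLinearMap (RootCh.fundWeight b i) (d b) ≤
        P.coroot' i m₀ * P.toLinearMap (RootCh.fundWeight b i) y₀ := fun i =>
      mul_le_mul_of_nonneg_left (le_of_mem_solid hd (fundWeight_mem_closedChamber b i) hy₀)
        (hb hm i i.2)
    have h2 := (Finset.sum_eq_sum_iff_of_le fun i _ => h1 i).mp heq.symm j (Finset.mem_univ j)
    have h3 : P.coroot' j m₀ ≠ 0 := fun e => hj (by
      rw [← show RootCh.sgnVec P m₀ = F.sgn from hm, sgnVec_eq_zero_iff]; exact e)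
    exact (mul_left_cancel₀ h3 h2).symm
  have hmem : y₀ ∈ RootCh.dualSolid d F := by
    rw [dualSolid_eq hd]
    simp only [Set.mem_inter_iff, Set.mem_iInter₂]
    refine ⟨fun w hw => ?_, fun w _ c hc => le_of_mem_solid hd hc.2 hy₀⟩
    obtain ⟨b, hb⟩ := cham_nonempty F
    exact (mem_hyper_iff hd (corners_subset_baseCorners hb hw) _).mpr (key b hb w hw)
  refine ⟨⟨y₀, hF, hmem⟩, Set.eq_singleton_iff_unique_mem.mpr ?_⟩
  have h := mem_yLocus_of_mem hd hmem (Submodule.subset_span hF)
  exact ⟨h, fun z hz => yLocus_unique hd F hz h⟩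

end Metric

lemma existsUnique_special : ∃! F : RootCh.Facet P, RootCh.IsSpecial d F := by
  have hs : ∀ u v : N, P.CorootForm u v = P.CorootForm v u := fun u v => form_comm (P := P.flip) u v
  have hp : ∀ u : N, u ≠ 0 → 0 < P.CorootForm u u := fun u hu => form_pos (P := P.flip) hu
  have hi : ∀ (i : ι) (y z : N),
      P.CorootForm (P.coreflection i y) (P.coreflection i z) = P.CorootForm y z :=
    fun i y z => P.flip.rootForm_reflection_reflection_apply i y z
  obtain ⟨b₀, -⟩ := cham_nonempty (RootCh.Facet.origin P)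
  have : Fintype P.Base := Fintype.ofFinite _
  obtain ⟨p, hp1, hp2⟩ := exists_min_convexHull hs hp
    (s := Finset.univ.image d) ⟨d b₀, by simp⟩
  rw [Finset.coe_image, Finset.coe_univ, Set.image_univ] at hp1 hp2
  obtain ⟨ξ, hξ⟩ := exists_polarization_eq b₀ p
  have hF : p ∈ (RootCh.Facet.ofVec P ξ).dualCarrier := by
    change RootCh.cosgnVec P p = RootCh.sgnVec P ξ
    rw [← hξ, cosgnVec_polarization]
  refine ⟨_, (isSpecial_of_min hd hs hp hi hp1 hp2 hF).1, fun G hG => ?_⟩
  obtain ⟨y, h1, h2, h3⟩ := special_min hd hs hp hi hG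
  obtain ⟨y', h1', h2'⟩ := special_point hd hG
  obtain rfl : y' = y := Set.singleton_injective (h1'.symm.trans h1)
  obtain ⟨hyc, -⟩ : y' ∈ G.dualCarrier ∩ RootCh.dualSolid d G := h2' ▸ Set.mem_singleton y'
  obtain rfl : p = y' := by
    by_contra hne
    exact absurd (hp2 _ h2) (not_le.mpr (h3 p hp1 hne))
  exact RootCh.Facet.ext ((show RootCh.cosgnVec P p = G.sgn from hyc).symm.trans hF)

lemma deg_le_of_special {F : RootCh.Facet P} (hF : RootCh.IsSpecial d F) {b : P.Base}
    (hb : b ∈ F.cham) {G : RootCh.Facet P} {c : P.Base} (hc : c ∈ G.cham) :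
    G.deg d c ≤ F.deg d b ∧ (G.deg d c = F.deg d b → G ≤ F) := by
  obtain ⟨y, hyc, hy⟩ := hF
  have hF' : F.deg d b = ∑ k, (if k ∈ F.parab then P.root' k y else 0) := by
    rw [deg_eq hd hb (fun w hw => dualSolid_mem_hyper hd hy hw), sigma, map_sum,
      LinearMap.sum_apply, Finset.sum_filter]
  have h1 : G.deg d c ≤ P.toLinearMap (sigma G) y := by
    rw [deg_eq_pairing hd]
    exact le_of_mem_solid hd (hc (sigma_mem_carrier G)) (dualSolid_subset_solid F hy)
  have h2 : P.toLinearMap (sigma G) y = ∑ k, (if k ∈ G.parab then P.root' k y else 0) := by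
    rw [sigma, map_sum, LinearMap.sum_apply, Finset.sum_filter]
  have hsign : ∀ k, SignType.sign (P.root' k y) = F.sgn k := fun k => congrFun hyc k
  have hterm : ∀ k, (if k ∈ G.parab then P.root' k y else 0) ≤
      (if k ∈ F.parab then P.root' k y else 0) := by
    intro k
    by_cases hkF : k ∈ F.parab
    · have h0 : 0 ≤ P.root' k y := by
        by_contra hn
        push Not at hn
        exact hkF (by rw [← hsign k]; exact sign_neg hn)
      rw [if_pos hkF]; split <;> linarith
    · have hneg : P.root' k y < 0 := by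
        have : F.sgn k = -1 := not_not.mp hkF
        rw [← hsign k] at this
        exact sign_eq_neg_one_iff.mp this
      rw [if_neg hkF]; split <;> linarith
  have hle := Finset.sum_le_sum fun k (_ : k ∈ Finset.univ) => hterm k
  refine ⟨by linarith, fun he => (le_iff_parab_subset G F).mpr fun k hk => ?_⟩
  by_contra hkF
  have heq := (Finset.sum_eq_sum_iff_of_le fun k _ => hterm k).mp (le_antisymm hle (by linarith))
    k (Finset.mem_univ k)
  rw [if_pos hk, if_neg hkF] at heq
  have : F.sgn k = -1 := not_not.mp hkF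
  rw [← hsign k, heq, sign_zero] at this
  exact absurd this (by decide)

lemma isSpecial_of_maximal {F : RootCh.Facet P} {b : P.Base} (hb : b ∈ F.cham)
    (hmax : ∀ (G : RootCh.Facet P) (c : P.Base), c ∈ G.cham → G.deg d c ≤ F.deg d b)
    (hmaxl : ∀ (G : RootCh.Facet P) (c : P.Base), c ∈ G.cham → G.deg d c = F.deg d b → F ≤ G →
      G = F) : RootCh.IsSpecial d F := by
  obtain ⟨F₀, hF₀, -⟩ := existsUnique_special hd
  obtain ⟨c, hc⟩ := cham_nonempty F₀
  obtain ⟨h1, h2⟩ := deg_le_of_special hd hF₀ hc hb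
  have he : F.deg d b = F₀.deg d c := le_antisymm h1 (hmax F₀ c hc)
  rwa [← hmaxl F₀ c hc he.symm (h2 he)]

end Groth.Agent.Roots36.Ch
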