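import Groth.Agent.Roots36.Facet
import Groth.Prelude.Def_RootCh2

set_option autoImplicit false
set_option linter.unusedSectionVars false
set_option linter.unusedSimpArgs false

open Set Function RootPairing Module
open scoped Classical

namespace Groth.Agent.Roots36

variable {ι R M N : Type*} [CommRing R] [AddCommGroup M] [Module R M] [AddCommGroup N] [Module R N]
  {P : RootPairing ι R M N} [CharZero R] [IsDomain R] [P.IsCrystallographic] [Fintype ι]

lemma isIndiv_of_isReduced [P.IsReduced] (i : ι) : RootD.IsIndiv P i := fun j hj => by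
  have := isAddTorsionFree_M P
  refine RootPairing.nsmul_notMem_range_root (n := 2) (P := P) (i := j) ⟨i, ?_⟩
  rw [← hj, ← Nat.cast_smul_eq_nsmul R]; norm_num

/-- In the reduced case the positive roots have total pairing two with a simple coroot. -/
lemma sum_pairingIn_posOf [P.IsReduced] {Δ : Set ι} (hΔ : RootD.IsSimpleSys P Δ) {i : ι}
    (hi : i ∈ Δ) :
    ∑ k ∈ Finset.univ.filter (· ∈ RootD.posOf P Δ), P.pairingIn ℤ k i = 2 := by
  let s := (Finset.univ.filter (· ∈ RootD.posOf P Δ)).erase i
  have hmem : i ∈ Finset.univ.filter (· ∈ RootD.posOf P Δ) := by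
    simp [simple_mem_posOf hΔ hi]
  rw [← Finset.add_sum_erase _ _ hmem, pairingIn_self, add_eq_left]
  refine Finset.sum_involution (fun k _ => P.reflectionPerm i k) ?_ ?_ ?_ ?_
  · intro k hk
    apply FaithfulSMul.algebraMap_injective ℤ R
    simp only [map_add, map_zero, algebraMap_pairingIn, ← pairing_reflectionPerm]
    rw [pairing_reflectionPerm_self_right]; ring
  · intro k _ hne he
    apply hne
    have h := congrArg P.root he
    rw [root_reflectionPerm_int, sub_eq_self] at h
    exact zsmul_root_inj P (b := 0) (h.trans (zero_smul ℤ _).symm)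
  · intro k hk
    simp only [Finset.mem_erase, Finset.mem_filter, Finset.mem_univ, true_and] at hk ⊢
    obtain ⟨hki, hk⟩ := hk
    refine ⟨fun e => ?_, reflect_posOf hΔ hi hk
      (exists_coef_ne_of_not_prop hΔ hi hk hki (isIndiv_of_isReduced k))⟩
    have hkn : k = neg P i := by
      rw [← reflection_reflection_smul (P := P) i k, reflection_smul_index i k, e]; rfl
    exact (neg_posOf_iff hΔ).mp (hkn ▸ hk) (simple_mem_posOf hΔ hi)
  · intro k _; exact reflection_reflection_smul i k

lemma coroot'_sum_root_eq_zero (S : Finset ι) {i : ι}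
    (hS : ∀ k ∈ S, P.reflectionPerm i k ∈ S) : P.coroot' i (∑ k ∈ S, P.root k) = 0 := by
  rw [map_sum]
  simp only [root_coroot'_eq_pairing]
  refine Finset.sum_involution (fun k _ => P.reflectionPerm i k) ?_ ?_ hS ?_
  · intro k _
    rw [← pairing_reflectionPerm, pairing_reflectionPerm_self_right]; ring
  · intro k _ hne he
    apply hne
    have h := congrArg P.root he
    rw [root_reflectionPerm, reflection_apply_root, sub_eq_self] at h
    by_contra h0
    exact P.ne_zero i (cast_smul_cancel P h0 (h.trans (smul_zero _).symm))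
  · intro k _; exact reflection_reflection_smul i k

end Groth.Agent.Roots36

namespace Groth.Agent.Roots36.Ch

universe u v w x

variable {ι : Type u} {R : Type v} {M : Type w} {N : Type x}
  [Field R] [LinearOrder R] [IsStrictOrderedRing R]
  [AddCommGroup M] [Module R M] [AddCommGroup N] [Module R N] [Fintype ι]
  {P : RootPairing ι R M N} [P.IsRootSystem] [P.IsCrystallographic]

/-- The sum of the roots of the parabolic set of a facet. -/
noncomputable def sigma (F : RootCh.Facet P) : M :=
  ∑ k ∈ Finset.univ.filter (· ∈ F.parab), P.root k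

lemma sigma_eq (F : RootCh.Facet P) :
    sigma F = ∑ i ∈ (Set.toFinite F.parab).toFinset, P.root i :=
  Finset.sum_congr (by ext; simp) fun _ _ => rfl

lemma sgn_reflect (F : RootCh.Facet P) {i : ι} (h0 : F.sgn i = 0) (k : ι) :
    F.sgn (P.reflectionPerm i k) = F.sgn k := by
  have hfix : RootPairing.Equiv.reflection P i • rep F = rep F := by
    rw [RootPairing.Equiv.reflection_smul, RootPairing.reflection_apply]
    rw [← sgnVec_rep F, sgnVec_eq_zero_iff] at h0
    rw [h0, zero_smul, sub_zero]
  have h : P.coroot' (RootPairing.Equiv.reflection P i • k) (rep F) = P.coroot' k (rep F) := by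
    conv_lhs => rw [← hfix]
    exact coroot'_smul _ _ _
  rw [← sgnVec_rep F]
  exact congrArg SignType.sign h

lemma sigma_mem_carrier [P.IsReduced] (F : RootCh.Facet P) : sigma F ∈ F.carrier := by
  obtain ⟨b, hb⟩ := cham_nonempty F
  refine (mem_carrier_iff hb).mpr fun i hi => ?_
  rcases sgn_simple hb hi with h0 | h1
  · rw [h0, sgnVec_eq_zero_iff]
    refine coroot'_sum_root_eq_zero _ fun k hk => ?_
    simp only [Finset.mem_filter, Finset.mem_univ, true_and] at hk ⊢
    change F.sgn _ ≠ -1
    rw [sgn_reflect F h0]; exact hk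
  · rw [h1]
    refine sign_pos ?_
    have hbs := base_isSimpleSys b
    have hcast : P.coroot' i (sigma F) =
        ((∑ k ∈ Finset.univ.filter (· ∈ F.parab), P.pairingIn ℤ k i : ℤ) : R) := by
      rw [sigma, map_sum, Int.cast_sum]
      exact Finset.sum_congr rfl fun k _ => by rw [root_coroot'_eq_pairing, pairing_eq_cast]
    rw [hcast, Int.cast_pos]
    rw [← Finset.sum_filter_add_sum_filter_not _ (· ∈ RootD.posOf P (b.support : Set ι))]
    have e : (Finset.univ.filter (· ∈ F.parab)).filter (· ∈ RootD.posOf P (b.support : Set ι))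
        = Finset.univ.filter (· ∈ RootD.posOf P (b.support : Set ι)) := by
      ext k
      simp only [Finset.mem_filter, Finset.mem_univ, true_and]
      exact ⟨fun h => h.2, fun h => ⟨(mem_parab_iff hb).mpr (Or.inl h), h⟩⟩
    rw [e, sum_pairingIn_posOf hbs hi]
    refine lt_add_of_pos_of_le two_pos (Finset.sum_nonneg fun k hk => ?_)
    simp only [Finset.mem_filter, Finset.mem_univ, true_and] at hk
    have hsupp := ((mem_parab_iff hb).mp hk.1).resolve_left hk.2
    rw [pairingIn_eq_sum hbs k i]
    refine Finset.sum_nonneg fun j _ => ?_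
    by_cases hj : coef hbs k j = 0
    · simp [hj]
    · have hjb : j ∈ b.support := by
        by_contra hjb
        exact hj (coef_eq_zero _ (show j ∉ (b.support : Set ι) from hjb))
      have hji : j ≠ i := fun e => by
        rw [e] at hj
        have := hsupp i hj
        rw [h1] at this
        exact absurd this (by decide)
      exact mul_nonneg_of_nonpos_of_nonpos ((not_posOf_iff hbs).mp hk.2 j)
        (b.pairingIn_le_zero_of_ne hji hjb hi)

lemma root'_fundCoweight_eq_coef (b : P.Base) (i : b.support) (k : ι) :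
    P.root' k (RootCh.fundCoweight b i) = (coef (base_isSimpleSys b) k i : R) := by
  change P.toLinearMap (P.root k) _ = _
  rw [root_eq_comb (base_isSimpleSys b) k, comb, map_sum, LinearMap.sum_apply,
    Finset.sum_eq_single (i : ι)]
  · rw [map_zsmul, LinearMap.smul_apply, zsmul_eq_mul]
    change _ * P.root' i (RootCh.fundCoweight b i) = _
    rw [RootCh.root'_fundCoweight_self, mul_one]
  · intro j _ hj
    by_cases hjb : j ∈ b.support
    · rw [map_zsmul, LinearMap.smul_apply]
      change _ • P.root' j (RootCh.fundCoweight b i) = _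
      rw [root'_fundCoweight b i ⟨j, hjb⟩, if_neg hj, smul_zero]
    · rw [coef_eq_zero (base_isSimpleSys b) (show j ∉ (b.support : Set ι) from hjb), zero_smul,
        map_zero, LinearMap.zero_apply]
  · simp

lemma mem_Psi_iff {F : RootCh.Facet P} {b : P.Base} (hb : b ∈ F.cham) {i₀ : b.support}
    (k : ι) : k ∈ F.Psi (RootCh.fundWeight b i₀) ↔ coef (base_isSimpleSys b) k i₀ = 1 ∧
      ∀ j : b.support, j ≠ i₀ → F.sgn j ≠ 0 → coef (base_isSimpleSys b) k j = 0 := by
  simp only [RootCh.Facet.Psi, Set.mem_ofPred_eq, corr_iff, forall_eq,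
    root'_fundCoweight_eq_coef, Int.cast_eq_one]
  refine and_congr Iff.rfl ⟨fun h j hj hs => ?_, fun h w hw hne => ?_⟩
  · have hmem : RootCh.fundWeight b j ∈ F.corners := by rw [corners_eq hb]; exact ⟨j, hs, rfl⟩
    have := h _ hmem (fun e => hj (fundWeight_injective b e)) _ ((corr_iff b j _).mpr rfl)
    rw [root'_fundCoweight_eq_coef, Int.cast_eq_zero] at this
    exact this
  · rw [corners_eq hb] at hw
    obtain ⟨j, hj, rfl⟩ := hw
    intro x hx
    rw [(corr_iff b j x).mp hx, root'_fundCoweight_eq_coef,
      h j (fun e => hne (by rw [e])) hj, Int.cast_zero]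

lemma sum_Psi_mem_span_corners [P.IsReduced] {F : RootCh.Facet P} {m : M} (hm : m ∈ F.corners) :
    (∑ i ∈ (Set.toFinite (F.Psi m)).toFinset, P.root i) ∈ Submodule.span R F.corners := by
  obtain ⟨b, hb⟩ := cham_nonempty F
  rw [corners_eq hb] at hm
  obtain ⟨i₀, hi₀, rfl⟩ := hm
  refine (mem_span_corners_iff hb).mpr fun i hi h0 => coroot'_sum_root_eq_zero _ fun k hk => ?_
  simp only [Set.Finite.mem_toFinset, mem_Psi_iff hb] at hk ⊢
  have hbs := base_isSimpleSys b
  have hne : ∀ j : b.support, F.sgn j ≠ 0 →
      coef hbs (P.reflectionPerm i k) j = coef hbs k j := fun j hj => by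
    have : (j : ι) ≠ i := fun e => hj (e ▸ h0)
    simp [coef_reflect hbs (Finset.mem_coe.mpr hi), Pi.single_apply, this]
  exact ⟨by rw [hne i₀ hi₀]; exact hk.1, fun j hj hs => by rw [hne j hs]; exact hk.2 j hj hs⟩

end Groth.Agent.Roots36.Ch
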